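import Mathlib
import Cfsg.Agent.S3559

/-!
Schur's theorem for prime-power degree: a primitive group with a regular cyclic subgroup of order
`p ^ m`, `2 ≤ m`, is doubly transitive. The proof uses the multiplier theorem, the coset lemma and
one count.
-/

set_option autoImplicit false
set_option linter.unusedSectionVars false

namespace Cfsg.Agent.Perm.SchurPrimePower

open Cfsg.Agent.S3559
open Finset

/-- The count. -/
theorem count {p n M : ℕ} [hp : Fact p.Prime] [NeZero n] (π : ZMod n →+* ZMod p)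
    (hM : ∀ a : ZMod p, (univ.filter fun z : ZMod n => π z = a).card = M) (hM2 : 1 < M)
    (ι : ZMod p →+ ZMod n) (hι : Function.Injective ι) (hιπ : ∀ a, π (ι a) = 0)
    (Xs : Finset (ZMod n)) (H : Finset (ZMod p))
    (h0 : (0 : ZMod n) ∉ Xs) (h1 : (1 : ZMod n) ∈ Xs)
    (hunit : ∀ z, π z ≠ 0 → (z ∈ Xs ↔ π z ∈ H))
    (hK : ∀ a, ι a ∈ Xs ↔ a ∈ H)
    (hco : ∀ z ∈ Xs, (∀ a, z ≠ ι a) → ∀ a, z + ι a ∈ Xs)
    (hc : (Xs.filter fun z => z + 1 ∈ Xs).card = (Xs.filter fun z => z + ι 1 ∈ Xs).card)
    (hA : (p - 1) * (Xs.filter fun z => π z = 0).card = H.card * (M - 1)) :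
    H.card = p - 1 := by
  classical
  have hH0 : (0 : ZMod p) ∉ H := fun h => h0 (by simpa using (hK 0).mpr h)
  have hp1 : π 1 = 1 := map_one π
  have h1H : (1 : ZMod p) ∈ H := by
    have := (hunit 1 (by rw [hp1]; exact one_ne_zero)).mp h1
    rwa [hp1] at this
  set L := H.filter fun a => a + 1 ∈ H
  set A := (Xs.filter fun z => π z = 0).card
  -- size
  have hX : Xs.card = A + H.card * M := by
    rw [← Finset.card_filter_add_card_filter_not (fun z => π z = 0) (s := Xs)]
    congr 1
    have hs : ∀ z ∈ Xs.filter (fun z => ¬ π z = 0), π z ∈ H := fun z hz =>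
      (hunit z (Finset.mem_filter.mp hz).2).mp (Finset.mem_filter.mp hz).1
    rw [Finset.card_eq_sum_card_fiberwise hs, Finset.sum_congr rfl (g := fun _ => M), Finset.sum_const,
      smul_eq_mul]
    intro a ha
    rw [← hM a]
    congr 1
    ext z
    simp only [Finset.mem_filter, Finset.mem_univ, true_and]
    refine ⟨fun h => h.2, fun h => ⟨⟨(hunit z ?_).mpr (h ▸ ha), ?_⟩, h⟩⟩ <;>
    · rw [h]; exact fun e => hH0 (e ▸ ha)
  -- translation by the small element
  have hk : (Xs.filter fun z => z + ι 1 ∈ Xs).card + H.card = Xs.card + L.card := by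
    have hsplit := Finset.card_filter_add_card_filter_not (fun z => ∃ a, z = ι a) (s := Xs)
    have e1 : Xs.filter (fun z => ∃ a, z = ι a) = H.image ι := by
      ext z
      simp only [Finset.mem_filter, Finset.mem_image]
      constructor
      · rintro ⟨hz, a, rfl⟩; exact ⟨a, (hK a).mp hz, rfl⟩
      · rintro ⟨a, ha, rfl⟩; exact ⟨(hK a).mpr ha, a, rfl⟩
    have hsplit' := Finset.card_filter_add_card_filter_not (fun z => ∃ a, z = ι a)
      (s := Xs.filter fun z => z + ι 1 ∈ Xs)
    have e2 : (Xs.filter fun z => z + ι 1 ∈ Xs).filter (fun z => ∃ a, z = ι a) = L.image ι := by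
      ext z
      simp only [Finset.mem_filter, Finset.mem_image, L]
      constructor
      · rintro ⟨⟨hz, hz'⟩, a, rfl⟩
        rw [← map_add] at hz'
        exact ⟨a, ⟨(hK a).mp hz, (hK _).mp hz'⟩, rfl⟩
      · rintro ⟨a, ⟨ha, ha'⟩, rfl⟩
        exact ⟨⟨(hK a).mpr ha, by rw [← map_add]; exact (hK _).mpr ha'⟩, a, rfl⟩
    have e3 : (Xs.filter fun z => z + ι 1 ∈ Xs).filter (fun z => ¬ ∃ a, z = ι a) =
        Xs.filter (fun z => ¬ ∃ a, z = ι a) := by
      ext z
      simp only [Finset.mem_filter, not_exists]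
      exact ⟨fun h => ⟨h.1.1, h.2⟩, fun h => ⟨⟨h.1, hco z h.1 h.2 1⟩, h.2⟩⟩
    rw [e2, e3, Finset.card_image_of_injective _ hι] at hsplit'
    rw [e1, Finset.card_image_of_injective _ hι] at hsplit
    omega
  -- translation by the generator
  set δ := if (-1 : ZMod p) ∈ H then A else 0
  have hgen : (Xs.filter fun z => z + 1 ∈ Xs).card = A + (δ + L.card * M) := by
    set F := Xs.filter fun z => z + 1 ∈ Xs
    rw [← Finset.card_filter_add_card_filter_not (fun z => π z = 0) (s := F)]
    congr 1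
    · congr 1
      ext z
      simp only [F, Finset.mem_filter]
      refine ⟨fun h => ⟨h.1.1, h.2⟩, fun h => ⟨⟨h.1, (hunit _ ?_).mpr ?_⟩, h.2⟩⟩
      · rw [map_add, h.2, hp1, zero_add]; exact one_ne_zero
      · rw [map_add, h.2, hp1, zero_add]; exact h1H
    rw [← Finset.card_filter_add_card_filter_not (fun z => π z = -1) (s := F.filter fun z => ¬ π z = 0)]
    congr 1
    · by_cases hm : (-1 : ZMod p) ∈ H
      · simp only [δ, if_pos hm, A]
        refine Finset.card_bij (fun z _ => z + 1) ?_ (fun _ _ _ _ h => add_right_cancel h) ?_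
        · intro z hz
          simp only [F, Finset.mem_filter] at hz
          exact Finset.mem_filter.mpr ⟨hz.1.1.2, by rw [map_add, hz.2, hp1, neg_add_cancel]⟩
        · intro w hw
          obtain ⟨hwX, hw0⟩ := Finset.mem_filter.mp hw
          have hne : π (w - 1) ≠ 0 := by rw [map_sub, hw0, hp1, zero_sub]; exact neg_ne_zero.mpr one_ne_zero
          refine ⟨w - 1, ?_, sub_add_cancel w 1⟩
          simp only [F, Finset.mem_filter, sub_add_cancel]
          refine ⟨⟨⟨(hunit _ hne).mpr ?_, hwX⟩, hne⟩, ?_⟩ <;> rw [map_sub, hw0, hp1, zero_sub]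
          exact hm
      · simp only [δ, if_neg hm]
        rw [Finset.card_eq_zero, Finset.filter_eq_empty_iff]
        intro z hz he
        simp only [F, Finset.mem_filter] at hz
        exact hm (he ▸ (hunit z hz.2).mp hz.1.1)
    · have hs : ∀ z ∈ (F.filter fun z => ¬ π z = 0).filter (fun z => ¬ π z = -1), π z ∈ L := by
        intro z hz
        simp only [F, Finset.mem_filter] at hz
        have hne : π (z + 1) ≠ 0 := by
          rw [map_add, hp1]
          exact fun e => hz.2 (eq_neg_of_add_eq_zero_left e)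
        refine Finset.mem_filter.mpr ⟨(hunit z hz.1.2).mp hz.1.1.1, ?_⟩
        have := (hunit _ hne).mp hz.1.1.2
        rwa [map_add, hp1] at this
      rw [Finset.card_eq_sum_card_fiberwise hs, Finset.sum_congr rfl (g := fun _ => M), Finset.sum_const,
        smul_eq_mul]
      intro a ha
      obtain ⟨ha1, ha2⟩ := Finset.mem_filter.mp ha
      rw [← hM a]
      congr 1
      ext z
      simp only [F, Finset.mem_filter, Finset.mem_univ, true_and]
      refine ⟨fun h => h.2, fun h => ?_⟩
      have hz0 : π z ≠ 0 := by rw [h]; exact fun e => hH0 (e ▸ ha1)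
      have hz1 : π (z + 1) ≠ 0 := by rw [map_add, hp1, h]; exact fun e => hH0 (e ▸ ha2)
      refine ⟨⟨⟨⟨(hunit z hz0).mpr (h ▸ ha1), (hunit _ hz1).mpr (by rw [map_add, hp1, h]; exact ha2)⟩,
        hz0⟩, fun e => ?_⟩, h⟩
      rw [h] at e
      rw [e, neg_add_cancel] at ha2
      exact hH0 ha2
  -- conclude
  have hlt : L.card ≤ H.card := Finset.card_filter_le _ _
  have hne : L.card ≠ H.card := by
    intro e
    have hall : ∀ a ∈ H, a + 1 ∈ H := fun a ha => by
      have := Finset.eq_of_subset_of_card_le (Finset.filter_subset _ H) e.ge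
      rw [← this] at ha
      exact (Finset.mem_filter.mp ha).2
    have : ∀ k : ℕ, (1 + (k : ZMod p)) ∈ H := by
      intro k
      induction k with
      | zero => simpa using h1H
      | succ k ih => rw [Nat.cast_succ, ← add_assoc]; exact hall _ ih
    have h2 := this (-1 : ZMod p).val
    rw [ZMod.natCast_zmod_val, add_neg_cancel] at h2
    exact hH0 h2
  obtain ⟨t, ht, ht0⟩ : ∃ t, H.card = L.card + t ∧ t ≠ 0 := ⟨H.card - L.card, by omega, by omega⟩
  have h2p := hp.out.two_le
  have key : t * (M - 1) = δ := by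
    have e := hk
    rw [← hc, hgen, hX] at e
    obtain ⟨N, rfl⟩ := Nat.exists_eq_add_of_le hM2.le
    rw [ht] at e
    rw [Nat.add_sub_cancel_left]
    nlinarith
  by_cases hm : (-1 : ZMod p) ∈ H
  · simp only [δ, if_pos hm] at key
    have h3 : (t * (p - 1)) * (M - 1) = H.card * (M - 1) := by rw [← hA, ← key]; ring
    have h4 := Nat.eq_of_mul_eq_mul_right (by omega : 0 < M - 1) h3
    have h5 : H.card ≤ p - 1 := by
      have := Finset.card_le_card (show H ⊆ univ.erase (0 : ZMod p) from fun a ha =>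
        Finset.mem_erase.mpr ⟨fun e => hH0 (e ▸ ha), Finset.mem_univ _⟩)
      rwa [Finset.card_erase_of_mem (Finset.mem_univ _), Finset.card_univ, ZMod.card] at this
    have h6 : 1 * (p - 1) ≤ t * (p - 1) := Nat.mul_le_mul_right _ (Nat.pos_of_ne_zero ht0)
    omega
  · simp only [δ, if_neg hm, Nat.mul_eq_zero] at key
    omega

section
variable {G Ω : Type*} [Group G] [MulAction G Ω] [MulAction.IsPretransitive G Ω] {R : Subgroup G}
  [Finite R] [IsCyclic R] {a : Ω}

/-- Multiplier theorem for a prime. -/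
theorem carries_pow_prime (hbij : Function.Bijective fun r : R => (r : G) • a) {q : ℕ} [Fact q.Prime]
    (hq : (Nat.card R).Coprime q) (Y : Set R) (hY : ∀ r r', Carries R a r r' → r ∈ Y → r' ∈ Y) :
    ∀ r r', Carries R a r r' → r ∈ (fun z : R => z ^ q) '' Y → r' ∈ (fun z : R => z ^ q) '' Y := by
  classical
  letI : CommGroup R := IsCyclic.commGroup
  haveI := Fintype.ofFinite R
  have hq' := Fact.out (p := q.Prime)
  let F : MonoidAlgebra (ZMod q) R := ∑ z ∈ Finset.univ.filter (· ∈ Y), MonoidAlgebra.single z 1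
  have hF : ∀ r, F.coeff r = if r ∈ Y then 1 else 0 := fun r => by
    simp [F, Finsupp.finset_sum_apply, Finsupp.single_apply]
  have hinv : Invar R a (fun r => F.coeff r) := fun r r' h => by
    simp only []
    rw [hF, hF]
    by_cases hr : r ∈ Y
    · rw [if_pos hr, if_pos (hY r r' h hr)]
    · rw [if_neg hr, if_neg fun e => hr (hY r' r (carries_symm h) e)]
  have hmul : ∀ A B : MonoidAlgebra (ZMod q) R, ∀ r, (A * B).coeff r = ∑ s, A.coeff s * B.coeff (s⁻¹ * r) :=
    fun A B r => by
    rw [MonoidAlgebra.coeff_mul_apply_left, Finsupp.sum_fintype]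
    intro s; rw [zero_mul]
  have hpow : ∀ n : ℕ, Invar R a (fun r => (F ^ (n + 1)).coeff r) := by
    intro n
    induction n with
    | zero => simpa using hinv
    | succ n ih =>
      intro r r' h
      simp only []
      rw [pow_succ, hmul, hmul]
      exact invar_conv hbij ih hinv r r' h
  haveI : ExpChar (MonoidAlgebra (ZMod q) R) q := by
    haveI : CharP (MonoidAlgebra (ZMod q) R) q := charP_of_injective_algebraMap
      (RingHom.injective (algebraMap (ZMod q) (MonoidAlgebra (ZMod q) R))) q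
    exact ExpChar.prime hq'
  have hinj : Function.Injective fun z : R => z ^ q := (powCoprime hq).injective
  have hFq : ∀ y : R, (F ^ q).coeff y = if y ∈ (fun z : R => z ^ q) '' Y then 1 else 0 := by
    intro y
    rw [sum_pow_char]
    simp only [MonoidAlgebra.single_pow, one_pow]
    by_cases hy : y ∈ (fun z : R => z ^ q) '' Y
    · obtain ⟨z, hz, rfl⟩ := hy
      rw [if_pos ⟨z, hz, rfl⟩]
      have : ∀ w : R, w ^ q = z ^ q ↔ w = z := fun w => hinj.eq_iff
      simp [Finsupp.finset_sum_apply, Finsupp.single_apply, this, hz]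
    · rw [if_neg hy]
      have : ∀ w ∈ Y, w ^ q ≠ y := fun w hw e => hy ⟨w, hw, e⟩
      have he : (Finset.univ.filter fun w => w ∈ Y ∧ w ^ q = y) = ∅ :=
        Finset.filter_eq_empty_iff.mpr fun w _ h => this w h.1 h.2
      simp [Finsupp.finset_sum_apply, Finsupp.single_apply, Finset.filter_filter, he]
  intro r r' h hr
  have := hpow (q - 1) r r' h
  rw [Nat.sub_add_cancel hq'.one_le] at this
  simp only [] at this
  rw [hFq, hFq, if_pos hr] at this
  by_contra hr'
  rw [if_neg hr'] at this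
  exact zero_ne_one this

/-- Multiplier theorem. -/
theorem carries_pow (hbij : Function.Bijective fun r : R => (r : G) • a) :
    ∀ j : ℕ, (Nat.card R).Coprime j → ∀ (Y : Set R), (∀ r r', Carries R a r r' → r ∈ Y → r' ∈ Y) →
    ∀ r r', Carries R a r r' → r ∈ (fun z : R => z ^ j) '' Y → r' ∈ (fun z : R => z ^ j) '' Y := by
  intro j
  induction j using Nat.strong_induction_on with
  | _ j ih =>
    intro hj Y hY r r' h hr
    rcases eq_or_ne j 1 with rfl | hj1
    · simp only [pow_one, Set.image_id'] at hr ⊢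
      exact hY r r' h hr
    rcases Nat.eq_zero_or_pos j with rfl | hjpos
    · have h1 : Nat.card R = 1 := Nat.coprime_zero_right _ |>.mp hj
      haveI := (Nat.card_eq_one_iff_unique.mp h1).1
      rwa [Subsingleton.elim r' r]
    obtain ⟨q, hq, ⟨i, rfl⟩⟩ := Nat.exists_prime_and_dvd hj1
    haveI := Fact.mk hq
    have hi : i < q * i :=
      lt_mul_of_one_lt_left (Nat.pos_of_ne_zero fun e => by rw [e, mul_zero] at hjpos; exact lt_irrefl 0 hjpos) hq.one_lt
    have e : (fun z : R => z ^ (q * i)) '' Y = (fun z : R => z ^ q) '' ((fun z : R => z ^ i) '' Y) := by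
      rw [Set.image_image]
      exact Set.image_congr fun z _ => by rw [← pow_mul, mul_comm]
    rw [e] at hr ⊢
    exact carries_pow_prime hbij hj.coprime_mul_right_right _
      (ih i hi hj.coprime_mul_left_right Y hY) r r' h hr

/-- Powers prime to the order respect orbits. -/
theorem carries_pow' (hbij : Function.Bijective fun r : R => (r : G) • a) {j : ℕ}
    (hj : (Nat.card R).Coprime j) {r r' : R} (h : Carries R a r r') : Carries R a (r ^ j) (r' ^ j) := by
  obtain ⟨i, hi⟩ : ∃ i, ∀ z : R, (z ^ j) ^ i = z := by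
    refine ⟨(j.gcdB (Nat.card R) * 0 + 0).toNat + ((j : ZMod (Nat.card R))⁻¹).val, fun z => ?_⟩
    simp only [mul_zero, add_zero, Int.toNat_zero, zero_add]
    have h1 : ((j * ((j : ZMod (Nat.card R))⁻¹).val : ℕ) : ZMod (Nat.card R)) = ((1 : ℕ) : ZMod (Nat.card R)) := by
      haveI : NeZero (Nat.card R) := ⟨Nat.card_pos.ne'⟩
      rw [Nat.cast_mul, ZMod.natCast_zmod_val, ZMod.coe_mul_inv_eq_one j hj.symm, Nat.cast_one]
    rw [← pow_mul]
    have h2 := (ZMod.natCast_eq_natCast_iff _ _ _).mp h1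
    have h3 : z ^ (j * ((j : ZMod (Nat.card R))⁻¹).val) = z ^ 1 :=
      pow_eq_pow_iff_modEq.mpr (h2.of_dvd (orderOf_dvd_natCard z))
    rwa [pow_one] at h3
  have hcop : (Nat.card R).Coprime i := by
    by_contra hc
    obtain ⟨q, hq, hqn, hqi⟩ := Nat.Prime.not_coprime_iff_dvd.mp hc
    haveI := Fact.mk hq
    obtain ⟨u, hu⟩ := exists_prime_orderOf_dvd_card' (G := R) q hqn
    have h0 : u ^ (j * i) = 1 := by
      rw [← orderOf_dvd_iff_pow_eq_one, hu]; exact hqi.mul_left j
    rw [pow_mul, hi u] at h0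
    rw [h0, orderOf_one] at hu
    exact hq.one_lt.ne hu
  obtain ⟨u, hu, hu'⟩ := carries_pow hbij i hcop {z | Carries R a (r ^ j) z}
    (fun s t hst hs => carries_trans hs hst) r r' h ⟨r ^ j, carries_refl _, hi r⟩
  have hu'' : u ^ i = r' := hu'
  have : u = r' ^ j := by
    have h1 : (u ^ i) ^ j = u := by rw [← pow_mul, mul_comm, pow_mul, hi]
    rw [← h1, hu'']
  rwa [← this]

/-- The regular cyclic group of prime-power order: one orbit off the identity. -/
theorem carries_all (hbij : Function.Bijective fun r : R => (r : G) • a)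
    (hco : IsCoatom (MulAction.stabilizer G a)) {p m : ℕ} [hp : Fact p.Prime] (hm : 2 ≤ m)
    (hR : Nat.card R = p ^ m) (r s : R) (hr : r ≠ 1) (hs : s ≠ 1) : Carries R a r s := by
  classical
  letI : CommGroup R := IsCyclic.commGroup
  haveI := Fintype.ofFinite R
  have hpn : p ∣ Nat.card R := hR ▸ dvd_pow_self p (by omega)
  have hne1 : ∀ {r t : R}, r ≠ 1 → Carries R a r t → t ≠ 1 := by
    rintro r t hr hc rfl
    obtain ⟨h, hh, he⟩ := carries_symm hc
    rw [Subgroup.coe_one, one_smul, hh] at he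
    exact hr (hbij.1 (show (r : G) • a = ((1 : R) : G) • a by rw [Subgroup.coe_one, one_smul, ← he]))
  -- every orbit has a small and a large element
  have hbig : ∀ r : R, r ≠ 1 → ∀ U : Subgroup R, U ≠ ⊤ → ∃ t, Carries R a r t ∧ t ∉ U := by
    intro r hr U hU
    by_contra hcon
    push Not at hcon
    have h := closure_eq_top hbij hco {t | Carries R a r t} (fun _ _ h' h'' => carries_trans h'' h') r
      (carries_refl r) hr
    exact hU (top_le_iff.mp (h ▸ (Subgroup.closure_le U).mpr hcon))
  have hsmall : ∀ r : R, r ≠ 1 → ∃ t, Carries R a r t ∧ t ^ p = 1 ∧ t ≠ 1 := by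
    intro x hx
    by_contra hcon
    push Not at hcon
    let X : Set R := {r | Carries R a x r}
    have hX : ∀ r r', Carries R a r r' → r ∈ X → r' ∈ X := fun r r' h hr => carries_trans hr h
    have h1X : (1 : R) ∉ X := fun h => hne1 hx h rfl
    have hxp : ∀ y ∈ X, y ^ p ≠ 1 := fun y hy h => hne1 hx hy (hcon y hy h)
    obtain ⟨u0, hu0⟩ := exists_prime_orderOf_dvd_card' (G := R) p hpn
    have hu01 : u0 ≠ 1 := fun e => by rw [e, orderOf_one] at hu0; exact hp.out.one_lt.ne hu0
    have hu0p : u0 ^ p = 1 := by rw [← hu0, pow_orderOf_eq_one]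
    let f : R → ℕ := fun s => if s⁻¹ ∈ X then 1 else 0
    let g : R → ℕ := fun s => if s ∈ X then 1 else 0
    have hg : Invar R a g := fun r r' h => by
      simp only [g]
      exact if_congr ⟨hX r' r (carries_symm h), hX r r' h⟩ rfl rfl
    have hf : Invar R a f := fun r r' h => hg _ _ (carries_inv h)
    let c : R → ℕ := fun r => ∑ s, f s * g (s⁻¹ * r)
    have hc : Invar R a c := invar_conv hbij hf hg
    have hfull : ∀ r, c r = c 1 ↔ ∀ y ∈ X, y * r ∈ X := by
      intro r
      have hle : ∀ s ∈ (Finset.univ : Finset R), f s * g (s⁻¹ * r) ≤ f s * g (s⁻¹ * 1) := fun s _ => by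
        simp only [f, g, mul_one]; split_ifs <;> simp
      rw [show c r = c 1 ↔ _ from Finset.sum_eq_sum_iff_of_le hle]
      constructor
      · intro h y hy
        have := h y⁻¹ (Finset.mem_univ _)
        simp only [f, g, mul_one, inv_inv, if_pos hy, one_mul] at this
        by_contra hyr
        rw [if_neg hyr] at this
        exact zero_ne_one this
      · intro h s _
        simp only [f, g, mul_one]
        by_cases hs : s⁻¹ ∈ X
        · rw [if_pos hs, if_pos (h _ hs)]
        · rw [if_neg hs, zero_mul, zero_mul]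
    let St : Set R := {r | ∀ y ∈ X, y * r ∈ X}
    have hSt : ∀ r r', Carries R a r r' → r ∈ St → r' ∈ St := fun r r' h hr =>
      (hfull r').mp ((hc r r' h).trans ((hfull r).mpr hr))
    have htop := closure_eq_top hbij hco St hSt u0
      (fun y hy => kernel_coset hbij hco p hpn X hX y hy (hxp y hy) u0 hu0p) hu01
    have hStU : ∀ r : R, r ∈ St := by
      intro r
      have hr : r ∈ Submonoid.closure St := by
        rw [← Subgroup.closure_toSubmonoid_of_finite, htop]; trivial
      induction hr using Submonoid.closure_induction with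
      | mem r hr => exact hr
      | one => intro y hy; rwa [mul_one]
      | mul s t _ _ hs ht => intro y hy; rw [← mul_assoc]; exact ht _ (hs y hy)
    exact h1X (by simpa using hStU x⁻¹ x (carries_refl x))
  -- coordinates
  obtain ⟨n, hn⟩ : ∃ n, n = p ^ m := ⟨_, rfl⟩
  haveI : NeZero n := ⟨hn ▸ pow_ne_zero _ hp.out.ne_zero⟩
  obtain ⟨g₀, hg₀⟩ := IsCyclic.exists_generator (α := R)
  have ho : orderOf g₀ = n := by
    rw [orderOf_eq_card_of_forall_mem_zpowers hg₀, hR, hn]
  have hmodn : ∀ k : ℕ, g₀ ^ (k % n) = g₀ ^ k := fun k => by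
    have e := pow_mod_orderOf g₀ k
    simp only [ho] at e
    exact e
  let f : ZMod n → R := fun z => g₀ ^ z.val
  have hfN : ∀ k : ℕ, f (k : ZMod n) = g₀ ^ k := fun k => by
    show g₀ ^ (k : ZMod n).val = g₀ ^ k
    rw [ZMod.val_natCast, hmodn]
  have hfadd : ∀ z w, f (z + w) = f z * f w := fun z w => by
    show g₀ ^ (z + w).val = g₀ ^ z.val * g₀ ^ w.val
    rw [ZMod.val_add, hmodn, pow_add]
  have hf0 : f 0 = 1 := by simpa using hfN 0
  have hfinj : Function.Injective f := fun z w h => by
    have h' := pow_injOn_Iio_orderOf (x := g₀) (by rw [Set.mem_Iio, ho]; exact z.val_lt)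
      (by rw [Set.mem_Iio, ho]; exact w.val_lt) h
    exact ZMod.val_injective n h'
  have hfb : Function.Bijective f := (Fintype.bijective_iff_injective_and_card f).mpr
    ⟨hfinj, by rw [ZMod.card, ← Nat.card_eq_fintype_card, hR, hn]⟩
  have hfmul : ∀ j z : ZMod n, f (j * z) = f z ^ j.val := fun j z => by
    show g₀ ^ (j * z).val = (g₀ ^ z.val) ^ j.val
    rw [ZMod.val_mul, hmodn, ← pow_mul, mul_comm]
  set π : ZMod n →+* ZMod p := ZMod.castHom (hn ▸ dvd_pow_self p (by omega)) (ZMod p)
  have hπval : ∀ z : ZMod n, π z = ((z.val : ℕ) : ZMod p) := fun z => by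
    conv_lhs => rw [← ZMod.natCast_zmod_val z]
    rw [map_natCast]
  let Rl : ZMod n → ZMod n → Prop := fun z w => Carries R a (f z) (f w)
  have hmulR : ∀ j z w, π j ≠ 0 → Rl z w → Rl (j * z) (j * w) := by
    intro j z w hj h
    show Carries R a (f (j * z)) (f (j * w))
    rw [hfmul, hfmul]
    refine carries_pow' hbij ?_ h
    rw [hR, Nat.coprime_pow_left_iff (by omega), hp.out.coprime_iff_not_dvd]
    rw [hπval, Ne, ZMod.natCast_eq_zero_iff] at hj
    exact hj
  -- the subgroup of order `p`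
  have hP : p * p ^ (m - 1) = n := by rw [hn, ← pow_succ']; congr 1; omega
  let ι₀ : ZMod p →+ ZMod n := ZMod.lift p ⟨(AddMonoidHom.mulRight ((p ^ (m - 1) : ℕ) : ZMod n)).comp
    (Int.castAddHom (ZMod n)), by
      show ((p : ℤ) : ZMod n) * ((p ^ (m - 1) : ℕ) : ZMod n) = 0
      rw [Int.cast_natCast, ← Nat.cast_mul, hP, ZMod.natCast_self]⟩
  have hι₀ : ∀ i : ℕ, ι₀ (i : ZMod p) = ((i * p ^ (m - 1) : ℕ) : ZMod n) := fun i => by
    rw [← Int.cast_natCast i]
    simp only [ι₀, ZMod.lift_coe]
    show ((i : ℤ) : ZMod n) * _ = _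
    rw [Int.cast_natCast, ← Nat.cast_mul]
  have hι₀inj : Function.Injective ι₀ := by
    refine (injective_iff_map_eq_zero ι₀).mpr fun b hb => ?_
    rw [← ZMod.natCast_zmod_val b, hι₀, ZMod.natCast_eq_zero_iff, ← hP] at hb
    rw [← ZMod.natCast_zmod_val b, ZMod.natCast_eq_zero_iff]
    exact Nat.dvd_of_mul_dvd_mul_right (pow_pos hp.out.pos _) hb
  have hι₀π : ∀ b, π (ι₀ b) = 0 := fun b => by
    rw [← ZMod.natCast_zmod_val b, hι₀, map_natCast, ZMod.natCast_eq_zero_iff]
    exact dvd_mul_of_dvd_right (dvd_pow_self p (by omega)) _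
  have hι₀mul : ∀ j b, j * ι₀ b = ι₀ (π j * b) := fun j b => by
    rw [hπval j]
    conv_lhs => rw [← ZMod.natCast_zmod_val j, ← ZMod.natCast_zmod_val b]
    conv_rhs => rw [← ZMod.natCast_zmod_val b]
    rw [← Nat.cast_mul, hι₀, hι₀, ← Nat.cast_mul]
    congr 1
    ring
  have hker : ∀ z : ZMod n, f z ^ p = 1 → ∃ b, z = ι₀ b := by
    intro z hz
    rw [← pow_mul] at hz
    have hd := orderOf_dvd_of_pow_eq_one hz
    have hd' : p * p ^ (m - 1) ∣ p * z.val := by rw [hP, mul_comm p]; simpa only [ho] using hd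
    clear hd; rename' hd' => hd
    obtain ⟨i, hi⟩ := Nat.dvd_of_mul_dvd_mul_left hp.out.pos hd
    refine ⟨(i : ZMod p), ?_⟩
    rw [hι₀, ← ZMod.natCast_zmod_val z, hi, mul_comm]
  have hkerp : ∀ b, f (ι₀ b) ^ p = 1 := fun b => by
    rw [← ZMod.natCast_zmod_val b, hι₀, hfN, ← pow_mul, ← orderOf_dvd_iff_pow_eq_one, ho, ← hP]
    exact ⟨b.val, by ring⟩
  have hlift : ∀ c : ZMod p, π ((c.val : ℕ) : ZMod n) = c := fun c => by
    rw [map_natCast, ZMod.natCast_zmod_val]
  -- a normalized orbit
  have hMlow : (AddMonoidHom.ker π.toAddMonoidHom : AddSubgroup (ZMod n)) ≠ ⊤ := fun e => by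
    have h : (1 : ZMod n) ∈ AddMonoidHom.ker π.toAddMonoidHom := e ▸ AddSubgroup.mem_top _
    exact one_ne_zero ((map_one π).symm.trans h)
  let U : Subgroup R :=
    { carrier := {t | ∃ z, f z = t ∧ π z = 0}
      one_mem' := ⟨0, hf0, map_zero π⟩
      mul_mem' := by
        rintro _ _ ⟨z, rfl, hz⟩ ⟨w, rfl, hw⟩
        exact ⟨z + w, hfadd z w, by rw [map_add, hz, hw, add_zero]⟩
      inv_mem' := by
        rintro _ ⟨z, rfl, hz⟩
        exact ⟨-z, eq_inv_of_mul_eq_one_left (by rw [← hfadd, neg_add_cancel, hf0]), by rw [map_neg, hz, neg_zero]⟩ }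
  have hUtop : U ≠ ⊤ := fun e => by
    obtain ⟨z, hz, hz0⟩ : f 1 ∈ U := e ▸ Subgroup.mem_top _
    rw [hfinj hz, map_one] at hz0
    exact one_ne_zero hz0
  have hf1 : ∀ z, f z = 1 → z = 0 := fun z h => hfinj (h.trans hf0.symm)
  -- every nonzero element is related to a unit
  have hbase : ∃ b₁ : ZMod p, b₁ ≠ 0 ∧ Rl 1 (ι₀ b₁) := by
    have h1ne : f 1 ≠ 1 := fun e => by
      have := congrArg π (hf1 1 e)
      rw [map_one, map_zero] at this
      exact one_ne_zero this
    obtain ⟨t, ht, htp, ht1⟩ := hsmall (f 1) h1ne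
    obtain ⟨z, rfl⟩ := hfb.2 t
    obtain ⟨b, rfl⟩ := hker z htp
    exact ⟨b, fun e => ht1 (by rw [e, map_zero, hf0]), ht⟩
  obtain ⟨b₁, hb₁, hR1⟩ := hbase
  let ι : ZMod p →+ ZMod n := ι₀.comp (AddMonoidHom.mulRight b₁)
  have hιap : ∀ b, ι b = ι₀ (b * b₁) := fun _ => rfl
  have hιinj : Function.Injective ι := fun x y h => mul_right_cancel₀ hb₁ (hι₀inj h)
  have hιmul : ∀ j b, j * ι b = ι (π j * b) := fun j b => by rw [hιap, hι₀mul, hιap, mul_assoc]
  have hunitrel : ∀ z, π z ≠ 0 → Rl z (ι (π z)) := fun z hz => by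
    have h := hmulR z 1 (ι 1) hz (by rw [hιap, one_mul]; exact hR1)
    rwa [mul_one, hιmul, mul_one] at h
  set Xs : Finset (ZMod n) := Finset.univ.filter fun z => Rl 1 z
  set H : Finset (ZMod p) := Finset.univ.filter fun b => Rl 1 (ι b)
  have hXs : ∀ z, z ∈ Xs ↔ Rl 1 z := fun z => by simp [Xs]
  have hH : ∀ b, b ∈ H ↔ Rl 1 (ι b) := fun b => by simp [H]
  have hRl_trans : ∀ {z w v}, Rl z w → Rl w v → Rl z v := fun h h' => carries_trans h h'
  have hRl_symm : ∀ {z w}, Rl z w → Rl w z := fun h => carries_symm h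
  have h10 : f 1 ≠ 1 := fun e => by
    have := congrArg π (hf1 1 e)
    rw [map_one, map_zero] at this
    exact one_ne_zero this
  have h0X : (0 : ZMod n) ∉ Xs := fun h => hne1 h10 ((hXs 0).mp h) hf0
  have hunit : ∀ z, π z ≠ 0 → (z ∈ Xs ↔ π z ∈ H) := fun z hz => by
    rw [hXs, hH]
    exact ⟨fun h => hRl_trans h (hunitrel z hz), fun h => hRl_trans h (hRl_symm (hunitrel z hz))⟩
  have hM : ∀ c : ZMod p, (univ.filter fun z : ZMod n => π z = c).card = p ^ (m - 1) := by
    have hconst : ∀ c, (univ.filter fun z : ZMod n => π z = c).card =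
        (univ.filter fun z : ZMod n => π z = 0).card := fun c => by
      refine (Finset.card_bij (fun z _ => z + (c.val : ZMod n)) ?_ (fun _ _ _ _ h => add_right_cancel h) ?_).symm
      · intro z hz
        simp only [Finset.mem_filter, Finset.mem_univ, true_and] at hz ⊢
        rw [map_add, hz, hlift, zero_add]
      · intro w hw
        simp only [Finset.mem_filter, Finset.mem_univ, true_and] at hw
        exact ⟨w - (c.val : ZMod n), by simp [map_sub, hw], sub_add_cancel _ _⟩
    have htot := Finset.card_eq_sum_card_fiberwise (f := π) (s := (univ : Finset (ZMod n)))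
      (t := univ) (fun _ _ => Finset.mem_univ _)
    rw [Finset.sum_congr rfl (fun c _ => hconst c), Finset.sum_const, smul_eq_mul, Finset.card_univ,
      Finset.card_univ, ZMod.card, ZMod.card] at htot
    replace htot : p * p ^ (m - 1) = _ := hP.trans htot
    intro c
    rw [hconst c]
    exact (Nat.eq_of_mul_eq_mul_left hp.out.pos htot).symm
  have hM2 : 1 < p ^ (m - 1) := Nat.one_lt_pow (by omega) hp.out.one_lt
  have hco' : ∀ z ∈ Xs, (∀ b, z ≠ ι b) → ∀ b, z + ι b ∈ Xs := by
    intro z hz hzne b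
    have hzp : f z ^ p ≠ 1 := fun e => by
      obtain ⟨c, rfl⟩ := hker z e
      exact hzne (c * b₁⁻¹) (by rw [hιap, inv_mul_cancel_right₀ hb₁])
    have := kernel_coset hbij hco p hpn {t | Carries R a (f 1) t} (fun _ _ h h' => carries_trans h' h)
      (f z) ((hXs z).mp hz) hzp (f (ι b)) (hkerp _)
    rw [hXs]
    show Carries R a (f 1) (f (z + ι b))
    rw [hfadd]
    exact this
  have hc : (Xs.filter fun z => z + 1 ∈ Xs).card = (Xs.filter fun z => z + ι 1 ∈ Xs).card := by
    let g : R → ℕ := fun t => if Carries R a (f 1) t then 1 else 0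
    have hg : Invar R a g := fun r r' h => by
      simp only [g]
      exact if_congr ⟨fun h' => carries_trans h' (carries_symm h), fun h' => carries_trans h' h⟩ rfl rfl
    let f' : R → ℕ := fun t => g t⁻¹
    have hf' : Invar R a f' := fun r r' h => hg _ _ (carries_inv h)
    have hinv := invar_conv hbij hf' hg (f 1) (f (ι 1)) (by
      have := hunitrel 1 (by rw [map_one]; exact one_ne_zero)
      rwa [map_one] at this)
    have hcnt : ∀ v : ZMod n, (∑ t, f' t * g (t⁻¹ * f v)) = (Xs.filter fun z => z + v ∈ Xs).card := by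
      intro v
      rw [← Fintype.sum_bijective (fun z : ZMod n => (f z)⁻¹) ((Equiv.inv R).bijective.comp hfb)
        (fun z => f' (f z)⁻¹ * g ((f z)⁻¹⁻¹ * f v)) (fun t => f' t * g (t⁻¹ * f v)) (fun _ => rfl),
        Finset.card_filter, Finset.sum_filter]
      refine Finset.sum_congr rfl fun z _ => ?_
      simp only [f', g, inv_inv, ← hfadd, hXs, Rl]
      by_cases h : Carries R a (f 1) (f z) <;> simp [h]
    simp only [] at hinv
    rw [hcnt, hcnt] at hinv
    exact hinv.symm
  have hA : (p - 1) * (Xs.filter fun z => π z = 0).card = H.card * (p ^ (m - 1) - 1) := by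
    set Cs := (univ : Finset (ZMod p)).erase 0
    set Low := ((univ : Finset (ZMod n)).filter fun z => π z = 0).erase 0
    have e1 : ∀ c ∈ Cs, (Low.filter fun w => Rl (c.val : ZMod n) w).card = (Xs.filter fun z => π z = 0).card := by
      intro c hc
      have hc0 : c ≠ 0 := (Finset.mem_erase.mp hc).1
      set j : ZMod n := (c.val : ZMod n) with hj
      have hju : π j ≠ 0 := by rw [hj, hlift]; exact hc0
      have hju' : π (((c⁻¹).val : ℕ) : ZMod n) ≠ 0 := by rw [hlift]; exact inv_ne_zero hc0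
      obtain ⟨i, hi⟩ : IsUnit j := by
        rw [hj, ZMod.isUnit_iff_coprime]; simp only [hn]; rw [Nat.coprime_pow_right_iff (by omega)]
        exact (Nat.coprime_comm.mp ((hp.out.coprime_iff_not_dvd).mpr fun hd =>
          hc0 (by rw [← ZMod.natCast_zmod_val c, (ZMod.natCast_eq_zero_iff _ _).mpr hd])))
      have hi0 : π (↑i⁻¹ : ZMod n) ≠ 0 := ((i⁻¹).map π.toMonoidHom).ne_zero
      refine (Finset.card_bij (fun z _ => j * z) ?_ ?_ ?_).symm
      · intro z hz
        obtain ⟨hzX, hz0⟩ := Finset.mem_filter.mp hz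
        simp only [Low, Finset.mem_filter, Finset.mem_erase, Finset.mem_univ, true_and]
        refine ⟨⟨fun e => h0X ?_, by rw [map_mul, hz0, mul_zero]⟩, ?_⟩
        · rw [← hi] at e
          rwa [(Units.mul_right_eq_zero i).mp e] at hzX
        · have := hmulR j 1 z hju ((hXs z).mp hzX)
          rwa [mul_one] at this
      · intro z _ z' _ e
        rw [← hi] at e
        exact (Units.mul_right_inj i).mp e
      · intro w hw
        simp only [Low, Finset.mem_filter, Finset.mem_erase, Finset.mem_univ, true_and] at hw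
        refine ⟨↑i⁻¹ * w, Finset.mem_filter.mpr ⟨(hXs _).mpr ?_, by rw [map_mul, hw.1.2, mul_zero]⟩, ?_⟩
        · have := hmulR _ j w hi0 hw.2
          rwa [← hi, Units.inv_mul] at this
        · rw [← hi, Units.mul_inv_cancel_left]
    have e2 : ∀ w ∈ Low, (Cs.filter fun c => Rl (c.val : ZMod n) w).card = H.card := by
      intro w hw
      simp only [Low, Finset.mem_filter, Finset.mem_erase, Finset.mem_univ, true_and] at hw
      obtain ⟨t, ht, htp, ht1⟩ := hsmall (f w) fun e => hw.1 (hf1 w e)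
      obtain ⟨z, rfl⟩ := hfb.2 t
      obtain ⟨d, rfl⟩ := hker z htp
      set b := d * b₁⁻¹
      have hbd : ι b = ι₀ d := by rw [hιap, inv_mul_cancel_right₀ hb₁]
      have hb : b ≠ 0 := fun e => ht1 (by rw [← hbd, e, map_zero, hf0])
      have key : ∀ c : ZMod p, c ≠ 0 → (Rl (c.val : ZMod n) w ↔ b * c⁻¹ ∈ H) := by
        intro c hc
        have hju : π (c.val : ZMod n) ≠ 0 := by rw [hlift]; exact hc
        have hrel := hunitrel _ hju
        rw [hlift] at hrel
        have hw' : Rl w (ι b) := by rw [hbd]; exact ht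
        have hstep : ∀ d e g : ZMod p, d ≠ 0 → Rl (ι e) (ι g) → Rl (ι (d * e)) (ι (d * g)) := fun d e g hd h => by
          have := hmulR (d.val : ZMod n) _ _ (by rw [hlift]; exact hd) h
          rwa [hιmul, hιmul, hlift] at this
        have h1rel := hunitrel 1 (by rw [map_one]; exact one_ne_zero)
        rw [map_one] at h1rel
        rw [hH]
        constructor
        · intro h
          have h2 := hstep c⁻¹ c b (inv_ne_zero hc) (hRl_trans (hRl_symm hrel) (hRl_trans h hw'))
          rw [inv_mul_cancel₀ hc, mul_comm c⁻¹] at h2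
          exact hRl_trans h1rel h2
        · intro h
          have h2 := hstep c 1 (b * c⁻¹) hc (hRl_trans (hRl_symm h1rel) h)
          rw [mul_one, mul_comm c, inv_mul_cancel_right₀ hc] at h2
          exact hRl_trans hrel (hRl_trans h2 (hRl_symm hw'))
      refine Finset.card_bij (fun c _ => b * c⁻¹) ?_ ?_ ?_
      · intro c hc
        obtain ⟨hc, hcR⟩ := Finset.mem_filter.mp hc
        exact (key c (Finset.mem_erase.mp hc).1).mp hcR
      · intro c _ c' _ e
        exact inv_injective (mul_left_cancel₀ hb e)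
      · intro g hg
        have hg0 : g ≠ 0 := fun e => h0X ((hXs 0).mpr (by
          have := (hH g).mp hg
          rwa [e, map_zero] at this))
        have hc0 : b * g⁻¹ ≠ 0 := mul_ne_zero hb (inv_ne_zero hg0)
        have hbg : b * (b * g⁻¹)⁻¹ = g := by rw [mul_inv, inv_inv, mul_inv_cancel_left₀ hb]
        exact ⟨b * g⁻¹, Finset.mem_filter.mpr ⟨Finset.mem_erase.mpr ⟨hc0, Finset.mem_univ _⟩,
          (key _ hc0).mpr (hbg.symm ▸ hg)⟩, hbg⟩
    have hsum := Finset.sum_card_bipartiteAbove_eq_sum_card_bipartiteBelow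
      (r := fun (c : ZMod p) (w : ZMod n) => Rl (c.val : ZMod n) w) (s := Cs) (t := Low)
    simp only [Finset.bipartiteAbove, Finset.bipartiteBelow] at hsum
    rw [Finset.sum_congr rfl e1, Finset.sum_congr rfl e2, Finset.sum_const, Finset.sum_const,
      smul_eq_mul, smul_eq_mul, Finset.card_erase_of_mem (Finset.mem_univ _), Finset.card_univ, ZMod.card,
      Finset.card_erase_of_mem (by simp), hM 0] at hsum
    rw [hsum, mul_comm]
  have hcard := count π hM hM2 ι hιinj (fun b => hι₀π _) Xs H h0X ((hXs 1).mpr (carries_refl _)) hunit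
    (fun b => (hXs _).trans (hH b).symm) hco' hc hA
  have hall : ∀ b : ZMod p, b ≠ 0 → b ∈ H := by
    intro b hb
    have hsub : H ⊆ univ.erase 0 := fun x hx => Finset.mem_erase.mpr ⟨fun e => h0X ((hXs 0).mpr (by
      have := (hH x).mp hx
      rwa [e, map_zero] at this)), Finset.mem_univ _⟩
    have := Finset.eq_of_subset_of_card_le hsub (by
      rw [Finset.card_erase_of_mem (Finset.mem_univ _), Finset.card_univ, ZMod.card, hcard])
    rw [this]
    exact Finset.mem_erase.mpr ⟨hb, Finset.mem_univ _⟩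
  have hone : ∀ t : R, t ≠ 1 → Carries R a (f 1) t := by
    intro t ht
    obtain ⟨u, hu, hup, hu1⟩ := hsmall t ht
    obtain ⟨z, rfl⟩ := hfb.2 u
    obtain ⟨d, rfl⟩ := hker z hup
    have hd : d * b₁⁻¹ ≠ 0 := mul_ne_zero (fun e => hu1 (by rw [e, map_zero, hf0])) (inv_ne_zero hb₁)
    have := (hH _).mp (hall _ hd)
    rw [hιap, inv_mul_cancel_right₀ hb₁] at this
    exact carries_trans this (carries_symm hu)
  exact carries_trans (carries_symm (hone r hr)) (hone s hs)

end

end Cfsg.Agent.Perm.SchurPrimePower
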