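import Mathlib

/-! The element orders of the symmetric group of degree eight. -/

set_option autoImplicit false

namespace Cfsg.Agent.S8Spec

/-- non-increasing lists of numbers in `[2, M]` with sum at most `r` -/
def genP : ℕ → ℕ → ℕ → List (List ℕ)
  | 0, _, _ => [[]]
  | fuel + 1, r, M =>
    [] :: ((List.range' 2 (min r M - 1)).flatMap fun a => (genP fuel (r - a) a).map (a :: ·))

theorem mem_genP : ∀ (fuel : ℕ) (l : List ℕ) (r M : ℕ), l.length ≤ fuel → l.Pairwise (· ≥ ·) →
    (∀ a ∈ l, 2 ≤ a ∧ a ≤ M) → l.sum ≤ r → l ∈ genP fuel r M := by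
  intro fuel
  induction fuel with
  | zero =>
    intro l r M hlen _ _ _
    rw [List.eq_nil_of_length_eq_zero (Nat.le_zero.mp hlen)]
    simp [genP]
  | succ fuel ih =>
    intro l r M hlen hs hb hsum
    cases l with
    | nil => simp [genP]
    | cons a t =>
      simp only [List.length_cons] at hlen
      rw [List.pairwise_cons] at hs
      simp only [List.sum_cons] at hsum
      have ha := hb a (by simp)
      simp only [genP, List.mem_cons, List.mem_flatMap, List.mem_map, List.mem_range'_1]
      right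
      exact ⟨a, by omega, t, ih t (r - a) a (by omega) hs.2
        (fun x hx => ⟨(hb x (by simp [hx])).1, hs.1 x hx⟩) (by omega), rfl⟩

theorem lcm_mem_of_cycleType (m : Multiset ℕ) (hsum : m.sum ≤ 8) (h2 : ∀ a ∈ m, 2 ≤ a) :
    m.lcm ∈ [1, 2, 3, 4, 5, 6, 7, 8, 10, 12, 15] := by
  set l := m.sort (· ≥ ·) with hl
  have hm : (l : Multiset ℕ) = m := Multiset.sort_eq _ _
  rw [← hm] at hsum h2 ⊢
  simp only [Multiset.sum_coe, Multiset.mem_coe] at hsum h2
  have hlen : l.length ≤ 4 := by
    have := List.card_nsmul_le_sum l 2 h2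
    simp only [smul_eq_mul] at this
    omega
  have hmem := mem_genP 4 l 8 8 hlen (Multiset.pairwise_sort _ _)
    (fun a ha => ⟨h2 a ha, (List.le_sum_of_mem ha).trans hsum⟩) hsum
  have key : ∀ q ∈ genP 4 8 8, q.foldr Nat.lcm 1 ∈ [1, 2, 3, 4, 5, 6, 7, 8, 10, 12, 15] := by decide +kernel
  have := key l hmem
  rwa [show Multiset.lcm (l : Multiset ℕ) = l.foldr Nat.lcm 1 from rfl]

/-- The element orders of the symmetric group of degree eight. -/
theorem range_orderOf :
    Set.range (orderOf : Equiv.Perm (Fin 8) → ℕ) = {n | n ∈ [1, 2, 3, 4, 5, 6, 7, 8, 10, 12, 15]} := by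
  ext n
  constructor
  · rintro ⟨σ, rfl⟩
    rw [Set.mem_setOf_eq, ← Equiv.Perm.lcm_cycleType]
    exact lcm_mem_of_cycleType _ (by simpa using σ.sum_cycleType_le)
      (fun a ha => Equiv.Perm.two_le_of_mem_cycleType ha)
  · intro hn
    have key : ∀ m : Multiset ℕ, m.sum ≤ 8 → (∀ a ∈ m, 2 ≤ a) →
        m.lcm ∈ Set.range (orderOf : Equiv.Perm (Fin 8) → ℕ) := by
      intro m h1 h2
      obtain ⟨σ, hσ⟩ := (Equiv.Perm.exists_with_cycleType_iff (α := Fin 8) (m := m)).mpr ⟨by simpa using h1, h2⟩
      exact ⟨σ, by rw [← hσ, Equiv.Perm.lcm_cycleType]⟩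
    simp only [Set.mem_setOf_eq, List.mem_cons, List.not_mem_nil, or_false] at hn
    rcases hn with rfl | rfl | rfl | rfl | rfl | rfl | rfl | rfl | rfl | rfl | rfl
    · exact key 0 (by decide) (by decide)
    · exact key {2} (by decide) (by decide)
    · exact key {3} (by decide) (by decide)
    · exact key {4} (by decide) (by decide)
    · exact key {5} (by decide) (by decide)
    · exact key {6} (by decide) (by decide)
    · exact key {7} (by decide) (by decide)
    · exact key {8} (by decide) (by decide)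
    · exact key {5, 2} (by decide) (by decide)
    · exact key {4, 3} (by decide) (by decide)
    · exact key {5, 3} (by decide) (by decide)

end Cfsg.Agent.S8Spec
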