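import Mathlib
import Cfsg.Prelude.Def_Local
import Cfsg.Agent.Lib.Grp.PrimitivePair
import Cfsg.Agent.Lib.Grp.PrimitivePairExists

/-!
The Thompson-Wielandt theorem for a pair of point stabilizers.
-/

set_option autoImplicit false

namespace Cfsg.Agent.TW

open Subgroup Cfsg.Agent.Grp
open scoped commutatorElement

universe u

variable {G : Type u} [Group G]

/-- Elements of `H` of `p'`-order, and the subgroup they generate. -/
def primeToPart (p : ℕ) (H : Subgroup G) : Subgroup G :=
  closure {x | x ∈ H ∧ (orderOf x).Coprime p}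

theorem primeToPart_le (p : ℕ) (H : Subgroup G) : primeToPart p H ≤ H :=
  (closure_le _).mpr fun _ hx => hx.1

theorem normalizer_of_conj {H K : Subgroup G} (h : ∀ g ∈ H, ∀ x ∈ K, g * x * g⁻¹ ∈ K) :
    H ≤ normalizer (K : Set G) := by
  intro g hg
  rw [mem_normalizer_iff]
  refine fun x => ⟨h g hg x, fun hx => ?_⟩
  have h2 := h g⁻¹ (H.inv_mem hg) _ hx
  simpa [mul_assoc] using h2

theorem conj_mem {H K : Subgroup G} (h : H ≤ normalizer (K : Set G)) {g x : G} (hg : g ∈ H)
    (hx : x ∈ K) : g * x * g⁻¹ ∈ K :=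
  (mem_normalizer_iff.mp (h hg) x).mp hx

theorem normalizer_closure_of_conj {H : Subgroup G} {S : Set G}
    (h : ∀ g ∈ H, ∀ x ∈ S, g * x * g⁻¹ ∈ closure S) : H ≤ normalizer (closure S : Set G) := by
  refine normalizer_of_conj fun g hg x hx => ?_
  have : closure S ≤ (closure S).comap (MulAut.conj g).toMonoidHom :=
    (closure_le _).mpr fun y hy => mem_comap.mpr (h g hg y hy)
  exact mem_comap.mp (this hx)

theorem normalizer_primeToPart (p : ℕ) {H K : Subgroup G} (h : K ≤ normalizer (H : Set G)) :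
    K ≤ normalizer (primeToPart p H : Set G) :=
  normalizer_closure_of_conj fun g hg x hx => subset_closure
    ⟨conj_mem h hg hx.1, by
      rw [show g * x * g⁻¹ = MulAut.conj g x from rfl, (MulAut.conj g).orderOf_eq]; exact hx.2⟩

theorem primeToPart_eq_bot [Finite G] {p : ℕ} [hp : Fact p.Prime] {H : Subgroup G} :
    primeToPart p H = ⊥ ↔ IsPGroup p H := by
  constructor
  · intro h x
    set v := (orderOf (x : G)).factorization p
    refine ⟨v, Subtype.ext ?_⟩
    have hpos : 0 < orderOf (x : G) := orderOf_pos _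
    have hco : (orderOf ((x : G) ^ p ^ v)).Coprime p := by
      rw [orderOf_pow, Nat.gcd_eq_right (Nat.ordProj_dvd _ _)]
      exact (Nat.coprime_ordCompl hp.out hpos.ne').symm
    have : (x : G) ^ p ^ v ∈ primeToPart p H := subset_closure ⟨H.pow_mem x.2 _, hco⟩
    rw [h, mem_bot] at this
    simpa using this
  · intro h
    rw [eq_bot_iff, primeToPart, closure_le]
    rintro x ⟨hx, hc⟩
    obtain ⟨k, hk⟩ := h ⟨x, hx⟩
    have hd : orderOf x ∣ p ^ k := orderOf_dvd_of_pow_eq_one (by simpa using congrArg Subtype.val hk)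
    exact mem_bot.mpr (orderOf_eq_one_iff.mp (Nat.eq_one_of_dvd_coprimes (hc.pow_right k) dvd_rfl hd))

/-- A subnormal subgroup of `p`-power index contains every `p'`-element. -/
theorem mem_of_subnormal_pIndex {J : Type u} [Group J] [Finite J] {p : ℕ} [hp : Fact p.Prime]
    {K : Subgroup J} (hK : K.IsSubnormal) :
    (∃ k, K.index ∣ p ^ k) → ∀ x : J, (orderOf x).Coprime p → x ∈ K := by
  induction hK with
  | top => exact fun _ x _ => mem_top x
  | step H K hle _ hN ih =>
    rintro ⟨k, hk⟩ x hx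
    have hxK : x ∈ K := ih ⟨k, (index_dvd_of_le hle).trans hk⟩ x hx
    have hd : (H.subgroupOf K).index ∣ p ^ k := by
      have : H.relIndex K * K.index = H.index := relIndex_mul_index hle
      exact (Dvd.intro _ this).trans hk
    have h1 : orderOf (QuotientGroup.mk' (H.subgroupOf K) ⟨x, hxK⟩) ∣ p ^ k :=
      (_root_.orderOf_dvd_natCard _).trans hd
    have h2 : orderOf (QuotientGroup.mk' (H.subgroupOf K) ⟨x, hxK⟩) ∣ orderOf x := by
      rw [show orderOf x = orderOf (⟨x, hxK⟩ : K) from Subgroup.orderOf_coe ⟨x, hxK⟩]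
      exact orderOf_map_dvd _ _
    have h3 := Nat.eq_one_of_dvd_coprimes (hx.pow_right k) h2 h1
    rw [orderOf_eq_one_iff, QuotientGroup.mk'_apply, QuotientGroup.eq_one_iff] at h3
    exact h3

/-- A normal `p`-subgroup normalizes the `p'`-generated part of a subnormal subgroup. -/
theorem pGroup_normalizes [Finite G] {p : ℕ} [Fact p.Prime] {H X P : Subgroup G} (hXH : X ≤ H)
    (hX : (X.subgroupOf H).IsSubnormal) (hP : IsPGroup p P) (hPH : P ≤ H)
    (hn : H ≤ normalizer (P : Set G)) : P ≤ normalizer (primeToPart p X : Set G) := by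
  set J := X ⊔ P with hJ
  have hJH : J ≤ H := sup_le hXH hPH
  have hXJ : (X.subgroupOf J).IsSubnormal := hX.comap (Subgroup.inclusion hJH)
  have hPJn : (P.subgroupOf J).Normal := normal_subgroupOf_of_le_normalizer (hJH.trans hn)
  have htop : X.subgroupOf J ⊔ P.subgroupOf J = ⊤ := by
    rw [← subgroupOf_sup le_sup_left le_sup_right, subgroupOf_self]
  obtain ⟨k, hk⟩ := (hP.comap_of_injective J.subtype J.subtype_injective).exists_card_eq
  have hidx : (X.subgroupOf J).index ∣ p ^ k := by
    have h1 := relIndex_sup_right (X.subgroupOf J) (P.subgroupOf J)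
    rw [htop, relIndex_top_right] at h1
    have h2 := card_mul_index (P.subgroupOf J)
    have h3 := card_mul_index (X.subgroupOf J)
    have h4 : Nat.card ((P.subgroupOf J).subgroupOf (X.subgroupOf J)) *
        (P.subgroupOf J).relIndex (X.subgroupOf J) = Nat.card (X.subgroupOf J) :=
      card_mul_index _
    have hpos : 0 < (P.subgroupOf J).relIndex (X.subgroupOf J) := by
      rw [← h1]; exact Nat.pos_of_ne_zero index_ne_zero_of_finite
    refine Dvd.intro_left (Nat.card ((P.subgroupOf J).subgroupOf (X.subgroupOf J))) ?_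
    have hk' : Nat.card (P.subgroupOf J) = p ^ k := hk
    apply Nat.eq_of_mul_eq_mul_right hpos
    rw [mul_right_comm, h4, h3, ← h2, h1, hk']
  intro u hu
  have hu' : u ∈ J := le_sup_right (α := Subgroup G) hu
  refine normalizer_closure_of_conj (H := zpowers u) (S := {x | x ∈ X ∧ (orderOf x).Coprime p})
    (fun g hg x hx => subset_closure ?_) (mem_zpowers u)
  have hgJ : g ∈ J := zpowers_le.mpr hu' hg
  have hmem : g * x * g⁻¹ ∈ J := mul_mem (mul_mem hgJ (le_sup_left (α := Subgroup G) hx.1)) (inv_mem hgJ)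
  have hco : (orderOf (g * x * g⁻¹)).Coprime p := by
    rw [show g * x * g⁻¹ = MulAut.conj g x from rfl, (MulAut.conj g).orderOf_eq]; exact hx.2
  exact ⟨mem_subgroupOf.mp (mem_of_subnormal_pIndex hXJ ⟨k, hidx⟩ ⟨_, hmem⟩
    (by rw [← Subgroup.orderOf_coe]; exact hco)), hco⟩

/-- Two `p`-groups of equal order, one normalizing itself inside their product, coincide. -/
theorem eq_of_self_normalizing [Finite G] {p : ℕ} [Fact p.Prime] {N P S : Subgroup G}
    (hP : IsPGroup p P) (hS : IsPGroup p S) (hSP : S ≤ normalizer (P : Set G))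
    (hNS : normalizer (S : Set G) ≤ N) (hPN : P ⊓ N ≤ S) (hcard : Nat.card P = Nat.card S) :
    P = S := by
  suffices h : P ≤ S from eq_of_le_of_card_ge h hcard.ge
  have hT : IsPGroup p (S ⊔ P : Subgroup G) := hS.to_sup_of_normal_right' hP hSP
  haveI := IsPGroup.isNilpotent hT
  by_contra hle
  have hlt : S.subgroupOf (S ⊔ P) < ⊤ := by
    rw [lt_top_iff_ne_top, ne_eq, subgroupOf_eq_top]
    exact fun h => hle (le_sup_right.trans h)
  obtain ⟨t, htn, htS⟩ := SetLike.exists_of_lt (normalizerCondition_of_isNilpotent _ hlt)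
  have htN : (t : G) ∈ normalizer (S : Set G) := by
    rw [← Subgroup.subgroupOf_normalizer_eq le_sup_left] at htn
    exact mem_subgroupOf.mp htn
  have ht : (t : G) ∈ ((S ⊔ P : Subgroup G) : Set G) := t.2
  rw [coe_mul_of_left_le_normalizer_right S P hSP] at ht
  obtain ⟨s, hs, v, hv, hsv⟩ := ht
  have hsN : s ∈ N := hNS (le_normalizer hs)
  have hvN : v ∈ N := by
    have := N.mul_mem (N.inv_mem hsN) (hNS htN)
    rw [← hsv] at this
    simpa using this
  refine htS (mem_subgroupOf.mpr ?_)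
  rw [← hsv]
  exact mul_mem hs (hPN ⟨hv, hvN⟩)

/-- `M` contains the normalizer of each of its nontrivial normal subgroups. -/
def Loc (M : Subgroup G) : Prop :=
  ∀ K : Subgroup G, K ≠ ⊥ → K ≤ M → M ≤ normalizer (K : Set G) → normalizer (K : Set G) ≤ M

theorem loc_of_maximal {M : Subgroup G} (hM : IsCoatom M) (hc : M.normalCore = ⊥) : Loc M := by
  intro K hK hKM hn
  rcases hn.lt_or_eq with h | h
  · have htop := hM.2 _ h
    haveI : K.Normal := normalizer_eq_top_iff.mp htop
    exact absurd (le_bot_iff.mp (hc ▸ normal_le_normalCore.mpr hKM)) hK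
  · exact h.ge

/-- The elements of `N` all of whose `N`-conjugates lie in `M`. -/
def coreInto (N M : Subgroup G) : Subgroup G := ((M.subgroupOf N).normalCore).map N.subtype

theorem mem_coreInto {N M : Subgroup G} {x : G} :
    x ∈ coreInto N M ↔ x ∈ N ∧ ∀ n ∈ N, n * x * n⁻¹ ∈ M := by
  constructor
  · rintro ⟨y, hy, rfl⟩
    exact ⟨y.2, fun n hn => mem_subgroupOf.mp (hy ⟨n, hn⟩)⟩
  · rintro ⟨hx, h⟩
    exact ⟨⟨x, hx⟩, fun n => h n n.2, rfl⟩

theorem coreInto_le_left (N M : Subgroup G) : coreInto N M ≤ N := map_subtype_le _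

theorem coreInto_le_right (N M : Subgroup G) : coreInto N M ≤ M := fun x hx => by
  simpa using (mem_coreInto.mp hx).2 1 N.one_mem

theorem le_normalizer_coreInto (N M : Subgroup G) : N ≤ normalizer (coreInto N M : Set G) := by
  refine normalizer_of_conj fun g hg x hx => ?_
  obtain ⟨hxN, h⟩ := mem_coreInto.mp hx
  refine mem_coreInto.mpr ⟨N.mul_mem (N.mul_mem hg hxN) (N.inv_mem hg), fun n hn => ?_⟩
  have := h (n * g) (N.mul_mem hn hg)
  simpa [mul_assoc] using this

theorem le_coreInto {N M K : Subgroup G} (hKN : K ≤ N) (hKM : K ≤ M)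
    (hn : N ≤ normalizer (K : Set G)) : K ≤ coreInto N M := fun _ hx =>
  mem_coreInto.mpr ⟨hKN hx, fun _ hm => hKM (conj_mem hn hm hx)⟩

/-- A pair of subgroups with nontrivial iterated cores. -/
structure Pair (M N A B : Subgroup G) : Prop where
  locM : Loc M
  locN : Loc N
  ne : M ≠ N
  iso : Nonempty (↥M ≃* ↥N)
  A_ne : A ≠ ⊥
  B_ne : B ≠ ⊥
  A_le : A ≤ M
  B_le : B ≤ N
  A_norm : M ≤ normalizer (A : Set G)
  B_norm : N ≤ normalizer (B : Set G)
  A_core : A ≤ coreInto N M
  B_core : B ≤ coreInto M N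

variable {M N A B : Subgroup G}

theorem Pair.symm (h : Pair M N A B) : Pair N M B A :=
  ⟨h.locN, h.locM, h.ne.symm, ⟨h.iso.some.symm⟩, h.B_ne, h.A_ne, h.B_le, h.A_le, h.B_norm, h.A_norm,
    h.B_core, h.A_core⟩

theorem Pair.A_leN (h : Pair M N A B) : A ≤ N := h.A_core.trans (coreInto_le_left N M)

theorem Pair.A_subnormal (h : Pair M N A B) {H : Subgroup G} (hCH : coreInto N M ≤ H)
    (hHn : H ≤ normalizer (coreInto N M : Set G)) : (A.subgroupOf H).IsSubnormal := by
  have hCn : ((coreInto N M).subgroupOf H).Normal := normal_subgroupOf_of_le_normalizer hHn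
  refine Subgroup.IsSubnormal.step _ ((coreInto N M).subgroupOf H)
    (fun x hx => h.A_core hx) hCn.isSubnormal (normal_subgroupOf_of_le_normalizer ?_)
  refine normalizer_of_conj fun g hg x hx => ?_
  exact mem_subgroupOf.mpr (conj_mem h.A_norm (coreInto_le_right N M (mem_subgroupOf.mp hg))
    (mem_subgroupOf.mp hx))

variable [Finite G]

theorem coreIn_card_eq (e : ↥M ≃* ↥N) (p : ℕ) [Fact p.Prime] :
    Nat.card (coreIn p M) = Nat.card (coreIn p N) := by
  rw [coreIn, coreIn, card_map_of_injective M.subtype_injective,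
    card_map_of_injective N.subtype_injective]
  have key : ∀ {X Y : Subgroup G} (f : ↥X ≃* ↥Y),
      Nat.card (Cfsg.pCore p ↥X) ≤ Nat.card (Cfsg.pCore p ↥Y) := fun {X Y} f => by
    rw [← card_map_of_injective (K := Cfsg.pCore p ↥X) (f := f.toMonoidHom) f.injective]
    exact card_le_of_le (le_pCore ((pCore_isNormal (p := p) (G := ↥X)).map _ f.surjective)
      (pCore_isPGroup.map _))
  exact le_antisymm (key e) (key e.symm)

/-- Step 1: `A` is a `p`-group whenever `O_p(M) ≠ 1`. -/
theorem Pair.isPGroup (h : Pair M N A B) {p : ℕ} [hp : Fact p.Prime] (hP : coreIn p M ≠ ⊥) :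
    IsPGroup p A := by
  rw [← primeToPart_eq_bot]
  by_contra hX
  set X := primeToPart p A with hXdef
  have hXM : normalizer (X : Set G) ≤ M :=
    h.locM X hX ((primeToPart_le p A).trans h.A_le) (normalizer_primeToPart p h.A_norm)
  set C := coreInto N M with hC
  -- `O_p(D) ≤ C`
  set Q := coreIn p (M ⊓ N) with hQ
  have hQn : M ⊓ N ≤ normalizer (Q : Set G) := coreIn_normalized p _
  have hQD : Q ≤ M ⊓ N := map_subtype_le _
  have hQC : Q ≤ C := by
    intro q hq
    refine mem_coreInto.mpr ⟨(hQD hq).2, fun n hn => hXM ?_⟩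
    let c := (MulAut.conj n).toMonoidHom
    have hCH : C ≤ (M ⊓ N).map c := by
      intro x hx
      refine ⟨n⁻¹ * x * n, ?_, by simp [c, mul_assoc]⟩
      have := conj_mem (le_normalizer_coreInto N M) (N.inv_mem hn) hx
      rw [inv_inv] at this
      exact ⟨coreInto_le_right N M this, coreInto_le_left N M this⟩
    have hHN : (M ⊓ N).map c ≤ N := by
      rintro _ ⟨y, hy, rfl⟩
      exact N.mul_mem (N.mul_mem hn hy.2) (N.inv_mem hn)
    refine pGroup_normalizes (H := (M ⊓ N).map c) (h.A_core.trans hCH)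
      (h.A_subnormal hCH (hHN.trans (le_normalizer_coreInto N M)))
      ((coreIn_isPGroup (p := p) (M ⊓ N)).map c) (Subgroup.map_mono hQD) ?_ ⟨q, hq, rfl⟩
    refine normalizer_of_conj ?_
    rintro _ ⟨y, hy, rfl⟩ _ ⟨z, hz, rfl⟩
    exact ⟨y * z * y⁻¹, conj_mem hQn hy hz, by simp [c, mul_assoc]⟩
  set S := coreIn p N with hS
  set P := coreIn p M with hPdef
  have hCD : C ≤ M ⊓ N := le_inf (coreInto_le_right N M) (coreInto_le_left N M)
  have hQS : Q ≤ S := by
    refine (le_coreIn (coreIn_isPGroup _) hQC (hCD.trans hQn)).trans ?_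
    refine le_coreIn (coreIn_isPGroup C) ((map_subtype_le _).trans (coreInto_le_left N M)) ?_
    have hCn : (C.subgroupOf N).Normal := normal_subgroupOf_of_le_normalizer (le_normalizer_coreInto N M)
    refine normalizer_of_conj fun g hg x hx => ?_
    obtain ⟨⟨y, hyC⟩, hy, rfl⟩ := hx
    let e : ↥C ≃* ↥C :=
      { toFun := fun z => ⟨g * z * g⁻¹, conj_mem (le_normalizer_coreInto N M) hg z.2⟩
        invFun := fun z => ⟨g⁻¹ * z * g, by
          simpa using conj_mem (le_normalizer_coreInto N M) (N.inv_mem hg) z.2⟩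
        left_inv := fun z => Subtype.ext (by simp [mul_assoc])
        right_inv := fun z => Subtype.ext (by simp [mul_assoc])
        map_mul' := fun z w => Subtype.ext (by simp [mul_assoc]) }
    have he : (Cfsg.pCore p ↥C).map e.toMonoidHom ≤ Cfsg.pCore p ↥C :=
      le_pCore ((pCore_isNormal (p := p) (G := ↥C)).map _ e.surjective) (pCore_isPGroup.map _)
    exact ⟨e ⟨y, hyC⟩, he ⟨_, hy, rfl⟩, rfl⟩
  have hSX : S ≤ normalizer (X : Set G) :=
    pGroup_normalizes h.A_leN (h.A_subnormal (coreInto_le_left N M) (le_normalizer_coreInto N M))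
      (coreIn_isPGroup N) (map_subtype_le _) (coreIn_normalized p N)
  have hPN : P ⊓ N ≤ S := by
    refine le_trans ?_ hQS
    refine le_coreIn ((coreIn_isPGroup M).to_le inf_le_left)
      (le_inf (inf_le_left.trans (map_subtype_le _)) inf_le_right) ?_
    exact normalizer_of_conj fun g hg x hx =>
      ⟨conj_mem (coreIn_normalized p M) hg.1 hx.1, N.mul_mem (N.mul_mem hg.2 hx.2) (N.inv_mem hg.2)⟩
  have hcard := coreIn_card_eq h.iso.some p
  have hSne : S ≠ ⊥ := by
    intro hS0
    refine hP (eq_bot_of_card_eq _ ?_)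
    change Nat.card P = 1
    rw [hcard]
    change Nat.card S = 1
    rw [hS0, card_bot]
  have hNS := h.locN S hSne (map_subtype_le _) (coreIn_normalized p N)
  have hPS : P = S := eq_of_self_normalizing (coreIn_isPGroup M) (coreIn_isPGroup N)
    ((hSX.trans hXM).trans (coreIn_normalized p M)) hNS hPN hcard
  refine h.ne (le_antisymm ?_ ?_)
  · have e := coreIn_normalized p M
    change M ≤ normalizer (P : Set G) at e
    rw [hPS] at e
    exact e.trans hNS
  · have hNP := h.locM P hP (map_subtype_le _) (coreIn_normalized p M)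
    rw [hPS] at hNP
    exact (coreIn_normalized p N).trans hNP

/-- The layer of `N` lies in the core. -/
theorem Pair.layerIn_le (h : Pair M N A B) : layerIn N ≤ coreInto N M := by
  refine le_coreInto (map_subtype_le _) ?_ ?_
  · rw [layerIn, map_le_iff_le_comap]
    refine sSup_le fun L hL x hx => mem_comap.mpr ?_
    refine h.locM A h.A_ne h.A_le h.A_norm ?_
    have hsub : (A.subgroupOf N).IsSubnormal :=
      h.A_subnormal (coreInto_le_left N M) (le_normalizer_coreInto N M)
    have hnx : x ∈ normalizer (A.subgroupOf N : Set ↥N) := by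
      rcases component_le_or_commute hL hsub with e | e
      · exact le_normalizer (e hx)
      · exact centralizer_le_normalizer _ (commutator_eq_bot_iff_le_centralizer.mp e hx)
    rw [← subgroupOf_normalizer_eq h.A_leN] at hnx
    exact mem_subgroupOf.mp hnx
  · refine normalizer_of_conj ?_
    rintro g hg _ ⟨y, hy, rfl⟩
    exact ⟨_, (inferInstance : (Cfsg.layer ↥N).Normal).conj_mem y hy ⟨g, hg⟩, rfl⟩

theorem layerIn_normalized (N : Subgroup G) : N ≤ normalizer (layerIn N : Set G) := by
  refine normalizer_of_conj ?_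
  rintro g hg _ ⟨y, hy, rfl⟩
  exact ⟨_, (inferInstance : (Cfsg.layer ↥N).Normal).conj_mem y hy ⟨g, hg⟩, rfl⟩

/-- Step 2: with `O_p(M) ≠ 1`, the layer of `N` lies in the layer of `M`. -/
theorem Pair.layerIn_le_layerIn (h : Pair M N A B) {p : ℕ} [hp : Fact p.Prime]
    (hP : coreIn p M ≠ ⊥) : layerIn N ≤ layerIn M := by
  have hPN : coreIn p N ≠ ⊥ := by
    intro h0
    refine hP (eq_bot_of_card_eq _ ?_)
    rw [coreIn_card_eq h.iso.some p, h0, card_bot]
  have hB : IsPGroup p B := h.symm.isPGroup hPN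
  set P := coreIn p M with hPdef
  set P₀ := P ⊓ N with hP₀
  set E := layerIn N with hE
  have hBP : B ≤ P := by
    have hsub : (B.subgroupOf M).IsSubnormal :=
      h.symm.A_subnormal (coreInto_le_left M N) (le_normalizer_coreInto M N)
    intro x hx
    exact ⟨⟨x, h.symm.A_leN hx⟩,
      le_pCore_of_isSubnormal hsub (hB.comap_of_injective M.subtype M.subtype_injective) hx, rfl⟩
  have hcP0 : P ⊓ centralizer (P₀ : Set G) ≤ P₀ := by
    rintro x ⟨hx, hxc⟩
    refine ⟨hx, h.locN B h.B_ne h.B_le h.B_norm (centralizer_le_normalizer _ ?_)⟩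
    exact centralizer_le (SetLike.coe_subset_coe.mpr (le_inf hBP h.B_le)) hxc
  have hED : E ≤ M ⊓ N := le_inf (h.layerIn_le.trans (coreInto_le_right N M)) (map_subtype_le _)
  have hEperf : ⁅E, E⁆ = E := by
    rw [hE, layerIn, ← map_commutator, layer_perfect]
  have hEP0 : E ≤ centralizer (P₀ : Set G) := by
    rw [hE, layerIn, map_le_iff_le_comap]
    refine sSup_le fun L hL x hx => mem_comap.mpr (mem_centralizer_iff.mpr fun y hy => ?_)
    have hs : Group.IsSolvable ↥(P₀.subgroupOf N) := by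
      have hp0 : IsPGroup p ↥P₀ := (coreIn_isPGroup (p := p) M).to_le inf_le_left
      haveI : Group.IsNilpotent ↥(P₀.subgroupOf N) := IsPGroup.isNilpotent
        (hp0.comap_of_injective N.subtype N.subtype_injective)
      infer_instance
    have hn : L ≤ normalizer (P₀.subgroupOf N : Set ↥N) := by
      refine normalizer_of_conj fun g hg z hz => mem_subgroupOf.mpr ?_
      have hgM : (g : G) ∈ M :=
        (hED (show (g : G) ∈ E from ⟨g, IsComponent.le_layer hL hg, rfl⟩)).1
      exact ⟨conj_mem (coreIn_normalized p M) hgM (mem_subgroupOf.mp hz).1,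
        N.mul_mem (N.mul_mem g.2 (mem_subgroupOf.mp hz).2) (N.inv_mem g.2)⟩
    have := mem_centralizer_iff.mp
      (commutator_eq_bot_iff_le_centralizer.mp (component_centralizes_solvable hL hs hn) hx)
      ⟨y, hy.2⟩ (mem_subgroupOf.mpr hy)
    exact congrArg Subtype.val this
  -- `E` centralizes `P`
  have hEP : E ≤ centralizer (P : Set G) := by
    set R := P ⊓ centralizer (E : Set G) with hR
    suffices hPR : P ≤ R from le_centralizer_iff.mp (hPR.trans inf_le_right)
    have hP0R : P₀ ≤ R := le_inf inf_le_left (le_centralizer_iff.mp hEP0)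
    by_contra hne
    have hlt : R.subgroupOf P < ⊤ := by
      rw [lt_top_iff_ne_top, ne_eq, subgroupOf_eq_top]
      exact hne
    haveI := IsPGroup.isNilpotent (coreIn_isPGroup (p := p) M)
    obtain ⟨u, hun, huR⟩ := SetLike.exists_of_lt (normalizerCondition_of_isNilpotent _ hlt)
    have huN : (u : G) ∈ normalizer (R : Set G) := by
      rw [← subgroupOf_normalizer_eq (inf_le_left : R ≤ P)] at hun
      exact mem_subgroupOf.mp hun
    have h1 : ⁅E, zpowers (u : G)⁆ ≤ P₀ := by
      rw [commutator_le]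
      intro e he v hv
      have hvN : v ∈ normalizer (R : Set G) := zpowers_le.mpr huN hv
      have hvP : v ∈ P := zpowers_le.mpr u.2 hv
      have heM : e ∈ M := (hED he).1
      refine hcP0 ⟨?_, ?_⟩
      · rw [commutatorElement_def]
        exact P.mul_mem (conj_mem (coreIn_normalized p M) heM hvP) (P.inv_mem hvP)
      · refine mem_centralizer_iff.mpr fun r hr => ?_
        have hr' : Commute e r := (mem_centralizer_iff.mp (hEP0 he) r hr).symm
        have hr2 : Commute e (v⁻¹ * r * v) := by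
          have : v⁻¹ * r * v ∈ R := by
            simpa using (mem_normalizer_iff.mp (inv_mem hvN) r).mp (hP0R hr)
          exact mem_centralizer_iff.mp this.2 e he
        have hr3 : e⁻¹ * r * e = r := by rw [mul_assoc, ← hr'.eq, inv_mul_cancel_left]
        rw [commutatorElement_def]
        calc r * (e * v * e⁻¹ * v⁻¹) = e * v * ((v⁻¹ * (e⁻¹ * r * e) * v) * e⁻¹) * v⁻¹ := by group
          _ = e * v * (e⁻¹ * (v⁻¹ * r * v)) * v⁻¹ := by rw [hr3, hr2.inv_left.eq]
          _ = e * v * e⁻¹ * v⁻¹ * r := by group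
    have h2 : ⁅⁅E, zpowers (u : G)⁆, E⁆ = ⊥ :=
      commutator_eq_bot_iff_le_centralizer.mpr (h1.trans (le_centralizer_iff.mp hEP0))
    have h2' : ⁅⁅zpowers (u : G), E⁆, E⁆ = ⊥ := by rwa [commutator_comm (zpowers (u : G)) E]
    have h3 : ⁅⁅E, E⁆, zpowers (u : G)⁆ = ⊥ := commutator_commutator_eq_bot_of_rotate h2 h2'
    rw [hEperf] at h3
    exact huR (mem_subgroupOf.mpr ⟨u.2,
      le_centralizer_iff.mp (commutator_eq_bot_iff_le_centralizer.mp h3) (mem_zpowers _)⟩)
  set C' := coreInto M N with hC'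
  have hCP : M ⊓ centralizer (P : Set G) ≤ C' := by
    refine le_coreInto inf_le_left (fun x hx => ?_) ?_
    · exact h.locN B h.B_ne h.B_le h.B_norm (centralizer_le_normalizer _
        (centralizer_le (SetLike.coe_subset_coe.mpr hBP) hx.2))
    · refine normalizer_of_conj fun g hg x hx => ⟨M.mul_mem (M.mul_mem hg hx.1) (M.inv_mem hg), ?_⟩
      refine mem_centralizer_iff.mpr fun y hy => ?_
      have h0 := mem_centralizer_iff.mp hx.2 (g⁻¹ * y * g)
        (by have := conj_mem (coreIn_normalized p M) (M.inv_mem hg) hy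
            rwa [inv_inv] at this)
      calc y * (g * x * g⁻¹) = g * ((g⁻¹ * y * g) * x) * g⁻¹ := by group
        _ = g * x * g⁻¹ * y := by rw [h0]; group
  have hEC : E ≤ C' := fun x hx => hCP ⟨(hED hx).1, hEP hx⟩
  have hC'M : C' ≤ M := coreInto_le_left M N
  have hC'sub : (C'.subgroupOf M).IsSubnormal :=
    (normal_subgroupOf_of_le_normalizer (le_normalizer_coreInto M N)).isSubnormal
  rw [hE, layerIn, map_le_iff_le_comap]
  refine sSup_le fun L hL x hx => mem_comap.mpr ?_
  have hLC : L ≤ C'.subgroupOf N := fun y hy =>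
    mem_subgroupOf.mpr (hEC ⟨y, IsComponent.le_layer hL hy, rfl⟩)
  have hC'N : C' ≤ N := coreInto_le_right M N
  have k1 : Cfsg.IsComponent ((L.subgroupOf (C'.subgroupOf N)).map
      (subgroupOfEquivOfLe hC'N).toMonoidHom) :=
    IsComponent.map_iso _ (IsComponent.subgroupOf hL hLC)
  have k2 := IsComponent.map_subtype hC'sub
    (IsComponent.map_iso (subgroupOfEquivOfLe hC'M).symm k1)
  refine ⟨(C'.subgroupOf M).subtype ((subgroupOfEquivOfLe hC'M).symm
    (subgroupOfEquivOfLe hC'N ⟨x, hLC hx⟩)), IsComponent.le_layer k2 ?_, rfl⟩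
  exact mem_map_of_mem _ (mem_map_of_mem _ (mem_map_of_mem _ (show (⟨x, hLC hx⟩ : ↥(C'.subgroupOf N)) ∈
    L.subgroupOf (C'.subgroupOf N) from hx)))

theorem layerIn_card_eq (e : ↥M ≃* ↥N) : Nat.card (layerIn M) = Nat.card (layerIn N) := by
  rw [layerIn, layerIn, card_map_of_injective M.subtype_injective,
    card_map_of_injective N.subtype_injective]
  have key : ∀ {X Y : Subgroup G} (f : ↥X ≃* ↥Y),
      Nat.card (Cfsg.layer ↥X) ≤ Nat.card (Cfsg.layer ↥Y) := fun {X Y} f => by
    rw [← card_map_of_injective (K := Cfsg.layer ↥X) (f := f.toMonoidHom) f.injective]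
    exact card_le_of_le (layer_map_le f)
  exact le_antisymm (key e) (key e.symm)

omit [Finite G] in
theorem coreIn_eq_bot_iff {p : ℕ} {M : Subgroup G} : coreIn p M = ⊥ ↔ Cfsg.pCore p ↥M = ⊥ := by
  rw [coreIn, Subgroup.map_eq_bot_iff, ker_subtype, le_bot_iff]

theorem gfitting_eq_pCore (h : Pair M N A B) {p : ℕ} [hp : Fact p.Prime] (hP : coreIn p M ≠ ⊥) :
    Cfsg.generalizedFittingSubgroup ↥M = Cfsg.pCore p ↥M := by
  have hPN : coreIn p N ≠ ⊥ := by
    intro h0
    refine hP (eq_bot_of_card_eq _ ?_)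
    rw [coreIn_card_eq h.iso.some p, h0, card_bot]
  have hE : layerIn M = layerIn N :=
    (eq_of_le_of_card_ge (h.layerIn_le_layerIn hP) (layerIn_card_eq h.iso.some).le).symm
  have hE0 : layerIn M = ⊥ := by
    by_contra h0
    refine h.ne (le_antisymm ?_ ?_)
    · exact (layerIn_normalized M).trans (h.locN _ h0 (hE ▸ map_subtype_le _)
        (hE ▸ layerIn_normalized N))
    · exact ((hE ▸ layerIn_normalized N : N ≤ normalizer (layerIn M : Set G))).trans
        (h.locM _ h0 (map_subtype_le _) (layerIn_normalized M))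
  rw [layerIn, Subgroup.map_eq_bot_iff, ker_subtype, le_bot_iff] at hE0
  rw [Cfsg.generalizedFittingSubgroup, hE0, bot_sup_eq]
  refine le_antisymm ((fitting_le_pCore_sup p).trans (sup_le le_rfl (iSup_le fun r => ?_)))
    pCore_le_fittingSubgroup
  haveI := Fact.mk (r : Nat.Primes).2
  have hr : coreIn ((r : Nat.Primes) : ℕ) M = ⊥ := by
    by_contra h0
    have h1 := h.isPGroup hP
    have h2 := h.isPGroup (p := ((r : Nat.Primes) : ℕ)) h0
    obtain ⟨a, ha⟩ := h1.exists_card_eq
    obtain ⟨b, hb⟩ := h2.exists_card_eq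
    refine h.A_ne (eq_bot_of_card_eq _ ?_)
    exact Nat.eq_one_of_dvd_coprimes
      (((Nat.coprime_primes hp.out (r : Nat.Primes).2).mpr (fun e => r.2 e.symm)).pow a b)
      (ha ▸ dvd_rfl) (hb ▸ dvd_rfl)
  rw [coreIn_eq_bot_iff.mp hr]
  exact bot_le

/-- The Thompson-Wielandt theorem. -/
theorem thompson_wielandt (h : Pair M N A B) : ∃ p : ℕ, p.Prime ∧ IsPGroup p A ∧ IsPGroup p B ∧
    Cfsg.generalizedFittingSubgroup ↥M = Cfsg.pCore p ↥M ∧
    Cfsg.generalizedFittingSubgroup ↥N = Cfsg.pCore p ↥N := by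
  by_cases hex : ∃ p : ℕ, p.Prime ∧ coreIn p M ≠ ⊥
  · obtain ⟨p, hp, hP⟩ := hex
    haveI := Fact.mk hp
    have hPN : coreIn p N ≠ ⊥ := by
      intro h0
      refine hP (eq_bot_of_card_eq _ ?_)
      rw [coreIn_card_eq h.iso.some p, h0, card_bot]
    exact ⟨p, hp, h.isPGroup hP, h.symm.isPGroup hPN, gfitting_eq_pCore h hP,
      gfitting_eq_pCore h.symm hPN⟩
  exfalso
  push Not at hex
  have hexN : ∀ p : ℕ, p.Prime → coreIn p N = ⊥ := fun p hp => by
    haveI := Fact.mk hp
    refine eq_bot_of_card_eq _ ?_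
    rw [← coreIn_card_eq h.iso.some p, hex p hp, card_bot]
  have hF : ∀ {H : Subgroup G}, (∀ p : ℕ, p.Prime → coreIn p H = ⊥) →
      Cfsg.generalizedFittingSubgroup ↥H = Cfsg.layer ↥H := by
    intro H hH
    rw [Cfsg.generalizedFittingSubgroup, fittingSubgroup_eq_iSup_pCore]
    refine sup_eq_left.mpr (iSup_le fun r => ?_)
    rw [coreIn_eq_bot_iff.mp (hH r r.2)]
    exact bot_le
  have hP : ∀ K : Subgroup G, K ≠ ⊥ → K ≤ M ⊓ N →
      (M ≤ normalizer (K : Set G) → N ⊓ normalizer (K : Set G) = M ⊓ N) ∧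
      (N ≤ normalizer (K : Set G) → M ⊓ normalizer (K : Set G) = M ⊓ N) := by
    intro K hK hle
    refine ⟨fun hn => ?_, fun hn => ?_⟩
    · rw [le_antisymm (h.locM K hK (hle.trans inf_le_left) hn) hn, inf_comm]
    · rw [le_antisymm (h.locN K hK (hle.trans inf_le_right) hn) hn]
  obtain ⟨p, hp, h1, -⟩ := primitive_pair_characteristic M N h.ne hP
    (by rw [hF hex]; exact h.symm.layerIn_le.trans (coreInto_le_right M N))
    (by rw [hF hexN]; exact h.layerIn_le.trans (coreInto_le_right N M))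
  haveI := Fact.mk hp
  have hbot : Cfsg.generalizedFittingSubgroup ↥M = ⊥ := by
    rw [h1]; exact coreIn_eq_bot_iff.mp (hex p hp)
  have := centralizer_gfitting_le (G := ↥M)
  rw [hbot] at this
  refine h.A_ne ((eq_bot_iff_forall _).mpr fun x hx => ?_)
  have hx1 := this (x := (⟨x, h.A_le hx⟩ : ↥M)) (mem_centralizer_iff.mpr fun y hy => by
    rw [SetLike.mem_coe, mem_bot] at hy
    rw [hy, one_mul, mul_one])
  exact congrArg Subtype.val (mem_bot.mp hx1)

theorem normal_gfitting_eq_pCore {X : Type u} [Group X] [Finite X] {p : ℕ} [hp : Fact p.Prime]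
    (hX : Cfsg.generalizedFittingSubgroup X = Cfsg.pCore p X) (K : Subgroup X) [K.Normal] :
    Cfsg.generalizedFittingSubgroup ↥K = Cfsg.pCore p ↥K := by
  have h := gfitting_inf_normal K
  have hKn : (Cfsg.generalizedFittingSubgroup ↥K).Normal := by
    rw [Cfsg.generalizedFittingSubgroup]
    have := fittingSubgroup_isNormal (G := ↥K)
    infer_instance
  refine le_antisymm (le_pCore hKn ?_)
    (le_trans pCore_le_fittingSubgroup le_sup_right)
  refine (IsPGroup.of_equiv ?_ ((Cfsg.generalizedFittingSubgroup ↥K).equivMapOfInjective K.subtype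
    K.subtype_injective).symm)
  rw [← h, hX]
  exact pCore_isPGroup.to_le inf_le_left

end Cfsg.Agent.TW
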