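import Mathlib
import Cfsg.Agent.Lib.Perm.ThompsonWielandt

/-!
Thompson-Wielandt for a suborbit of a primitive group.
-/

set_option autoImplicit false

namespace Cfsg.Agent.TW

open Subgroup

universe u

variable {G : Type u} [Group G]

theorem loc_conj {M : Subgroup G} (h : Loc M) (g : G) : Loc (M.map (MulAut.conj g).toMonoidHom) := by
  intro K hK hKM hn x hx
  set e := MulAut.conj g
  have hK' : K.map e.symm.toMonoidHom ≠ ⊥ := by
    rwa [Ne, Subgroup.map_eq_bot_iff_of_injective _ e.symm.injective]
  have hle : K.map e.symm.toMonoidHom ≤ M := by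
    rintro _ ⟨k, hk, rfl⟩
    obtain ⟨m, hm, rfl⟩ := hKM hk
    simpa using hm
  have hn' : M ≤ normalizer (K.map e.symm.toMonoidHom : Set G) := by
    refine normalizer_of_conj ?_
    rintro m hm _ ⟨k, hk, rfl⟩
    refine ⟨e m * k * (e m)⁻¹, conj_mem hn ⟨m, hm, rfl⟩ hk, ?_⟩
    simp
  have hx' : e.symm x ∈ normalizer (K.map e.symm.toMonoidHom : Set G) := by
    have := Subgroup.map_equiv_normalizer_eq K e.symm
    rw [← this]; exact mem_map_of_mem _ hx
  exact ⟨e.symm x, h _ hK' hle hn' hx', e.apply_symm_apply x⟩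

/-- The core in `M` of `A₁ ∩ B₁`. -/
def secondCore (M N : Subgroup G) : Subgroup G := coreInto M (coreInto M N ⊓ coreInto N M)

theorem secondCore_le (M N : Subgroup G) : secondCore M N ≤ M := coreInto_le_left _ _

theorem secondCore_le_coreInto (M N : Subgroup G) : secondCore M N ≤ coreInto N M :=
  (coreInto_le_right _ _).trans inf_le_right

theorem pair_secondCore {M N : Subgroup G} (hM : Loc M) (hN : Loc N) (hne : M ≠ N)
    (e : ↥M ≃* ↥N) (hA : secondCore M N ≠ ⊥) (hB : secondCore N M ≠ ⊥) :
    Pair M N (secondCore M N) (secondCore N M) :=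
  ⟨hM, hN, hne, ⟨e⟩, hA, hB, secondCore_le _ _, secondCore_le _ _, le_normalizer_coreInto _ _,
    le_normalizer_coreInto _ _, secondCore_le_coreInto _ _, secondCore_le_coreInto _ _⟩

variable [Finite G] {Ω : Type*} [MulAction G Ω] [Finite Ω]

open MulAction

theorem card_orbit_stabilizer (a b : Ω) :
    Nat.card (orbit (stabilizer G a) b) = (stabilizer G b).relIndex (stabilizer G a) := by
  rw [Subgroup.relIndex, show (stabilizer G b).subgroupOf (stabilizer G a) =
    stabilizer (stabilizer G a) b from rfl, index_stabilizer]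
  rfl

theorem card_orbit_swap (a b : Ω) (h : Nat.card (stabilizer G a) = Nat.card (stabilizer G b)) :
    Nat.card (orbit (stabilizer G b) a) = Nat.card (orbit (stabilizer G a) b) := by
  rw [card_orbit_stabilizer, card_orbit_stabilizer]
  have h1 := card_mul_index ((stabilizer G a).subgroupOf (stabilizer G b))
  have h2 := card_mul_index ((stabilizer G b).subgroupOf (stabilizer G a))
  have e : ∀ H K : Subgroup G, Nat.card (H.subgroupOf K) = Nat.card (H ⊓ K : Subgroup G) := fun H K => by
    rw [← inf_subgroupOf_right, Nat.card_congr (subgroupOfEquivOfLe inf_le_right).toEquiv]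
  rw [e] at h1 h2
  rw [inf_comm (stabilizer G b)] at h2
  exact Nat.eq_of_mul_eq_mul_left Nat.card_pos (h1.trans (h.symm.trans h2.symm))

theorem mem_coreInto_stabilizer {a b : Ω} {x : G} (hx : x ∈ coreInto (stabilizer G a) (stabilizer G b))
    {c : Ω} (hc : c ∈ orbit (stabilizer G a) b) : x • c = c := by
  obtain ⟨⟨m, hm⟩, rfl⟩ := hc
  have := (mem_coreInto.mp hx).2 m⁻¹ (inv_mem hm)
  rw [mem_stabilizer_iff, inv_inv, mul_smul, mul_smul, inv_smul_eq_iff] at this
  exact this

theorem index_secondCore_dvd (hiso : ∀ c d : Ω, Nat.card (stabilizer G c) = Nat.card (stabilizer G d))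
    (a b : Ω) :
    (secondCore (stabilizer G a) (stabilizer G b)).relIndex (stabilizer G a) ∣
      (Nat.card (orbit (stabilizer G a) b)).factorial *
        ((Nat.card (orbit (stabilizer G a) b) - 1).factorial) ^ Nat.card (orbit (stabilizer G a) b) := by
  classical
  set M := stabilizer G a with hMdef
  set N := stabilizer G b with hNdef
  set Δ := orbit M b
  set A₁ := coreInto M N with hA₁
  set K := secondCore M N with hKdef
  have hKA : K ≤ A₁ := (coreInto_le_right _ _).trans inf_le_left
  rw [← relIndex_mul_relIndex K A₁ M hKA (coreInto_le_left M N), mul_comm]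
  refine mul_dvd_mul ?_ ?_
  · -- the action on `Δ`
    have hker : (toPermHom M Δ).ker = A₁.subgroupOf M := by
      ext x
      rw [MonoidHom.mem_ker, mem_subgroupOf]
      constructor
      · intro h
        refine mem_coreInto.mpr ⟨x.2, fun m hm => ?_⟩
        have hc : m⁻¹ • b ∈ Δ := ⟨⟨m⁻¹, inv_mem hm⟩, rfl⟩
        have := congrArg Subtype.val (DFunLike.congr_fun h ⟨m⁻¹ • b, hc⟩)
        simp only [toPermHom_apply, MulAction.toPerm_apply, Equiv.Perm.coe_one, id_eq] at this
        change (x : G) • (m⁻¹ • b) = m⁻¹ • b at this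
        rw [mem_stabilizer_iff, mul_smul, mul_smul, this, smul_inv_smul]
      · intro h
        ext c
        exact mem_coreInto_stabilizer h c.2
    rw [Subgroup.relIndex, ← hker, index_ker]
    refine (card_subgroup_dvd_card _).trans ?_
    rw [Nat.card_perm]
  · -- the actions on the orbits of the points of `Δ`
    let S : Δ → Set Ω := fun c => orbit (stabilizer G (c : Ω)) a \ {a}
    have hS : ∀ (x : A₁) (c : Δ) (e : Ω), e ∈ S c ↔ (x : G) • e ∈ S c := by
      intro x c e
      have hxa : (x : G) • a = a := mem_stabilizer_iff.mp (coreInto_le_left M N x.2)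
      have hxc : (x : G) • (c : Ω) = c := mem_coreInto_stabilizer x.2 c.2
      constructor
      · rintro ⟨⟨⟨h, hh⟩, rfl⟩, hne⟩
        refine ⟨⟨⟨(x : G) * h, mul_mem (mem_stabilizer_iff.mpr hxc) hh⟩, mul_smul _ _ _⟩, fun he => hne ?_⟩
        rw [Set.mem_singleton_iff] at he ⊢
        exact smul_left_cancel (x : G) (he.trans hxa.symm)
      · rintro ⟨⟨⟨h, hh⟩, hhe⟩, hne⟩
        refine ⟨⟨⟨(x : G)⁻¹ * h, mul_mem (inv_mem (mem_stabilizer_iff.mpr hxc)) hh⟩, ?_⟩,
          fun he => hne ?_⟩
        · change ((x : G)⁻¹ * h) • a = e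
          rw [mul_smul, inv_smul_eq_iff]; exact hhe
        · rw [Set.mem_singleton_iff] at he ⊢
          rw [he, hxa]
    let ψ : A₁ →* ((c : Δ) → Equiv.Perm (S c)) :=
      { toFun := fun x c => (MulAction.toPerm (x : G) : Equiv.Perm Ω).subtypePerm (fun e => (hS x c e).symm)
        map_one' := by ext c e; simp
        map_mul' := fun x y => funext fun c => Equiv.ext fun e => Subtype.ext (mul_smul (x : G) (y : G) (e : Ω)) }
    haveI := Fintype.ofFinite Δ
    have hker : ψ.ker = K.subgroupOf A₁ := by
      ext x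
      rw [MonoidHom.mem_ker, mem_subgroupOf]
      constructor
      · intro h
        refine mem_coreInto.mpr ⟨coreInto_le_left M N x.2, fun m hm => ⟨?_, ?_⟩⟩
        · exact conj_mem (le_normalizer_coreInto M N) hm x.2
        · refine mem_coreInto.mpr ⟨?_, fun n hn => ?_⟩
          · exact coreInto_le_right M N (conj_mem (le_normalizer_coreInto M N) hm x.2)
          · have hxa : (x : G) • a = a := mem_stabilizer_iff.mp (coreInto_le_left M N x.2)
            have hc : m⁻¹ • b ∈ Δ := ⟨⟨m⁻¹, inv_mem hm⟩, rfl⟩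
            have hma : m • a = a := mem_stabilizer_iff.mp hm
            set e := (m⁻¹ * n⁻¹ * m) • a with he
            have hfix : (x : G) • e = e := by
              by_cases hea : e = a
              · rw [hea, hxa]
              · have hmem : e ∈ S ⟨m⁻¹ • b, hc⟩ := by
                  refine ⟨⟨⟨m⁻¹ * n⁻¹ * m, ?_⟩, rfl⟩, hea⟩
                  rw [mem_stabilizer_iff, mul_smul, mul_smul, smul_inv_smul,
                    mem_stabilizer_iff.mp (inv_mem hn)]
                have := congrArg Subtype.val
                  (DFunLike.congr_fun (congrFun h ⟨m⁻¹ • b, hc⟩) ⟨e, hmem⟩)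
                exact this
            rw [he, mul_smul, hma] at hfix
            rw [mem_stabilizer_iff]
            calc (n * (m * x * m⁻¹) * n⁻¹) • a = n • m • (x : G) • (m⁻¹ * n⁻¹) • a := by
                  simp [mul_smul]
              _ = a := by rw [hfix]; simp [mul_smul]
      · intro h
        refine funext fun c => Equiv.ext fun e => Subtype.ext ?_
        change (x : G) • (e : Ω) = e
        obtain ⟨⟨⟨h', hh'⟩, he⟩, -⟩ := e.2
        obtain ⟨⟨m, hm⟩, hmc⟩ := c.2
        change h' • a = (e : Ω) at he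
        change m • b = (c : Ω) at hmc
        have hma : m • a = a := mem_stabilizer_iff.mp hm
        have h1 := ((mem_coreInto.mp h).2 m⁻¹ (inv_mem hm)).2
        have hn : m⁻¹ * h'⁻¹ * m ∈ N := by
          rw [hNdef, mem_stabilizer_iff, mul_smul, mul_smul, hmc,
            mem_stabilizer_iff.mp (inv_mem hh'), ← hmc, inv_smul_smul]
        have h2 := mem_stabilizer_iff.mp ((mem_coreInto.mp h1).2 _ hn)
        rw [← he]
        calc (x : G) • h' • a = h' • m • ((m⁻¹ * h'⁻¹ * m) * (m⁻¹ * x * (m⁻¹)⁻¹) *
              (m⁻¹ * h'⁻¹ * m)⁻¹) • a := by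
              rw [← mul_smul, ← mul_smul, ← mul_smul]
              conv_lhs => rw [← hma, ← mul_smul]
              congr 1
              group
          _ = h' • a := by rw [h2, hma]
    rw [Subgroup.relIndex, ← hker, index_ker]
    refine (card_subgroup_dvd_card _).trans ?_
    rw [Nat.card_pi]
    have hcard : ∀ c : Δ, Nat.card (Equiv.Perm (S c)) = (Nat.card Δ - 1).factorial := by
      intro c
      rw [Nat.card_perm, Nat.card_coe_set_eq, Set.ncard_sdiff_singleton_of_mem (mem_orbit_self _),
        ← Nat.card_coe_set_eq, card_orbit_swap a (c : Ω) (hiso _ _)]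
      congr 2
      exact congrArg (fun s : Set Ω => Nat.card s) (orbit_eq_iff.mpr c.2)
    rw [Finset.prod_congr rfl (fun c _ => hcard c), Finset.prod_const, Finset.card_univ,
      ← Nat.card_eq_fintype_card]

/-- The data of a suborbit of length `d ≥ 2` in a primitive group. -/
theorem point_data [FaithfulSMul G Ω] (hprim : IsPreprimitive G Ω) (a b : Ω) (d : ℕ)
    (hd : Nat.card (orbit (stabilizer G a) b) = d) (h2 : 2 ≤ d) :
    Loc (stabilizer G a) ∧ Loc (stabilizer G b) ∧ stabilizer G a ≠ stabilizer G b ∧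
      Nonempty (↥(stabilizer G a) ≃* ↥(stabilizer G b)) ∧
      (∀ c e : Ω, Nat.card (stabilizer G c) = Nat.card (stabilizer G e)) := by
  have htr : IsPretransitive G Ω := hprim.toIsPretransitive
  have hab : a ≠ b := by
    rintro rfl
    have : orbit (stabilizer G a) a = {a} := Set.eq_singleton_iff_unique_mem.mpr
      ⟨mem_orbit_self a, by rintro _ ⟨g, rfl⟩; exact g.2⟩
    rw [this, Nat.card_eq_one_iff_unique.mpr ⟨inferInstance, inferInstance⟩] at hd
    omega
  haveI : Nontrivial Ω := ⟨a, b, hab⟩
  have hcore : ∀ c : Ω, (stabilizer G c).normalCore = ⊥ := by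
    intro c
    refine (eq_bot_iff_forall _).mpr fun x hx => FaithfulSMul.eq_of_smul_eq_smul (α := Ω) fun e => ?_
    obtain ⟨g, rfl⟩ := exists_smul_eq G c e
    have := mem_stabilizer_iff.mp (hx g⁻¹)
    rw [inv_inv, mul_smul, mul_smul, inv_smul_eq_iff] at this
    rw [this, one_smul]
  have hloc : ∀ c : Ω, Loc (stabilizer G c) := fun c =>
    loc_of_maximal ((isCoatom_stabilizer_iff_preprimitive G c).mpr hprim) (hcore c)
  have hiso : ∀ c e : Ω, Nonempty (↥(stabilizer G c) ≃* ↥(stabilizer G e)) := by
    intro c e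
    obtain ⟨g, rfl⟩ := exists_smul_eq G c e
    exact ⟨stabilizerEquivStabilizer rfl⟩
  refine ⟨hloc a, hloc b, fun h => ?_, hiso a b, fun c e => Nat.card_congr (hiso c e).some.toEquiv⟩
  have : orbit (stabilizer G a) b = {b} := Set.eq_singleton_iff_unique_mem.mpr
    ⟨mem_orbit_self b, by
      rintro _ ⟨g, rfl⟩
      have hg : (g : G) ∈ stabilizer G b := SetLike.ext_iff.mp h (g : G) |>.mp g.2
      exact mem_stabilizer_iff.mp hg⟩
  rw [this, Nat.card_eq_one_iff_unique.mpr ⟨inferInstance, inferInstance⟩] at hd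
  omega

/-- Thompson-Wielandt: either the point stabilizer has order dividing `d!((d-1)!)^d`, or the second
cores form a pair. -/
theorem bound_or_pair [FaithfulSMul G Ω] (hprim : IsPreprimitive G Ω) (a b : Ω) (d : ℕ)
    (hd : Nat.card (orbit (stabilizer G a) b) = d) (h2 : 2 ≤ d) :
    Nat.card (stabilizer G a) ∣ d.factorial * ((d - 1).factorial) ^ d ∨
      Pair (stabilizer G a) (stabilizer G b) (secondCore (stabilizer G a) (stabilizer G b))
        (secondCore (stabilizer G b) (stabilizer G a)) := by
  obtain ⟨hla, hlb, hne, ⟨e⟩, hc⟩ := point_data hprim a b d hd h2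
  by_cases hA : secondCore (stabilizer G a) (stabilizer G b) = ⊥
  · left
    have := index_secondCore_dvd hc a b
    rwa [hA, relIndex_bot_left, hd] at this
  by_cases hB : secondCore (stabilizer G b) (stabilizer G a) = ⊥
  · left
    have := index_secondCore_dvd hc b a
    rw [hB, relIndex_bot_left, card_orbit_swap a b (hc a b), hd] at this
    rwa [hc a b]
  exact Or.inr (pair_secondCore hla hlb hne e hA hB)

end Cfsg.Agent.TW
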