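import Cfsg.Agent.Lib.Perm.NilpotentBoundArith
import Cfsg.Agent.Lib.Grp.Cores
import Cfsg.Agent.Lib.Grp.Frattini

/-!
Nilpotent permutation groups: the centraliser of a central element of odd prime order gives the bounds of
`NilpotentBoundArith` by induction on the degree.
-/

set_option autoImplicit false

namespace Cfsg.Agent.PermNilp

open Equiv Equiv.Perm

/-- `r` fixed points and `k` cycles of length `p`. -/
abbrev Model (r k p : ℕ) : Type := Fin r ⊕ Fin k × ZMod p

/-- The element of order `p` with `k` cycles. -/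
def z0 (r k p : ℕ) : Perm (Model r k p) :=
  Equiv.sumCongr (Equiv.refl _) ((Equiv.refl _).prodCongr (Equiv.addRight 1))

theorem z0_inl (r k p : ℕ) (x : Fin r) : z0 r k p (Sum.inl x) = Sum.inl x := rfl

theorem z0_inr (r k p : ℕ) (o : Fin k) (i : ZMod p) : z0 r k p (Sum.inr (o, i)) = Sum.inr (o, i + 1) := rfl

theorem z0_pow_inr (r k p m : ℕ) (o : Fin k) (i : ZMod p) :
    (z0 r k p ^ m) (Sum.inr (o, i)) = Sum.inr (o, i + m) := by
  induction m generalizing i with
  | zero => simp
  | succ m ih =>
    rw [pow_succ, Perm.mul_apply, z0_inr, ih]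
    push_cast
    rw [add_assoc, add_comm (1 : ZMod p)]

theorem z0_pow_inl (r k p m : ℕ) (x : Fin r) : (z0 r k p ^ m) (Sum.inl x) = Sum.inl x := by
  induction m with
  | zero => rfl
  | succ m ih => rw [pow_succ, Perm.mul_apply, z0_inl, ih]

section prime

variable {r k p : ℕ} [hp : Fact p.Prime]

theorem z0_orderOf (hk : 1 ≤ k) : orderOf (z0 r k p) = p := by
  refine orderOf_eq_prime ?_ fun h => ?_
  · ext (x | ⟨o, i⟩)
    · rw [z0_pow_inl]; rfl
    · rw [z0_pow_inr, ZMod.natCast_self, add_zero]; rfl
  · have := congrArg (fun g : Perm (Model r k p) => g (Sum.inr (⟨0, hk⟩, 0))) h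
    simp [z0_inr] at this

theorem z0_moved : Fintype.card {w : Model r k p // z0 r k p w ≠ w} = k * p := by
  classical
  have h : ∀ y : Fin k × ZMod p, z0 r k p (Sum.inr y) ≠ Sum.inr y := fun y hy => by
    obtain ⟨o, i⟩ := y
    rw [z0_inr, Sum.inr.injEq, Prod.mk.injEq] at hy
    simp at hy
  rw [← Fintype.card_congr (Equiv.ofBijective
    (fun y : Fin k × ZMod p => (⟨Sum.inr y, h y⟩ : {w : Model r k p // z0 r k p w ≠ w}))
    ⟨fun a b hab => Sum.inr_injective (congrArg Subtype.val hab), fun ⟨w, hw⟩ => by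
      rcases w with x | y
      · exact absurd (z0_inl r k p x) hw
      · exact ⟨y, rfl⟩⟩)]
  simp

end prime

theorem card_support_eq {α : Type*} [Fintype α] [DecidableEq α] (g : Perm α) :
    g.support.card = Fintype.card {x // g x ≠ x} := by
  rw [Fintype.card_subtype]; rfl

theorem cycleType_of_prime {α : Type*} [Fintype α] [DecidableEq α] {g : Perm α} {p : ℕ} (hp : p.Prime)
    (hg : orderOf g = p) :
    ∃ k, 1 ≤ k ∧ g.cycleType = Multiset.replicate k p ∧ Fintype.card {x // g x ≠ x} = k * p := by
  obtain ⟨n, hn⟩ := Equiv.Perm.cycleType_prime_order (σ := g) (by rw [hg]; exact hp)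
  rw [hg] at hn
  refine ⟨n + 1, by omega, hn, ?_⟩
  rw [← card_support_eq, ← Equiv.Perm.sum_cycleType, hn, Multiset.sum_replicate, smul_eq_mul]

theorem exists_central_order {G : Type*} [Group G] [Finite G] [Group.IsNilpotent G] {p : ℕ} (hp : p.Prime)
    (hd : p ∣ Nat.card G) : ∃ z : G, z ∈ Subgroup.center G ∧ orderOf z = p := by
  haveI : Fact p.Prime := ⟨hp⟩
  obtain ⟨P⟩ := (inferInstance : Nonempty (Sylow p G))
  have hne : (P : Subgroup G) ≠ ⊥ := P.ne_bot_of_dvd_card hd
  have hI : (P : Subgroup G) ⊓ Subgroup.center G ≠ ⊥ := Grp.inf_center_ne_bot _ hne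
  have hIp : IsPGroup p ↥((P : Subgroup G) ⊓ Subgroup.center G) := P.2.to_le inf_le_left
  obtain ⟨m, hm⟩ := IsPGroup.iff_card.1 hIp
  have hm0 : m ≠ 0 := fun h0 => hI (Subgroup.eq_bot_of_card_eq _ (by rw [hm, h0, pow_zero]))
  obtain ⟨x, hx⟩ := exists_prime_orderOf_dvd_card' p (hm ▸ dvd_pow_self p hm0)
  exact ⟨x.1, x.2.2, by rw [Subgroup.orderOf_coe]; exact hx⟩

/-- A nilpotent group with order divisible by `p` sits in the centraliser of `z0`. -/
theorem exists_model {n p : ℕ} (hp : p.Prime) (N : Subgroup (Perm (Fin n))) [Group.IsNilpotent N]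
    (hd : p ∣ Nat.card N) :
    ∃ (r k : ℕ) (e : Fin n ≃ Model r k p), 1 ≤ k ∧ p * k + r = n ∧
      z0 r k p ∈ N.map e.permCongrHom.toMonoidHom ∧
      ∀ g ∈ N.map e.permCongrHom.toMonoidHom, g * z0 r k p = z0 r k p * g := by
  classical
  haveI : Fact p.Prime := ⟨hp⟩
  obtain ⟨⟨z, hzN⟩, hzc, hzo⟩ := exists_central_order hp hd
  have hzo' : orderOf z = p := by rwa [Subgroup.orderOf_mk] at hzo
  obtain ⟨k, hk, -, hmoved⟩ := cycleType_of_prime hp hzo'
  have hle : k * p ≤ n := hmoved ▸ (Fintype.card_subtype_le _).trans_eq (Fintype.card_fin n)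
  refine ⟨n - k * p, k, ?_⟩
  let e0 : Fin n ≃ Model (n - k * p) k p := Fintype.equivOfCardEq (by simp; omega)
  set w := e0.permCongrHom z
  have hwo : orderOf w = p := by rw [show w = e0.permCongrHom z from rfl, MulEquiv.orderOf_eq, hzo']
  obtain ⟨k', -, hct, hmoved'⟩ := cycleType_of_prime hp hwo
  obtain ⟨k'', -, hct0, hmoved0⟩ := cycleType_of_prime hp (z0_orderOf (r := n - k * p) (p := p) hk)
  have hsame : Fintype.card {x // z x ≠ x} = Fintype.card {x // w x ≠ x} :=
    Fintype.card_congr (e0.subtypeEquiv fun x => by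
      show z x ≠ x ↔ e0 (z (e0.symm (e0 x))) ≠ e0 x
      rw [e0.symm_apply_apply, Ne, Ne, e0.injective.eq_iff])
  have hk' : k' = k := Nat.eq_of_mul_eq_mul_right hp.pos (by rw [← hmoved', ← hsame, hmoved])
  have hk'' : k'' = k := Nat.eq_of_mul_eq_mul_right hp.pos (by rw [← hmoved0, z0_moved])
  obtain ⟨c, hc⟩ := isConj_iff.1 ((Equiv.Perm.isConj_iff_cycleType_eq (σ := w) (τ := z0 (n - k * p) k p)).2
    (by rw [hct, hct0, hk', hk'']))
  refine ⟨e0.trans c, hk, by rw [mul_comm]; omega, ⟨z, hzN, ?_⟩, ?_⟩
  · rw [← hc]; ext x; rfl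
  · rintro _ ⟨g, hg, rfl⟩
    have he : (e0.trans c).permCongrHom z = z0 (n - k * p) k p := by rw [← hc]; ext x; rfl
    rw [← he, MulEquiv.coe_toMonoidHom, ← map_mul, ← map_mul]
    exact congrArg _ (congrArg Subtype.val (Subgroup.mem_center_iff.1 hzc ⟨g, hg⟩))

/-! ### The centraliser of `z0`. -/

variable {r k p : ℕ} [hp : Fact p.Prime] {M : Subgroup (Perm (Model r k p))}

/-- The action on the fixed points. -/
def fa (g : Perm (Model r k p)) (x : Fin r) : Fin r := Sum.elim id (fun _ => x) (g (Sum.inl x))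

/-- The action on the cycles. -/
def fb (g : Perm (Model r k p)) (o : Fin k) : Fin k := Sum.elim (fun _ => o) Prod.fst (g (Sum.inr (o, 0)))

/-- The rotation of the cycles. -/
def fe (g : Perm (Model r k p)) (o : Fin k) : ZMod p := Sum.elim (fun _ => 0) Prod.snd (g (Sum.inr (o, 0)))

theorem apply_inl {g : Perm (Model r k p)} (hg : g * z0 r k p = z0 r k p * g) (x : Fin r) :
    g (Sum.inl x) = Sum.inl (fa g x) := by
  have h := congrArg (fun f : Perm (Model r k p) => f (Sum.inl x)) hg
  simp only [Perm.mul_apply, z0_inl] at h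
  unfold fa
  cases hy : g (Sum.inl x) with
  | inl y => rfl
  | inr y =>
    obtain ⟨o, i⟩ := y
    rw [hy, z0_inr, Sum.inr.injEq, Prod.mk.injEq] at h
    simp at h

theorem apply_inr {g : Perm (Model r k p)} (hg : g * z0 r k p = z0 r k p * g) (o : Fin k) (i : ZMod p) :
    g (Sum.inr (o, i)) = Sum.inr (fb g o, fe g o + i) := by
  have h0 : g (Sum.inr (o, 0)) = Sum.inr (fb g o, fe g o) := by
    unfold fb fe
    cases hy : g (Sum.inr (o, 0)) with
    | inr y => rfl
    | inl y =>
      exfalso
      have h := congrArg (fun f : Perm (Model r k p) => f (Sum.inr (o, (0 : ZMod p)))) hg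
      simp only [Perm.mul_apply, z0_inr] at h
      rw [hy, z0_inl, ← hy] at h
      simpa [Prod.ext_iff] using g.injective h
  have hc : Commute g (z0 r k p ^ i.val) := Commute.pow_right hg _
  have h1 := congrArg (fun f : Perm (Model r k p) => f (Sum.inr (o, (0 : ZMod p)))) hc.eq
  simp only [Perm.mul_apply, h0, z0_pow_inr, ZMod.natCast_zmod_val, zero_add] at h1
  exact h1

variable (hc : ∀ g ∈ M, g * z0 r k p = z0 r k p * g)

/-- Restriction to the fixed points. -/
def aHom : M →* Perm (Fin r) :=
  MonoidHom.toHomPerm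
    { toFun := fun g => (fa (g : Perm (Model r k p)) : Function.End (Fin r))
      map_one' := funext fun _ => rfl
      map_mul' := fun g h => funext fun x => by
        have h1 := apply_inl (hc _ (g * h).2) x
        rw [Subgroup.coe_mul, Perm.mul_apply, apply_inl (hc _ h.2), apply_inl (hc _ g.2)] at h1
        exact (Sum.inl_injective h1).symm }

/-- The action on the set of cycles. -/
def bHom : M →* Perm (Fin k) :=
  MonoidHom.toHomPerm
    { toFun := fun g => (fb (g : Perm (Model r k p)) : Function.End (Fin k))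
      map_one' := funext fun _ => rfl
      map_mul' := fun g h => funext fun o => by
        have h1 := apply_inr (hc _ (g * h).2) o 0
        rw [Subgroup.coe_mul, Perm.mul_apply, apply_inr (hc _ h.2), apply_inr (hc _ g.2)] at h1
        exact (congrArg Prod.fst (Sum.inr_injective h1)).symm }

theorem aHom_apply (g : M) (x : Fin r) : aHom hc g x = fa (g : Perm (Model r k p)) x := rfl

theorem bHom_apply (g : M) (o : Fin k) : bHom hc g o = fb (g : Perm (Model r k p)) o := rfl

theorem ext_model {g h : Perm (Model r k p)} (hg : g * z0 r k p = z0 r k p * g)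
    (hh : h * z0 r k p = z0 r k p * h) (ha : ∀ x, fa g x = fa h x) (hb : ∀ o, fb g o = fb h o)
    (he : ∀ o, fe g o = fe h o) : g = h := by
  ext (x | ⟨o, i⟩)
  · rw [apply_inl hg, apply_inl hh, ha]
  · rw [apply_inr hg, apply_inr hh, hb, he]

/-- The action on fixed points and cycles together. -/
def abHom : M →* Perm (Fin r) × Perm (Fin k) := (aHom hc).prod (bHom hc)

theorem ker_inj : Function.Injective fun (g : (abHom hc).ker) (o : Fin k) => fe (g.1 : Perm (Model r k p)) o := by
  intro g h hgh
  have hg := Prod.ext_iff.1 (MonoidHom.mem_ker.1 g.2)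
  have hh := Prod.ext_iff.1 (MonoidHom.mem_ker.1 h.2)
  refine Subtype.ext (Subtype.ext (ext_model (hc _ g.1.2) (hc _ h.1.2) (fun x => ?_) (fun o => ?_)
    fun o => congrFun hgh o))
  · rw [← aHom_apply hc, ← aHom_apply hc, show aHom hc g.1 = 1 from hg.1, show aHom hc h.1 = 1 from hh.1]
  · rw [← bHom_apply hc, ← bHom_apply hc, show bHom hc g.1 = 1 from hg.2, show bHom hc h.1 = 1 from hh.2]

theorem card_ker : Nat.card (abHom hc).ker ≤ p ^ k := by
  refine (Nat.card_le_card_of_injective _ (ker_inj hc)).trans_eq ?_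
  rw [Nat.card_fun, Nat.card_zmod, Nat.card_fin]

theorem range_le : (abHom hc).range ≤ (aHom hc).range.prod (bHom hc).range := by
  rintro _ ⟨g, rfl⟩; exact ⟨⟨g, rfl⟩, g, rfl⟩

theorem card_prod_subgroup {G H : Type*} [Group G] [Group H] (S : Subgroup G) (T : Subgroup H) :
    Nat.card ↥(S.prod T) = Nat.card S * Nat.card T := by
  rw [Nat.card_congr (Subgroup.prodEquiv S T).toEquiv, Nat.card_prod]

theorem card_eq_ker_mul : Nat.card M = Nat.card (abHom hc).ker * Nat.card (abHom hc).range := by
  rw [Subgroup.card_eq_card_quotient_mul_card_subgroup (abHom hc).ker,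
    Nat.card_congr (QuotientGroup.quotientKerEquivRange (abHom hc)).toEquiv, mul_comm]

theorem card_le : Nat.card M ≤ Nat.card (abHom hc).ker * (Nat.card (aHom hc).range * Nat.card (bHom hc).range) := by
  rw [card_eq_ker_mul hc]
  exact Nat.mul_le_mul_left _ ((Subgroup.card_le_of_le (range_le hc)).trans_eq (card_prod_subgroup _ _))

theorem isPGroup_ker : IsPGroup p (abHom hc).ker := by
  intro g
  refine ⟨1, Subtype.ext (Subtype.ext (ext_model (hc _ (g ^ p ^ 1).1.2) (by simp) (fun x => ?_) (fun o => ?_)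
    fun o => ?_))⟩
  · rw [← aHom_apply hc, show aHom hc (g ^ p ^ 1).1 = 1 from congrArg Prod.fst (MonoidHom.mem_ker.1 (g ^ p ^ 1).2)]
    rfl
  · rw [← bHom_apply hc, show bHom hc (g ^ p ^ 1).1 = 1 from congrArg Prod.snd (MonoidHom.mem_ker.1 (g ^ p ^ 1).2)]
    rfl
  · have hb : fb (g.1 : Perm (Model r k p)) o = o := by
      rw [← bHom_apply hc, show bHom hc g.1 = 1 from congrArg Prod.snd (MonoidHom.mem_ker.1 g.2)]; rfl
    have hrot : ∀ (m : ℕ), ((g.1 : Perm (Model r k p)) ^ m) (Sum.inr (o, 0)) =
        Sum.inr (o, (m : ZMod p) * fe (g.1 : Perm (Model r k p)) o) := fun m => by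
      induction m with
      | zero => simp
      | succ m ih =>
        rw [pow_succ', Perm.mul_apply, ih, apply_inr (hc _ g.1.2), hb]
        push_cast
        ring_nf
    show Sum.elim (fun _ => (0 : ZMod p)) Prod.snd (((g.1 : Perm (Model r k p)) ^ p ^ 1) (Sum.inr (o, 0))) = 0
    rw [hrot, pow_one, ZMod.natCast_self, zero_mul]
    rfl

/-- Two cycles exchanged by a nilpotent group are rotated together. -/
theorem card_ker_two [Group.IsNilpotent M] (hk : k = 2) (hp2 : p ≠ 2) (hb : (bHom hc).range ≠ ⊥) :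
    Nat.card (abHom hc).ker ≤ p := by
  classical
  subst hk
  obtain ⟨x, hx⟩ : ∃ x, bHom hc x ≠ 1 := by
    by_contra hcon
    push Not at hcon
    exact hb ((Subgroup.eq_bot_iff_forall _).2 (by rintro _ ⟨g, rfl⟩; exact hcon g))
  haveI : Fact (Nat.Prime 2) := ⟨Nat.prime_two⟩
  obtain ⟨S⟩ := (inferInstance : Nonempty (Sylow 2 M))
  have hS : (S : Subgroup M).map (bHom hc) ≠ ⊥ := by
    intro h
    have h1 : (S : Subgroup M) ≤ (bHom hc).ker := by rwa [Subgroup.map_eq_bot_iff] at h
    have h2 : ¬ 2 ∣ (bHom hc).ker.index := fun h3 => S.not_dvd_index (h3.trans (Subgroup.index_dvd_of_le h1))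
    rw [Subgroup.index_ker] at h2
    have h3 : Nat.card (bHom hc).range ∣ 2 := by
      have := Subgroup.card_subgroup_dvd_card (bHom hc).range
      rwa [Nat.card_perm, Nat.card_fin, Nat.factorial_two] at this
    rcases (Nat.dvd_prime Nat.prime_two).1 h3 with h4 | h4
    · exact hb (Subgroup.eq_bot_of_card_eq _ h4)
    · exact h2 h4.symm.dvd
  obtain ⟨y, hyS, hy⟩ : ∃ y ∈ S, bHom hc y ≠ 1 := by
    by_contra hcon
    push Not at hcon
    exact hS ((Subgroup.map_eq_bot_iff _).2 fun y hy => hcon y hy)
  obtain ⟨P, hP⟩ := (isPGroup_ker hc).exists_le_sylow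
  have hcop : (Nat.card (P : Subgroup M)).Coprime (Nat.card (S : Subgroup M)) :=
    IsPGroup.coprime_card_of_ne p 2 hp2 (P : Subgroup M) (S : Subgroup M) P.2 S.2
  have hcomm := Grp.commute_of_coprime_normal hcop
  have hswap : fb (y : Perm (Model r 2 p)) 0 = 1 ∧ fb (y : Perm (Model r 2 p)) 1 = 0 := by
    have h2 : ∀ s : Perm (Fin 2), s ≠ 1 → s 0 = 1 ∧ s 1 = 0 := by decide
    have := h2 _ hy
    rwa [bHom_apply, bHom_apply] at this
  refine (Nat.card_le_card_of_injective (fun g : (abHom hc).ker => fe (g.1 : Perm (Model r 2 p)) 0)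
    fun g h hgh => ker_inj hc (funext fun o => ?_)).trans_eq (Nat.card_zmod p)
  have key : ∀ u : (abHom hc).ker,
      fe (u.1 : Perm (Model r 2 p)) 1 = fe (u.1 : Perm (Model r 2 p)) 0 := fun u => by
    have hub : ∀ o, fb (u.1 : Perm (Model r 2 p)) o = o := fun o => by
      rw [← bHom_apply hc, show bHom hc u.1 = 1 from congrArg Prod.snd (MonoidHom.mem_ker.1 u.2)]; rfl
    have h1 : y * u.1 = u.1 * y := Subgroup.mem_centralizer_iff.1 (hcomm (hP u.2)) y hyS
    have h2 := congrArg (fun f : M => (f : Perm (Model r 2 p)) (Sum.inr ((0 : Fin 2), (0 : ZMod p)))) h1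
    simp only [Subgroup.coe_mul, Perm.mul_apply, apply_inr (hc _ u.1.2), apply_inr (hc _ y.2), hub, hswap.1,
      Sum.inr.injEq, Prod.mk.injEq, true_and, add_zero] at h2
    linear_combination -h2
  fin_cases o
  · exact hgh
  · show fe (g.1 : Perm (Model r 2 p)) 1 = fe (h.1 : Perm (Model r 2 p)) 1
    rw [key, key]; exact hgh

theorem sign_eq (hp2 : p ≠ 2) (g : M) :
    sign (g : Perm (Model r k p)) = sign (aHom hc g) * sign (bHom hc g) := by
  classical
  set rot : Perm (Fin k × ZMod p) :=
    Equiv.prodCongrRight fun o => Equiv.addLeft (fe (g : Perm (Model r k p)) o)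
  have hg : (g : Perm (Model r k p)) =
      Equiv.sumCongr (aHom hc g) (Equiv.prodCongrLeft (fun _ : ZMod p => bHom hc g) * rot) := by
    ext (x | ⟨o, i⟩)
    · rw [apply_inl (hc _ g.2)]; rfl
    · rw [apply_inr (hc _ g.2)]; rfl
  have hodd : Odd p := hp.out.odd_of_ne_two hp2
  have hu : ∀ u : ℤˣ, u ^ p = u := fun u => by
    obtain ⟨m, hm⟩ := hodd
    rw [hm, pow_succ, pow_mul, Int.units_sq, one_pow, one_mul]
  have hrot : sign rot = 1 := by
    rw [sign_prodCongrRight]
    refine Finset.prod_eq_one fun o _ => ?_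
    generalize fe (g : Perm (Model r k p)) o = c
    have h1 : ∀ m : ℕ, (Equiv.addLeft c) ^ m = Equiv.addLeft ((m : ZMod p) * c) := fun m => by
      induction m with
      | zero => ext i; simp
      | succ m ih =>
        rw [pow_succ, ih]
        ext i
        simp only [Perm.mul_apply, Equiv.coe_addLeft]
        push_cast
        ring
    have h2 : sign ((Equiv.addLeft c : Perm (ZMod p)) ^ p) = 1 := by
      rw [h1, ZMod.natCast_self, zero_mul, show (Equiv.addLeft (0 : ZMod p) : Perm (ZMod p)) = 1 by ext i; simp,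
        map_one]
    rwa [map_pow, hu] at h2
  conv_lhs => rw [hg]
  rw [sign_sumCongr, map_mul, sign_prodCongrLeft, hrot, mul_one, Finset.prod_const, Finset.card_univ, ZMod.card,
    hu]

omit hc

theorem isNilpotent_range {G H : Type*} [Group G] [Group H] [Group.IsNilpotent G] (f : G →* H) :
    Group.IsNilpotent f.range := Group.nilpotent_of_surjective f.rangeRestrict f.rangeRestrict_surjective

theorem two_group_card {n : ℕ} (N : Subgroup (Perm (Fin n))) (h : ∀ p : ℕ, p.Prime → p ≠ 2 → ¬ p ∣ Nat.card N) :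
    ∃ m, Nat.card N = 2 ^ m := by
  refine ⟨(Nat.card N).primeFactorsList.length, Nat.eq_prime_pow_of_unique_prime_dvd Nat.card_pos.ne' ?_⟩
  intro q hq hqd
  by_contra hne
  exact h q hq hne hqd

theorem two_pow_le {n m : ℕ} (h : 2 ^ m ∣ n.factorial) : m ≤ v2f n := by
  haveI : Fact (Nat.Prime 2) := ⟨Nat.prime_two⟩
  exact (padicValNat_dvd_iff_le (Nat.factorial_ne_zero n)).1 h

/-- Nilpotent groups of permutations, with strictness. -/
theorem sym_bound_strict : ∀ (n : ℕ) (N : Subgroup (Perm (Fin n))), Group.IsNilpotent N →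
    Nat.card N ≤ symB n ∧
      (n % 4 = 3 → (¬ ∃ e : Fin n ≃ Model (n - 3) 1 3, z0 (n - 3) 1 3 ∈ N.map e.permCongrHom.toMonoidHom ∧
        ∀ g ∈ N.map e.permCongrHom.toMonoidHom, g * z0 (n - 3) 1 3 = z0 (n - 3) 1 3 * g) →
        Nat.card N < symB n) := by
  intro n
  induction n using Nat.strong_induction_on with
  | _ n ih =>
    intro N hN
    have hdvd : Nat.card N ∣ n.factorial := by
      have := N.card_subgroup_dvd_card
      rwa [Nat.card_perm, Nat.card_fin] at this
    by_cases hodd : ∃ p : ℕ, p.Prime ∧ p ≠ 2 ∧ p ∣ Nat.card N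
    · obtain ⟨p, hp, hp2, hd⟩ := hodd
      haveI : Fact p.Prime := ⟨hp⟩
      obtain ⟨r, k, e, hk, hn, hz, hc⟩ := exists_model hp N hd
      set M := N.map e.permCongrHom.toMonoidHom
      have hMcard : Nat.card M = Nat.card N := Subgroup.card_map_of_injective e.permCongrHom.injective
      haveI : Group.IsNilpotent M :=
        Group.nilpotent_of_surjective (N.equivMapOfInjective e.permCongrHom.toMonoidHom e.permCongrHom.injective).toMonoidHom
          (N.equivMapOfInjective e.permCongrHom.toMonoidHom e.permCongrHom.injective).surjective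
      have hp3 : 3 ≤ p := by have := hp.two_le; omega
      have hk_lt : k < n := by nlinarith
      have hr_lt : r < n := by nlinarith
      have hR := (ih r hr_lt _ (isNilpotent_range (aHom hc))).1
      have hK := (ih k hk_lt _ (isNilpotent_range (bHom hc))).1
      have hM := card_le hc
      rw [hMcard] at hM
      by_cases h32 : p = 3 ∧ k = 2
      · obtain ⟨rfl, rfl⟩ := h32
        have h9 : Nat.card (abHom hc).ker * Nat.card (bHom hc).range ≤ 9 := by
          by_cases hb : (bHom hc).range = ⊥
          · rw [hb, Subgroup.card_bot, mul_one]; exact (card_ker hc).trans_eq rfl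
          · rw [symB_small.2.2.1] at hK
            have := card_ker_two hc rfl (by norm_num) hb
            exact (Nat.mul_le_mul this hK).trans (by norm_num)
        have hlt : Nat.card N < symB n := by
          calc Nat.card N ≤ _ := hM
            _ = Nat.card (abHom hc).ker * Nat.card (bHom hc).range * Nat.card (aHom hc).range := by ring
            _ ≤ 9 * symB r := Nat.mul_le_mul h9 hR
            _ < symB n := hn ▸ six_step r
        exact ⟨hlt.le, fun _ _ => hlt⟩
      have hbound : Nat.card N ≤ p ^ k * symB k * symB r := by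
        calc Nat.card N ≤ _ := hM
          _ ≤ p ^ k * (symB r * symB k) := Nat.mul_le_mul (card_ker hc) (Nat.mul_le_mul hR hK)
          _ = _ := by ring
      by_cases h31 : p = 3 ∧ k = 1
      · obtain ⟨rfl, rfl⟩ := h31
        rw [symB_small.2.1, pow_one, mul_one] at hbound
        refine ⟨?_, fun _ hne => absurd ?_ hne⟩
        · exact (hbound.trans (symB_add_three r)).trans_eq (congrArg symB (by omega))
        · obtain rfl : r = n - 3 := by omega
          exact ⟨e, hz, hc⟩
      · have hlt : Nat.card N < symB n :=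
          lt_of_lt_of_eq (lt_of_le_of_lt hbound (sym_step hp hp2 hk (by omega))) (congrArg symB hn)
        exact ⟨hlt.le, fun _ _ => hlt⟩
    · push Not at hodd
      obtain ⟨m, hm⟩ := two_group_card N hodd
      rw [hm] at hdvd ⊢
      have h1 := Nat.pow_le_pow_right (show 0 < 2 by norm_num) (two_pow_le hdvd)
      exact ⟨h1.trans (pow_le_symB n).1, fun h3 _ => lt_of_le_of_lt h1 ((pow_le_symB n).2 h3)⟩

theorem sign_map {n : ℕ} {β : Type*} [Fintype β] [DecidableEq β] (e : Fin n ≃ β) (g : Perm (Fin n)) :
    sign (e.permCongrHom g) = sign g := sign_permCongr e g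

/-- Nilpotent groups of even permutations, with strictness. -/
theorem alt_bound_strict : ∀ (n : ℕ) (N : Subgroup (Perm (Fin n))), Group.IsNilpotent N →
    (∀ g ∈ N, sign g = 1) →
    Nat.card N ≤ altB n ∧
      (n % 4 = 3 → 7 ≤ n →
        (¬ ∃ e : Fin n ≃ Model (n - 3) 1 3, z0 (n - 3) 1 3 ∈ N.map e.permCongrHom.toMonoidHom ∧
          ∀ g ∈ N.map e.permCongrHom.toMonoidHom, g * z0 (n - 3) 1 3 = z0 (n - 3) 1 3 * g) →
        Nat.card N < altB n) := by
  intro n
  induction n using Nat.strong_induction_on with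
  | _ n ih =>
    intro N hN hsgn
    have hdvd : Nat.card N ∣ Nat.card (alternatingGroup (Fin n)) :=
      Subgroup.card_dvd_of_le fun g hg => mem_alternatingGroup.2 (hsgn g hg)
    rcases Nat.lt_or_ge n 2 with hn2 | hn2
    · refine ⟨?_, fun _ h7 => absurd h7 (by omega)⟩
      have h1 : Nat.card N ≤ 1 := by
        have := N.card_subgroup_dvd_card
        rw [Nat.card_perm, Nat.card_fin, Nat.factorial_eq_one.2 (by omega)] at this
        exact Nat.le_of_dvd one_pos this
      obtain ⟨a0, a1, -⟩ := altB_small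
      interval_cases n <;> omega
    haveI : Nontrivial (Fin n) := Fin.nontrivial_iff_two_le.2 hn2
    by_cases hodd : ∃ p : ℕ, p.Prime ∧ p ≠ 2 ∧ p ∣ Nat.card N
    · obtain ⟨p, hp, hp2, hd⟩ := hodd
      haveI : Fact p.Prime := ⟨hp⟩
      obtain ⟨r, k, e, hk, hn, hz, hc⟩ := exists_model hp N hd
      set M := N.map e.permCongrHom.toMonoidHom
      have hMcard : Nat.card M = Nat.card N := Subgroup.card_map_of_injective e.permCongrHom.injective
      haveI : Group.IsNilpotent M :=
        Group.nilpotent_of_surjective (N.equivMapOfInjective e.permCongrHom.toMonoidHom e.permCongrHom.injective).toMonoidHom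
          (N.equivMapOfInjective e.permCongrHom.toMonoidHom e.permCongrHom.injective).surjective
      have hsM : ∀ g : M, sign (aHom hc g) * sign (bHom hc g) = 1 := by
        rintro ⟨_, g, hg, rfl⟩
        rw [← sign_eq hc hp2]
        exact (sign_map e g).trans (hsgn g hg)
      have hp3 : 3 ≤ p := by have := hp.two_le; omega
      have hk_lt : k < n := by nlinarith
      have hr_lt : r < n := by nlinarith
      have hexc : ∀ {x : ℕ}, 6 ≤ n → 2 * x < symB n → x < altB n := fun {x} h6 hx => by
        have := symB_le_two_altB n hn2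
        omega
      by_cases hall : ∀ g, sign (aHom hc g) = 1
      · -- both images consist of even permutations
        have hR := (ih r hr_lt _ (isNilpotent_range (aHom hc)) (by rintro _ ⟨g, rfl⟩; exact hall g)).1
        have hK := (ih k hk_lt _ (isNilpotent_range (bHom hc)) (by
          rintro _ ⟨g, rfl⟩
          have := hsM g
          rwa [hall, one_mul] at this)).1
        have hb : Nat.card N ≤ p ^ k * altB k * altB r := by
          calc Nat.card N ≤ _ := hMcard ▸ card_le hc
            _ ≤ p ^ k * (altB r * altB k) := Nat.mul_le_mul (card_ker hc) (Nat.mul_le_mul hR hK)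
            _ = _ := by ring
        obtain ⟨s1, s2⟩ := alt_step (r := r) hp hp2 hk
        rw [hn] at s1 s2
        refine ⟨hb.trans s1, fun h3 h7 hne => lt_of_le_of_lt hb (s2 h3 h7 ?_)⟩
        rintro ⟨rfl, rfl⟩
        obtain rfl : r = n - 3 := by omega
        exact hne ⟨e, hz, hc⟩
      · -- an odd permutation of the fixed points comes with an odd permutation of the cycles
        push Not at hall
        obtain ⟨g0, hg0⟩ := hall
        have hg0' : sign (bHom hc g0) ≠ 1 := fun h => hg0 (by have := hsM g0; rwa [h, mul_one] at this)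
        have hk2 : 2 ≤ k := by
          by_contra hk1
          haveI : Subsingleton (Fin k) := Fin.subsingleton_iff_le_one.2 (by omega)
          exact hg0' (by rw [Subsingleton.elim (bHom hc g0) 1, map_one])
        have hlt : (abHom hc).range < (aHom hc).range.prod (bHom hc).range := by
          refine lt_of_le_not_ge (range_le hc) fun hle => ?_
          obtain ⟨g, hg⟩ := hle (show (aHom hc g0, (1 : Perm (Fin k))) ∈ _ from ⟨⟨g0, rfl⟩, one_mem _⟩)
          have h := hsM g
          rw [show aHom hc g = aHom hc g0 from congrArg Prod.fst hg,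
            show bHom hc g = 1 from congrArg Prod.snd hg, map_one, mul_one] at h
          exact hg0 h
        have hhalf : 2 * Nat.card (abHom hc).range ≤ Nat.card (aHom hc).range * Nat.card (bHom hc).range := by
          rw [← card_prod_subgroup]
          obtain ⟨c, hc'⟩ := Subgroup.card_dvd_of_le hlt.le
          rw [hc', mul_comm 2]
          refine Nat.mul_le_mul_left _ ?_
          by_contra hc1
          refine hlt.ne (Subgroup.eq_of_le_of_card_ge hlt.le ?_)
          rw [hc']
          exact le_of_le_of_eq (Nat.mul_le_mul_left _ (by omega : c ≤ 1)) (mul_one _)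
        have hR := (sym_bound_strict r _ (isNilpotent_range (aHom hc))).1
        have hK := (sym_bound_strict k _ (isNilpotent_range (bHom hc))).1
        have h2N : 2 * Nat.card N ≤
            Nat.card (abHom hc).ker * Nat.card (bHom hc).range * Nat.card (aHom hc).range := by
          rw [← hMcard, card_eq_ker_mul hc]
          calc _ = Nat.card (abHom hc).ker * (2 * Nat.card (abHom hc).range) := by ring
            _ ≤ Nat.card (abHom hc).ker * (Nat.card (aHom hc).range * Nat.card (bHom hc).range) :=
              Nat.mul_le_mul_left _ hhalf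
            _ = _ := by ring
        have hstrict : 2 * Nat.card N < symB n := by
          refine lt_of_le_of_lt h2N ?_
          by_cases h32 : p = 3 ∧ k = 2
          · obtain ⟨rfl, rfl⟩ := h32
            have hb : (bHom hc).range ≠ ⊥ := fun hb => hg0' (by
              rw [(Subgroup.eq_bot_iff_forall _).1 hb _ ⟨g0, rfl⟩, map_one])
            rw [symB_small.2.2.1] at hK
            have h6 : Nat.card (abHom hc).ker * Nat.card (bHom hc).range ≤ 9 :=
              (Nat.mul_le_mul (card_ker_two hc rfl (by norm_num) hb) hK).trans (by norm_num)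
            exact lt_of_le_of_lt (Nat.mul_le_mul h6 hR) (hn ▸ six_step r)
          · exact lt_of_le_of_lt (Nat.mul_le_mul (Nat.mul_le_mul (card_ker hc) hK) hR)
              (lt_of_lt_of_eq (sym_step hp hp2 hk (by omega)) (congrArg symB hn))
        have h := hexc (by nlinarith) hstrict
        exact ⟨h.le, fun _ _ _ => h⟩
    · push Not at hodd
      obtain ⟨m, hm⟩ := two_group_card N hodd
      rw [hm] at hdvd ⊢
      have h2 : 2 * 2 ^ m ∣ n.factorial := by
        have := Nat.mul_dvd_mul_left 2 hdvd
        rwa [two_mul_nat_card_alternatingGroup, Nat.card_perm, Nat.card_fin] at this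
      have h1 := Nat.pow_le_pow_right (show 0 < 2 by norm_num) (two_pow_le (pow_succ' 2 m ▸ h2))
      rw [pow_succ'] at h1
      have h3 := pow_le_symB n
      have h4 := symB_le_two_altB n hn2
      refine ⟨by omega, fun hmod _ _ => ?_⟩
      have := h3.2 hmod
      omega

end Cfsg.Agent.PermNilp
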