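import Mathlib

/-! Agreements of a permutation with the conjugates of another one under the alternating group. -/

set_option autoImplicit false

set_option maxHeartbeats 1000000

namespace Cfsg.Agent.Agreement

open Equiv Equiv.Perm Finset

variable {n : ℕ}

/-- A permutation of given parity with prescribed values. -/
theorem exists_map {m : ℕ} {f h : Fin m → Fin n} (hf : Function.Injective f) (hh : Function.Injective h) :
    ∃ g : Perm (Fin n), ∀ k, g (f k) = h k := by
  classical
  let e : {x // x ∈ Set.range f} ≃ {x // x ∈ Set.range h} :=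
    (Equiv.ofInjective f hf).symm.trans (Equiv.ofInjective h hh)
  refine ⟨e.extendSubtype, fun k => ?_⟩
  rw [Equiv.extendSubtype_apply_of_mem e (f k) ⟨k, rfl⟩]
  show (Equiv.ofInjective h hh ((Equiv.ofInjective f hf).symm ⟨f k, _⟩) : Fin n) = h k
  rw [show (⟨f k, _⟩ : {x // x ∈ Set.range f}) = Equiv.ofInjective f hf k from rfl, Equiv.symm_apply_apply]
  rfl

theorem exists_even_map {m : ℕ} (hm : m + 2 ≤ n) {f h : Fin m → Fin n} (hf : Function.Injective f)
    (hh : Function.Injective h) : ∃ g : Perm (Fin n), sign g = 1 ∧ ∀ k, g (f k) = h k := by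
  classical
  obtain ⟨g, hg⟩ := exists_map hf hh
  rcases Int.units_eq_one_or (sign g) with hs | hs
  · exact ⟨g, hs, hg⟩
  obtain ⟨p, hp, r, hr, hpr⟩ := Finset.one_lt_card.1 (show 1 < (univ.image h)ᶜ.card by
    rw [card_compl, card_image_of_injective _ hh, card_univ, Fintype.card_fin, Fintype.card_fin]; omega)
  refine ⟨swap p r * g, by rw [map_mul, sign_swap hpr, hs]; rfl, fun k => ?_⟩
  rw [Perm.mul_apply, hg]
  refine swap_apply_of_ne_of_ne (fun e => ?_) (fun e => ?_)
  · exact mem_compl.1 hp (mem_image.2 ⟨k, mem_univ k, e⟩)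
  · exact mem_compl.1 hr (mem_image.2 ⟨k, mem_univ k, e⟩)

/-- The even permutations with prescribed values. -/
def fib {m : ℕ} (f h : Fin m → Fin n) : Finset (Perm (Fin n)) :=
  univ.filter fun g => sign g = 1 ∧ ∀ k, g (f k) = h k

theorem fib_card_eq {m : ℕ} {f h h' : Fin m → Fin n} (hm : m + 2 ≤ n) (hh : Function.Injective h)
    (hh' : Function.Injective h') : (fib f h).card = (fib f h').card := by
  obtain ⟨g, hg, hgm⟩ := exists_even_map hm hh hh'
  refine Finset.card_equiv (Equiv.mulLeft g) fun u => ?_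
  simp only [fib, mem_filter, mem_univ, true_and, Equiv.coe_mulLeft, Perm.mul_apply, map_mul, hg, one_mul]
  refine and_congr_right fun _ => forall_congr' fun k => ?_
  rw [← hgm k, g.injective.eq_iff]

theorem fib_pos {m : ℕ} {f h : Fin m → Fin n} (hm : m + 2 ≤ n) (hf : Function.Injective f)
    (hh : Function.Injective h) : 0 < (fib f h).card := by
  obtain ⟨g, hg, hgm⟩ := exists_even_map hm hf hh
  exact card_pos.2 ⟨g, mem_filter.2 ⟨mem_univ g, hg, hgm⟩⟩

/-- The number of agreements. -/
def agree (σ τ g : Perm (Fin n)) : ℕ := (univ.filter fun i => τ (g i) = g (σ i)).card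

theorem agree_inv (σ τ g : Perm (Fin n)) : agree σ τ g = agree τ σ g⁻¹ := by
  refine Finset.card_equiv g fun i => ?_
  simp only [mem_filter, mem_univ, true_and, Perm.inv_def, Equiv.symm_apply_apply]
  rw [Equiv.eq_symm_apply, eq_comm]

/-- Both permutations fix a point. -/
theorem not_const_of_fixed (hn : 5 ≤ n) {σ τ : Perm (Fin n)} (hσ : σ ≠ 1) (hτ : τ ≠ 1) {x u₀ : Fin n}
    (hx : σ x = x) (hu₀ : τ u₀ = u₀) (k : ℕ) : ¬ ∀ g, sign g = 1 → agree σ τ g = k := by
  classical
  intro hk
  obtain ⟨i₁, hi₁⟩ : ∃ i, σ i ≠ i := by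
    by_contra h; push Not at h; exact hσ (Equiv.ext fun i => by simpa using h i)
  obtain ⟨v, hv⟩ : ∃ v, τ v ≠ v := by
    by_contra h; push Not at h; exact hτ (Equiv.ext fun i => by simpa using h i)
  have hxi : i₁ ≠ x := fun e => hi₁ (by rw [e, hx])
  have hinj2 : ∀ {a b : Fin n}, a ≠ b → Function.Injective ![a, b] := fun {a b} h => by
    intro p q hpq
    fin_cases p <;> fin_cases q <;> simp_all
  have hinj3 : ∀ {a b c : Fin n}, a ≠ b → a ≠ c → b ≠ c → Function.Injective ![a, b, c] := fun {a b c} h1 h2 h3 => by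
    intro p q hpq
    fin_cases p <;> fin_cases q <;> simp_all [h1.symm, h2.symm, h3.symm]
  set N2 := (fib ![x, i₁] ![x, i₁]).card
  set N3 := (fib ![x, i₁, σ i₁] ![x, i₁, σ i₁]).card
  have hσi : σ i₁ ≠ x := fun e => hxi (σ.injective (e.trans hx.symm))
  have hxxi : Function.Injective ![x, i₁] := hinj2 hxi.symm
  have hx3 : Function.Injective ![x, i₁, σ i₁] := hinj3 hxi.symm hσi.symm (Ne.symm hi₁)
  have hN3pos : 0 < N3 := fib_pos (by omega) hx3 hx3
  have hg2 : ∀ i a u, i ≠ x → a ≠ u → (fib ![x, i] ![u, a]).card = N2 := by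
    intro i a u hi ha
    obtain ⟨c, hc, hcm⟩ := exists_even_map (by omega) hxxi (hinj2 (Ne.symm hi))
    rw [fib_card_eq (h' := ![x, i₁]) (by omega) (hinj2 (Ne.symm ha)) hxxi]
    refine Finset.card_equiv (Equiv.mulRight c) fun g => ?_
    have c0 : c x = x := hcm 0
    have c1 : c i₁ = i := hcm 1
    simp [fib, Fin.forall_fin_two, c0, c1, hc]
  have hg3 : ∀ i j a b u, i ≠ x → j ≠ x → i ≠ j → a ≠ u → b ≠ u → a ≠ b →
      (fib ![x, i, j] ![u, a, b]).card = N3 := by
    intro i j a b u h1 h2 h3 h4 h5 h6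
    obtain ⟨c, hc, hcm⟩ := exists_even_map (by omega) hx3 (hinj3 (Ne.symm h1) (Ne.symm h2) h3)
    rw [fib_card_eq (h' := ![x, i₁, σ i₁]) (by omega) (hinj3 (Ne.symm h4) (Ne.symm h5) h6) hx3]
    refine Finset.card_equiv (Equiv.mulRight c) fun g => ?_
    have c0 : c x = x := hcm 0
    have c1 : c i₁ = i := hcm 1
    have c2 : c (σ i₁) = j := hcm 2
    simp [fib, Fin.forall_fin_succ, c0, c1, c2, hc]
  let G : Fin n → Finset (Perm (Fin n)) := fun u => univ.filter fun g => sign g = 1 ∧ g x = u
  have hN1 : ∀ u, (G u).card = (n - 1) * N2 := by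
    intro u
    rw [Finset.card_eq_sum_card_fiberwise (f := fun g : Perm (Fin n) => g i₁) (t := univ.erase u) fun g hg => by
      obtain ⟨-, -, hgx⟩ := mem_filter.1 hg
      exact mem_erase.2 ⟨fun e => hxi (g.injective (e.trans hgx.symm)), mem_univ _⟩]
    rw [Finset.sum_congr rfl fun a ha => show _ = N2 by
      rw [← hg2 i₁ a u hxi (ne_of_mem_erase ha)]
      congr 1
      ext g
      simp [G, fib, Fin.forall_fin_two, and_assoc], sum_const, card_erase_of_mem (mem_univ u), card_univ,
      Fintype.card_fin, smul_eq_mul]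
  have hN2 : N2 = (n - 2) * N3 := by
    show (fib ![x, i₁] ![x, i₁]).card = _
    rw [Finset.card_eq_sum_card_fiberwise (f := fun g : Perm (Fin n) => g (σ i₁)) (t := ({x, i₁} : Finset (Fin n))ᶜ)
      fun g hg => by
      obtain ⟨-, -, hgm⟩ := mem_filter.1 hg
      have g0 : g x = x := hgm 0
      have g1 : g i₁ = i₁ := hgm 1
      simp only [coe_compl, Set.mem_compl_iff, coe_insert, coe_singleton, Set.mem_insert_iff, Set.mem_singleton_iff]
      rintro (e | e)
      · exact hσi (g.injective (e.trans g0.symm))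
      · exact hi₁ (g.injective (e.trans g1.symm))]
    rw [Finset.sum_congr rfl fun b hb => show _ = N3 by
      simp only [mem_compl, mem_insert, mem_singleton, not_or] at hb
      rw [← hg3 i₁ (σ i₁) i₁ b x hxi hσi (Ne.symm hi₁) hxi hb.1 (Ne.symm hb.2)]
      congr 1
      ext g
      simp [fib, Fin.forall_fin_two, Fin.forall_fin_succ, and_assoc], sum_const, card_compl,
      card_pair hxi.symm, Fintype.card_fin, smul_eq_mul]
  set Fσ := (univ.filter fun i => σ i = i).card
  set Fτ := (univ.filter fun i => τ i = i).card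
  -- the sum over the permutations sending `x` to `u`
  have hsum : ∀ u, ∑ g ∈ G u, agree σ τ g =
      (if τ u = u then (n - 1) * N2 else 0) + ((univ.erase x).filter fun i => σ i = i).card *
        (((univ.erase u).filter fun a => τ a = a).card * N2) +
      ((univ.erase x).filter fun i => ¬ σ i = i).card *
        (((univ.erase u).filter fun a => ¬ τ a = a ∧ τ a ≠ u).card * N3) := by
    intro u
    simp only [agree]
    conv_lhs => simp only [card_filter]
    rw [Finset.sum_comm, ← Finset.add_sum_erase univ _ (mem_univ x),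
      ← Finset.sum_filter_add_sum_filter_not (univ.erase x) (fun i => σ i = i), ← add_assoc]
    refine congrArg₂ (· + ·) (congrArg₂ (· + ·) ?_ ?_) ?_
    · rw [Finset.sum_congr rfl fun g hg => by rw [hx, (mem_filter.1 hg).2.2], sum_const, hN1, smul_eq_mul]
      split_ifs <;> simp
    · rw [Finset.sum_congr rfl fun i hi => show _ = ((univ.erase u).filter fun a => τ a = a).card * N2 by
        obtain ⟨hi1, hi2⟩ := mem_filter.1 hi
        rw [← card_filter, Finset.card_eq_sum_card_fiberwise (f := fun g : Perm (Fin n) => g i)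
          (t := (univ.erase u).filter fun a => τ a = a) fun g hg => by
          obtain ⟨hg, he⟩ := mem_filter.1 hg
          obtain ⟨-, -, hgx⟩ := mem_filter.1 hg
          rw [hi2] at he
          exact mem_filter.2 ⟨mem_erase.2 ⟨fun e => (ne_of_mem_erase hi1) (g.injective (e.trans hgx.symm)),
            mem_univ _⟩, he⟩]
        rw [Finset.sum_congr rfl fun a ha => show _ = N2 by
          obtain ⟨ha1, ha2⟩ := mem_filter.1 ha
          rw [← hg2 i a u (ne_of_mem_erase hi1) (ne_of_mem_erase ha1)]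
          congr 1
          ext g
          simp only [G, fib, mem_filter, mem_univ, true_and, Fin.forall_fin_two, Matrix.cons_val_zero,
            Matrix.cons_val_one, hi2]
          exact ⟨fun h => ⟨h.1.1.1, h.1.1.2, h.2⟩, fun h => ⟨⟨⟨h.1, h.2.1⟩, by rw [h.2.2, ha2]⟩, h.2.2⟩⟩,
          sum_const, smul_eq_mul], sum_const, smul_eq_mul]
    · rw [Finset.sum_congr rfl fun i hi => show _ = ((univ.erase u).filter fun a => ¬ τ a = a ∧ τ a ≠ u).card * N3 by
        obtain ⟨hi1, hi2⟩ := mem_filter.1 hi
        have hi3 : σ i ≠ x := fun e => ne_of_mem_erase hi1 (σ.injective (e.trans hx.symm))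
        rw [← card_filter, Finset.card_eq_sum_card_fiberwise (f := fun g : Perm (Fin n) => g i)
          (t := (univ.erase u).filter fun a => ¬ τ a = a ∧ τ a ≠ u) fun g hg => by
          obtain ⟨hg, he⟩ := mem_filter.1 hg
          obtain ⟨-, -, hgx⟩ := mem_filter.1 hg
          refine mem_filter.2 ⟨mem_erase.2 ⟨fun e => (ne_of_mem_erase hi1) (g.injective (e.trans hgx.symm)),
            mem_univ _⟩, ?_, ?_⟩
          · rw [he]; exact fun e => hi2 (g.injective e)
          · rw [he]; exact fun e => hi3 (g.injective (e.trans hgx.symm))]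
        rw [Finset.sum_congr rfl fun a ha => show _ = N3 by
          obtain ⟨ha1, ha2, ha3⟩ := mem_filter.1 ha
          rw [← hg3 i (σ i) a (τ a) u (ne_of_mem_erase hi1) hi3 (Ne.symm hi2) (ne_of_mem_erase ha1) ha3 (Ne.symm ha2)]
          congr 1
          ext g
          simp only [G, fib, mem_filter, mem_univ, true_and, Fin.forall_fin_succ, Matrix.cons_val_zero,
            Matrix.cons_val_succ, Fin.forall_fin_zero, and_true, IsEmpty.forall_iff]
          exact ⟨fun h => ⟨h.1.1.1, h.1.1.2, h.2, by rw [← h.2]; exact h.1.2.symm⟩,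
            fun h => ⟨⟨⟨h.1, h.2.1⟩, by rw [h.2.2.1, h.2.2.2]⟩, h.2.2.1⟩⟩,
          sum_const, smul_eq_mul], sum_const, smul_eq_mul]
  have hconst : ∀ u, ∑ g ∈ G u, agree σ τ g = (n - 1) * N2 * k := fun u => by
    rw [sum_congr rfl fun g hg => hk g (mem_filter.1 hg).2.1, sum_const, hN1, smul_eq_mul]
  have e1 := (hsum u₀).symm.trans (hconst u₀)
  have e2 := (hsum v).symm.trans (hconst v)
  rw [if_pos hu₀] at e1
  rw [if_neg hv] at e2
  have hA : ((univ.erase x).filter fun i => σ i = i).card + 1 = Fσ := by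
    rw [filter_erase, card_erase_of_mem (by simp [hx])]
    have : 0 < Fσ := card_pos.2 ⟨x, by simp [hx]⟩
    omega
  have hB : ((univ.erase x).filter fun i => ¬ σ i = i).card + Fσ = n := by
    rw [filter_erase, erase_eq_of_notMem (by simp [hx]), add_comm, card_filter_add_card_filter_not, card_univ,
      Fintype.card_fin]
  have hC : ((univ.erase u₀).filter fun a => τ a = a).card + 1 = Fτ := by
    rw [filter_erase, card_erase_of_mem (by simp [hu₀])]
    have : 0 < Fτ := card_pos.2 ⟨u₀, by simp [hu₀]⟩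
    omega
  have hD : ((univ.erase v).filter fun a => τ a = a).card = Fτ := by
    rw [filter_erase, erase_eq_of_notMem (by simp [hv])]
  have hM : (univ.filter fun a => ¬ τ a = a).card + Fτ = n := by
    rw [add_comm, card_filter_add_card_filter_not, card_univ, Fintype.card_fin]
  have hE : ((univ.erase u₀).filter fun a => ¬ τ a = a ∧ τ a ≠ u₀).card + Fτ = n := by
    rw [show ((univ.erase u₀).filter fun a => ¬ τ a = a ∧ τ a ≠ u₀) = univ.filter fun a => ¬ τ a = a from ?_]
    · exact hM
    ext a
    simp only [mem_filter, mem_erase, mem_univ, and_true, true_and, ne_eq]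
    exact ⟨fun h => h.2.1, fun h => ⟨fun e => h (by rw [e, hu₀]), h, fun e => h (by
      rw [τ.injective (e.trans hu₀.symm), hu₀])⟩⟩
  have hF : ((univ.erase v).filter fun a => ¬ τ a = a ∧ τ a ≠ v).card + Fτ + 2 = n := by
    rw [show ((univ.erase v).filter fun a => ¬ τ a = a ∧ τ a ≠ v) =
      (univ.filter fun a => ¬ τ a = a) \ {v, τ.symm v} from ?_]
    · have hne : v ≠ τ.symm v := fun e => hv (by conv_lhs => rw [e, Equiv.apply_symm_apply])
      have hsub : ({v, τ.symm v} : Finset (Fin n)) ⊆ univ.filter fun a => ¬ τ a = a := by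
        intro a ha
        simp only [mem_insert, mem_singleton] at ha
        rcases ha with rfl | rfl
        · simp [hv]
        · simp [hne]
      rw [card_sdiff_of_subset hsub, card_pair hne]
      have := card_le_card hsub
      rw [card_pair hne] at this
      omega
    ext a
    simp only [mem_filter, mem_erase, mem_univ, and_true, true_and, mem_sdiff, mem_insert, mem_singleton, not_or,
      ne_eq, Equiv.eq_symm_apply]
    tauto
  set A := ((univ.erase x).filter fun i => σ i = i).card
  set B := ((univ.erase x).filter fun i => ¬ σ i = i).card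
  have hBpos : 1 ≤ B := card_pos.2 ⟨i₁, mem_filter.2 ⟨mem_erase.2 ⟨hxi, mem_univ _⟩, hi₁⟩⟩
  rw [hN2] at e1 e2
  rw [← hC] at hD
  rw [hD] at e2
  have hE2 : ((univ.erase u₀).filter fun a => ¬ τ a = a ∧ τ a ≠ u₀).card =
      ((univ.erase v).filter fun a => ¬ τ a = a ∧ τ a ≠ v).card + 2 := by omega
  rw [hE2] at e1
  have hn1 : A + 1 ≤ n - 1 := by omega
  have key : A * ((n - 2) * N3) < (n - 1) * ((n - 2) * N3) :=
    Nat.mul_lt_mul_of_pos_right (by omega) (Nat.mul_pos (by omega) hN3pos)
  nlinarith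

/-- A fixed-point-free permutation. -/
theorem not_const_of_free (hn : 5 ≤ n) {σ τ : Perm (Fin n)} (hτ : τ ≠ 1) (hσ : ∀ i, σ i ≠ i) (k : ℕ) :
    ¬ ∀ g, sign g = 1 → agree σ τ g = k := by
  classical
  intro hk
  obtain ⟨v, hv⟩ : ∃ v, τ v ≠ v := by
    by_contra h; push Not at h; exact hτ (Equiv.ext fun i => by simpa using h i)
  have hn0 : 0 < n := by omega
  set x : Fin n := ⟨0, hn0⟩
  have hinj2 : ∀ {a b : Fin n}, a ≠ b → Function.Injective ![a, b] := fun {a b} h => by
    intro p q hpq
    fin_cases p <;> fin_cases q <;> simp_all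
  set N2 := (fib ![x, σ x] ![x, σ x]).card
  have hx2 : Function.Injective ![x, σ x] := hinj2 (Ne.symm (hσ x))
  have hN2pos : 0 < N2 := fib_pos (by omega) hx2 hx2
  have hg2 : ∀ i a b, a ≠ b → (fib ![i, σ i] ![a, b]).card = N2 := by
    intro i a b hab
    obtain ⟨c, hc, hcm⟩ := exists_even_map (by omega) hx2 (hinj2 (Ne.symm (hσ i)))
    rw [fib_card_eq (h' := ![x, σ x]) (by omega) (hinj2 hab) hx2]
    refine Finset.card_equiv (Equiv.mulRight c) fun g => ?_
    have c0 : c x = i := hcm 0
    have c1 : c (σ x) = σ i := hcm 1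
    simp [fib, Fin.forall_fin_two, c0, c1, hc]
  set G : Finset (Perm (Fin n)) := univ.filter fun g => sign g = 1
  have hG : G.card = n * ((n - 1) * N2) := by
    rw [Finset.card_eq_sum_card_fiberwise (f := fun g : Perm (Fin n) => g x) (t := univ) fun g _ => mem_univ _]
    rw [Finset.sum_congr rfl fun a _ => show _ = (n - 1) * N2 by
      rw [Finset.card_eq_sum_card_fiberwise (f := fun g : Perm (Fin n) => g (σ x)) (t := univ.erase a) fun g hg => by
        obtain ⟨-, hgx⟩ := mem_filter.1 hg
        exact mem_erase.2 ⟨fun e => hσ x (g.injective (e.trans hgx.symm)), mem_univ _⟩]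
      rw [Finset.sum_congr rfl fun b hb => show _ = N2 by
        rw [← hg2 x a b (Ne.symm (ne_of_mem_erase hb))]
        congr 1
        ext g
        simp [G, fib, Fin.forall_fin_two, and_assoc], sum_const, card_erase_of_mem (mem_univ a), card_univ,
        Fintype.card_fin, smul_eq_mul], sum_const, card_univ, Fintype.card_fin, smul_eq_mul]
  set M := (univ.filter fun a => ¬ τ a = a).card
  have hsum : ∑ g ∈ G, agree σ τ g = n * (M * N2) := by
    simp only [agree]
    conv_lhs => simp only [card_filter]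
    rw [Finset.sum_comm, Finset.sum_congr rfl fun i _ => show _ = M * N2 by
      rw [← card_filter, Finset.card_eq_sum_card_fiberwise (f := fun g : Perm (Fin n) => g i)
        (t := univ.filter fun a => ¬ τ a = a) fun g hg => by
        obtain ⟨-, he⟩ := mem_filter.1 hg
        exact mem_filter.2 ⟨mem_univ _, fun e => hσ i (g.injective (he.symm.trans e))⟩]
      rw [Finset.sum_congr rfl fun a ha => show _ = N2 by
        rw [← hg2 i a (τ a) (Ne.symm (mem_filter.1 ha).2)]
        congr 1
        ext g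
        simp only [G, fib, mem_filter, mem_univ, true_and, Fin.forall_fin_two, Matrix.cons_val_zero,
          Matrix.cons_val_one]
        exact ⟨fun h => ⟨h.1.1, h.2, by rw [← h.2]; exact h.1.2.symm⟩,
          fun h => ⟨⟨h.1, by rw [h.2.1, h.2.2]⟩, h.2.1⟩⟩, sum_const, smul_eq_mul],
      sum_const, card_univ, Fintype.card_fin, smul_eq_mul]
  rw [sum_congr rfl fun g hg => hk g (mem_filter.1 hg).2, sum_const, hG, smul_eq_mul] at hsum
  have hMn : M ≤ n := (card_le_univ _).trans_eq (Fintype.card_fin n)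
  have hkM : (n - 1) * k = M := by
    have h : n * ((n - 1) * k * N2) = n * (M * N2) := by rw [← hsum]; ring
    exact Nat.eq_of_mul_eq_mul_right hN2pos (Nat.eq_of_mul_eq_mul_left hn0 h)
  have hM0 : 0 < M := card_pos.2 ⟨v, by simp [hv]⟩
  have hk1 : k = 1 := by
    have h2 : k < 2 := by
      by_contra h
      push Not at h
      have := Nat.mul_le_mul_left (n - 1) h
      omega
    have h0 : k ≠ 0 := fun h => by rw [h, mul_zero] at hkM; omega
    omega
  rw [hk1, mul_one] at hkM
  -- two agreements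
  have harcs : ∀ (ρ : Perm (Fin n)), 4 ≤ (univ.filter fun a => ¬ ρ a = a).card →
      ∃ a c, ρ a ≠ a ∧ ρ c ≠ c ∧ c ≠ a ∧ c ≠ ρ a ∧ ρ c ≠ a := by
    intro ρ hρ
    obtain ⟨a, ha⟩ := card_pos.1 (by omega : 0 < (univ.filter fun a => ¬ ρ a = a).card)
    obtain ⟨c, hc⟩ : ((univ.filter fun a => ¬ ρ a = a) \ {a, ρ a, ρ.symm a}).Nonempty := card_pos.1 (by
      have h1 := le_card_sdiff ({a, ρ a, ρ.symm a} : Finset (Fin n)) (univ.filter fun a => ¬ ρ a = a)
      have h2 := card_le_three (a := a) (b := ρ a) (c := ρ.symm a)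
      omega)
    simp only [mem_sdiff, mem_filter, mem_univ, true_and, mem_insert, mem_singleton, not_or] at ha hc
    exact ⟨a, c, ha, hc.1, hc.2.1, hc.2.2.1, fun e => hc.2.2.2 ((Equiv.eq_symm_apply ρ).2 e)⟩
  have hfullσ : (univ.filter fun a => ¬ σ a = a) = univ := filter_true_of_mem fun a _ => hσ a
  obtain ⟨a, c, ha, hc, hca, hcσ, hσca⟩ := harcs σ (by rw [hfullσ, card_univ, Fintype.card_fin]; omega)
  obtain ⟨b, d, hb, hd, hdb, hdτ, hτdb⟩ := harcs τ (by omega)
  have hinj4 : ∀ (ρ : Perm (Fin n)) {a c : Fin n}, ρ a ≠ a → ρ c ≠ c → c ≠ a → c ≠ ρ a → ρ c ≠ a →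
      Function.Injective ![a, ρ a, c, ρ c] := fun ρ a c h1 h2 h3 h4 h5 => by
    have h6 : ρ a ≠ ρ c := fun e => h3 (ρ.injective e).symm
    intro p q hpq
    fin_cases p <;> fin_cases q <;> simp_all [h1.symm, h2.symm, h3.symm, h4.symm, h5.symm, h6.symm]
  obtain ⟨g, hg⟩ := exists_map (hinj4 σ ha hc hca hcσ hσca) (hinj4 τ hb hd hdb hdτ hτdb)
  have g0 : g a = b := hg 0
  have g1 : g (σ a) = τ b := hg 1
  have g2 : g c = d := hg 2
  have g3 : g (σ c) = τ d := hg 3
  have hbad : ∀ g' : Perm (Fin n), sign g' = 1 → τ (g' a) = g' (σ a) → τ (g' c) = g' (σ c) → False := by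
    intro g' hs h1 h2
    have hlt : 1 < agree σ τ g' := one_lt_card.2 ⟨a, by simp [h1], c, by simp [h2], Ne.symm hca⟩
    rw [hk g' hs, hk1] at hlt
    omega
  rcases Int.units_eq_one_or (sign g) with hs | hs
  · exact hbad g hs (by rw [g0, g1]) (by rw [g2, g3])
  -- an odd permutation commuting with the conjugated one
  obtain ⟨w, hw, hwc⟩ : ∃ w : Perm (Fin n), sign w = -1 ∧
      (∀ i, τ (g i) = g (σ i) → i = a ∨ i = c → τ (w (g i)) = w (g (σ i))) := by
    rcases Nat.lt_or_ge n 6 with h6 | h6
    · rcases Int.units_eq_one_or (sign τ) with hsτ | hsτ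
      · have hsupp : τ.support.card = 4 := by
          rw [show τ.support = univ.filter fun a => ¬ τ a = a from rfl]; omega
        have h2 := sign_of_cycleType τ
        rw [sum_cycleType, hsupp, hsτ] at h2
        have hall : ∀ m ∈ τ.cycleType, m = 2 := by
          intro m hm
          obtain ⟨s, hs'⟩ := Multiset.exists_cons_of_mem hm
          have hsum' := sum_cycleType τ
          rw [hsupp, hs', Multiset.sum_cons] at hsum'
          rw [hs', Multiset.card_cons] at h2
          have hm2 := two_le_of_mem_cycleType hm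
          rcases Multiset.empty_or_exists_mem s with rfl | ⟨m', hm'⟩
          · exact absurd h2 (by simp [pow_succ])
          · have := Multiset.le_sum_of_mem hm'
            have := two_le_of_mem_cycleType (σ := τ) (n := m') (hs' ▸ Multiset.mem_cons_of_mem hm')
            omega
        have hsq : τ ^ 2 = 1 := orderOf_dvd_iff_pow_eq_one.1 (by
          rw [← lcm_cycleType]; exact Multiset.lcm_dvd.2 fun m hm => dvd_of_eq (hall m hm))
        have hτ2 : ∀ y, τ (τ y) = y := fun y => by
          have := Equiv.ext_iff.1 hsq y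
          rwa [pow_two, Perm.mul_apply, Perm.one_apply] at this
        refine ⟨Equiv.swap b (τ b), sign_swap (Ne.symm hb), fun i hi _ => ?_⟩
        rw [← hi, ← Perm.mul_apply, ← Perm.mul_apply (Equiv.swap b (τ b)), Equiv.mul_swap_eq_swap_mul, hτ2,
          Equiv.swap_comm (τ b) b]
      · exact ⟨τ, hsτ, fun i hi _ => by rw [hi]⟩
    · obtain ⟨p, hp, r, hr, hpr⟩ := one_lt_card.1 (show 1 < (univ.image ![b, τ b, d, τ d])ᶜ.card by
        rw [card_compl, card_image_of_injective _ (hinj4 τ hb hd hdb hdτ hτdb), card_univ, Fintype.card_fin,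
          Fintype.card_fin]
        omega)
      refine ⟨Equiv.swap p r, sign_swap hpr, fun i hi hia => ?_⟩
      have hfix : ∀ k : Fin 4, Equiv.swap p r (![b, τ b, d, τ d] k) = ![b, τ b, d, τ d] k := fun k =>
        swap_apply_of_ne_of_ne (fun e => mem_compl.1 hp (mem_image.2 ⟨k, mem_univ k, e⟩))
          (fun e => mem_compl.1 hr (mem_image.2 ⟨k, mem_univ k, e⟩))
      rcases hia with rfl | rfl
      · have f0 := hfix 0; have f1 := hfix 1
        simp at f0 f1
        rw [g0, g1, f0, f1]
      · have f2 := hfix 2; have f3 := hfix 3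
        simp at f2 f3
        rw [g2, g3, f2, f3]
  exact hbad (w * g) (by rw [map_mul, hw, hs]; rfl) (hwc a (by rw [g0, g1]) (Or.inl rfl))
    (hwc c (by rw [g2, g3]) (Or.inr rfl))

/-- The number of agreements is not constant. -/
theorem not_const (hn : 5 ≤ n) {σ τ : Perm (Fin n)} (hσ : σ ≠ 1) (hτ : τ ≠ 1) (k : ℕ) :
    ¬ ∀ g, sign g = 1 → agree σ τ g = k := by
  by_cases hσf : ∀ i, σ i ≠ i
  · exact not_const_of_free hn hτ hσf k
  by_cases hτf : ∀ i, τ i ≠ i
  · intro h
    refine not_const_of_free hn hσ hτf k fun g hg => ?_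
    rw [agree_inv]
    exact h _ (by rw [map_inv, hg, inv_one])
  push Not at hσf hτf
  obtain ⟨x, hx⟩ := hσf
  obtain ⟨u, hu⟩ := hτf
  exact not_const_of_fixed hn hσ hτ hx hu k

end Cfsg.Agent.Agreement
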