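import Mathlib

/-!
# Two-transitive groups with an involution whose centraliser has constant fixity

Counting lemmas: if every non-identity element of `C(t)` fixes exactly `i` points, then
`n = i + |C(t)|`, every element interchanging two points is conjugate to `t`, and `i ≤ 2`.
-/

set_option autoImplicit false

namespace Cfsg.Agent.Perm.FixConst

open MulAction

variable {G Ω : Type*} [Group G] [MulAction G Ω]

/-- number of fixed points -/
noncomputable def nfix (Ω : Type*) {G : Type*} [Group G] [MulAction G Ω] (g : G) : ℕ :=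
  Nat.card {x : Ω // g • x = x}

lemma nfix_conj (g s : G) : nfix Ω (g * s * g⁻¹) = nfix Ω s := by
  refine Nat.card_congr ((MulAction.toPerm g).subtypeEquiv fun x => ?_).symm
  simp [MulAction.toPerm_apply, mul_smul, inv_smul_smul]

lemma nfix_one [Fintype Ω] : nfix Ω (1 : G) = Fintype.card Ω := by
  rw [nfix, ← Nat.card_eq_fintype_card]
  exact Nat.card_congr (Equiv.subtypeUnivEquiv fun x => one_smul G x)

/-- two distinct fixed points -/
lemma two_le_nfix [Finite Ω] {g : G} {a b : Ω} (hab : a ≠ b) (ha : g • a = a) (hb : g • b = b) :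
    2 ≤ nfix Ω g := by
  haveI : Nontrivial {x : Ω // g • x = x} :=
    ⟨⟨⟨a, ha⟩, ⟨b, hb⟩, fun h => hab (congrArg Subtype.val h)⟩⟩
  exact Finite.one_lt_card

/-- three distinct fixed points -/
lemma three_le_nfix [Fintype Ω] {g : G} {a b c : Ω} (hab : a ≠ b) (hbc : b ≠ c) (hac : a ≠ c)
    (ha : g • a = a) (hb : g • b = b) (hc : g • c = c) : 3 ≤ nfix Ω g := by
  classical
  rw [nfix, Nat.card_eq_fintype_card, Fintype.card_subtype]
  have h : ({a, b, c} : Finset Ω) ⊆ Finset.univ.filter fun x => g • x = x := by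
    intro x hx
    simp only [Finset.mem_insert, Finset.mem_singleton] at hx
    rcases hx with rfl | rfl | rfl <;> simp [ha, hb, hc]
  have h' := Finset.card_le_card h
  rw [Finset.card_eq_three.mpr ⟨a, b, c, hab, hac, hbc, rfl⟩] at h'
  exact h'

/-- if `Fix g ⊆ Fix g'` with equally many points they are equal -/
lemma fix_eq_of_subset [Fintype Ω] {g g' : G} (hsub : ∀ x : Ω, g • x = x → g' • x = x)
    (hcard : nfix Ω g' ≤ nfix Ω g) : ∀ x : Ω, g' • x = x → g • x = x := by
  classical
  have hs : (Finset.univ.filter fun x : Ω => g • x = x) ⊆ Finset.univ.filter fun x => g' • x = x := by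
    intro x hx
    simp only [Finset.mem_filter, Finset.mem_univ, true_and] at hx ⊢
    exact hsub x hx
  have he := Finset.eq_of_subset_of_card_le hs (by
    simpa [nfix, Nat.card_eq_fintype_card, Fintype.card_subtype] using hcard)
  intro x hx
  have : x ∈ Finset.univ.filter fun x : Ω => g • x = x := by
    rw [he]; simp [hx]
  simpa using this

/-- The hypothesis. -/
structure Hyp (G Ω : Type*) [Group G] [MulAction G Ω] (i : ℕ) (t : G) : Prop where
  faithful : FaithfulSMul G Ω
  trans : ∀ {a b c d : Ω}, a ≠ b → c ≠ d → ∃ g : G, g • a = c ∧ g • b = d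
  sq : t * t = 1
  ne : t ≠ 1
  card : nfix Ω t = i
  cent : ∀ g : G, Commute g t → g ≠ 1 → nfix Ω g = i

namespace Hyp

variable {i : ℕ} {t : G}

lemma conj (H : Hyp G Ω i t) {s : G} (hs : IsConj t s) : Hyp G Ω i s := by
  obtain ⟨c, rfl⟩ := isConj_iff.mp hs
  refine ⟨H.faithful, H.trans, ?_, ?_, ?_, ?_⟩
  · calc c * t * c⁻¹ * (c * t * c⁻¹) = c * (t * t) * c⁻¹ := by group
      _ = 1 := by rw [H.sq]; group
  · intro h
    apply H.ne
    calc t = c⁻¹ * (c * t * c⁻¹) * c := by group
      _ = 1 := by rw [h]; group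
  · rw [nfix_conj, H.card]
  · intro g hg hg1
    have h1 : Commute (c⁻¹ * g * c) t := by
      show (c⁻¹ * g * c) * t = t * (c⁻¹ * g * c)
      have := hg.eq
      calc (c⁻¹ * g * c) * t = c⁻¹ * (g * (c * t * c⁻¹)) * c := by group
        _ = c⁻¹ * ((c * t * c⁻¹) * g) * c := by rw [this]
        _ = t * (c⁻¹ * g * c) := by group
    have h2 : c⁻¹ * g * c ≠ 1 := by
      intro h
      apply hg1
      calc g = c * (c⁻¹ * g * c) * c⁻¹ := by group
        _ = 1 := by rw [h]; group
    have h3 := H.cent _ h1 h2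
    have h4 : g = c * (c⁻¹ * g * c) * c⁻¹ := by group
    rw [h4, nfix_conj, h3]

lemma exists_moved (H : Hyp G Ω i t) {g : G} (hg : g ≠ 1) : ∃ a : Ω, g • a ≠ a := by
  by_contra h
  push Not at h
  exact hg (H.faithful.eq_of_smul_eq_smul fun a => (h a).trans (one_smul G a).symm)

lemma eq_one (H : Hyp G Ω i t) {g : G} (hg : ∀ a : Ω, g • a = a) : g = 1 :=
  H.faithful.eq_of_smul_eq_smul fun a => (hg a).trans (one_smul G a).symm

lemma smul_smul_self (H : Hyp G Ω i t) (a : Ω) : t • t • a = a := by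
  rw [smul_smul, H.sq, one_smul]

lemma inv_eq (H : Hyp G Ω i t) : t⁻¹ = t := inv_eq_of_mul_eq_one_right H.sq

/-- elements mapping one pair of points to another one -/
def Mv (G : Type*) {Ω : Type*} [Group G] [MulAction G Ω] (a b c d : Ω) : Type _ :=
  {g : G // g • a = c ∧ g • b = d}

instance [Finite G] (a b c d : Ω) : Finite (Mv G a b c d) :=
  inferInstanceAs (Finite {g : G // _})

lemma card_mv_right (H : Hyp G Ω i t) {a b c d : Ω} (hab : a ≠ b) (hcd : c ≠ d) :
    Nat.card (Mv G a b c d) = Nat.card (Mv G a b a b) := by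
  obtain ⟨g₁, h1, h2⟩ := H.trans hab hcd
  refine Nat.card_congr ((Equiv.mulLeft g₁⁻¹).subtypeEquiv fun g => ?_)
  simp only [Equiv.coe_mulLeft, mul_smul, inv_smul_eq_iff, h1, h2]

lemma card_mv_left (H : Hyp G Ω i t) {a b c d : Ω} (hab : a ≠ b) (hcd : c ≠ d) :
    Nat.card (Mv G a b c d) = Nat.card (Mv G c d c d) := by
  obtain ⟨g₁, h1, h2⟩ := H.trans hab hcd
  refine Nat.card_congr ((Equiv.mulRight g₁⁻¹).subtypeEquiv fun g => ?_)
  simp only [Equiv.coe_mulRight, mul_smul, inv_smul_eq_iff.mpr h1.symm, inv_smul_eq_iff.mpr h2.symm]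

lemma card_mv_pos [Finite G] (a b : Ω) : 0 < Nat.card (Mv G a b a b) := by
  haveI : Nonempty (Mv G a b a b) := ⟨⟨1, one_smul G a, one_smul G b⟩⟩
  exact Nat.card_pos

section counting

variable [Finite G] [Fintype Ω]

lemma i_lt (H : Hyp G Ω i t) : i < Fintype.card Ω := by
  classical
  obtain ⟨a, ha⟩ := H.exists_moved H.ne
  rw [← H.card, nfix, Nat.card_eq_fintype_card]
  exact Fintype.card_subtype_lt ha

/-- Burnside's lemma on the centraliser: its order divides `n - i`. -/
lemma card_cent_dvd (H : Hyp G Ω i t) :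
    Nat.card {g : G // Commute g t} ∣ Fintype.card Ω - i := by
  classical
  let C : Subgroup G :=
    { carrier := {g | Commute g t}
      one_mem' := Commute.one_left t
      mul_mem' := fun ha hb => Commute.mul_left ha hb
      inv_mem' := fun ha => Commute.inv_left ha }
  haveI : Fintype C := Fintype.ofFinite C
  have hb := MulAction.sum_card_fixedBy_eq_card_orbits_mul_card_group C Ω
  have hterm : ∀ c : C, c ≠ 1 → Fintype.card (fixedBy Ω c) = i := by
    intro c hc
    have h1 : (c : G) ≠ 1 := fun h => hc (Subtype.ext h)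
    rw [← H.cent c c.2 h1, nfix, ← Nat.card_eq_fintype_card]
    rfl
  have hone : Fintype.card (fixedBy Ω (1 : C)) = Fintype.card Ω := by
    rw [← Nat.card_eq_fintype_card, ← nfix_one (G := G) (Ω := Ω), nfix]
    rfl
  rw [← Finset.sum_erase_add _ _ (Finset.mem_univ (1 : C)), hone,
    Finset.sum_congr rfl (fun c hc => hterm c (Finset.ne_of_mem_erase hc)), Finset.sum_const,
    Finset.card_erase_of_mem (Finset.mem_univ _), Finset.card_univ, smul_eq_mul] at hb
  have hC : Nat.card {g : G // Commute g t} = Fintype.card C := by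
    rw [← Nat.card_eq_fintype_card]
    rfl
  rw [hC]
  generalize hk : Fintype.card (Quotient (orbitRel C Ω)) = k at hb
  have hlt := H.i_lt
  have hpos : 0 < Fintype.card C := Fintype.card_pos
  have h2 : Fintype.card Ω - i + Fintype.card C * i = Fintype.card C * k := by
    have h3 : (Fintype.card C - 1) * i + i = Fintype.card C * i := by
      rw [← Nat.succ_mul]; congr 1; omega
    rw [mul_comm (Fintype.card C) k, ← hb]
    omega
  have h4 : Fintype.card C ∣ Fintype.card Ω - i + Fintype.card C * i := h2 ▸ dvd_mul_right _ _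
  exact (Nat.dvd_add_left (dvd_mul_right _ _)).mp h4

/-- the number of conjugators `g` with `g t g⁻¹` equal to a given conjugate of `t` -/
lemma card_conjugator (_H : Hyp G Ω i t) (g₀ : G) :
    Nat.card {g : G // g * t * g⁻¹ = g₀ * t * g₀⁻¹} = Nat.card {g : G // Commute g t} := by
  refine Nat.card_congr ((Equiv.mulLeft g₀⁻¹).subtypeEquiv fun g => ?_)
  simp only [Equiv.coe_mulLeft]
  constructor
  · intro h
    show g₀⁻¹ * g * t = t * (g₀⁻¹ * g)
    calc g₀⁻¹ * g * t = g₀⁻¹ * (g * t * g⁻¹) * g := by group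
      _ = g₀⁻¹ * (g₀ * t * g₀⁻¹) * g := by rw [h]
      _ = t * (g₀⁻¹ * g) := by group
  · intro h
    have h' : g₀⁻¹ * g * t = t * (g₀⁻¹ * g) := h.eq
    calc g * t * g⁻¹ = g₀ * (g₀⁻¹ * g * t) * g⁻¹ := by group
      _ = g₀ * (t * (g₀⁻¹ * g)) * g⁻¹ := by rw [h']
      _ = g₀ * t * g₀⁻¹ := by group

/-- conjugators `g` with `g t g⁻¹` satisfying a given property -/
lemma card_conjugator_of (H : Hyp G Ω i t) (P : G → Prop) :
    Nat.card {g : G // P (g * t * g⁻¹)} =
      Nat.card {g : G // Commute g t} * Nat.card {s : G // IsConj t s ∧ P s} := by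
  classical
  haveI : Fintype {s : G // IsConj t s ∧ P s} := Fintype.ofFinite _
  let f : {g : G // P (g * t * g⁻¹)} → {s : G // IsConj t s ∧ P s} :=
    fun g => ⟨g.1 * t * g.1⁻¹, isConj_iff.mpr ⟨g.1, rfl⟩, g.2⟩
  rw [← Nat.card_congr (Equiv.sigmaFiberEquiv f), Nat.card_sigma,
    Finset.sum_congr rfl (fun s _ => show Nat.card {g // f g = s} =
      Nat.card {g : G // Commute g t} from ?_), Finset.sum_const, Finset.card_univ, smul_eq_mul,
    ← Nat.card_eq_fintype_card, mul_comm]
  obtain ⟨g₀, hg₀⟩ := isConj_iff.mp s.2.1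
  rw [← H.card_conjugator g₀]
  refine Nat.card_congr
    { toFun := fun g => ⟨g.1.1, by rw [hg₀]; exact congrArg Subtype.val g.2⟩
      invFun := fun g => ⟨⟨g.1, by rw [g.2, hg₀]; exact s.2.2⟩,
        Subtype.ext (g.2.trans hg₀)⟩
      left_inv := fun g => rfl
      right_inv := fun g => rfl }

/-- The fundamental count. -/
theorem basic_count (H : Hyp G Ω i t) :
    Fintype.card Ω = i + Nat.card {g : G // Commute g t} ∧
    ∀ a b : Ω, a ≠ b →
      (∀ h : G, h • a = b → h • b = a → IsConj t h) ∧ ∃ h : G, h • a = b ∧ h • b = a := by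
  classical
  haveI : Fintype G := Fintype.ofFinite G
  obtain ⟨a₀, ha₀⟩ := H.exists_moved H.ne
  let P : Type _ := {p : Ω × Ω // p.1 ≠ p.2}
  set c := Nat.card {g : G // Commute g t} with hc
  let T : P → ℕ := fun p => Nat.card {s : G // IsConj t s ∧ s • p.1.1 = p.1.2}
  let S : P → ℕ := fun p => Nat.card (Mv G p.1.1 p.1.2 p.1.2 p.1.1)
  let M : P → ℕ := fun p => Nat.card (Mv G (t • a₀) a₀ p.1.1 p.1.2)
  -- every pair is the image of the base pair under as many elements
  have hM : ∑ p, M p = Nat.card G := by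
    let f : G → P := fun g => ⟨(g • (t • a₀), g • a₀), fun h => ha₀ (smul_left_cancel g h)⟩
    rw [← Nat.card_congr (Equiv.sigmaFiberEquiv f), Nat.card_sigma]
    refine Finset.sum_congr rfl fun p _ => Nat.card_congr (Equiv.subtypeEquivRight fun g => ?_)
    constructor
    · rintro ⟨h1, h2⟩
      exact Subtype.ext (Prod.ext h1 h2)
    · intro h
      subst h
      exact ⟨rfl, rfl⟩
  have hSM : ∀ p : P, S p = M p := by
    intro p
    show Nat.card (Mv G p.1.1 p.1.2 p.1.2 p.1.1) = Nat.card (Mv G (t • a₀) a₀ p.1.1 p.1.2)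
    rw [H.card_mv_right p.2 p.2.symm, H.card_mv_left ha₀ p.2]
  -- conjugates of `t` moving `a` to `b` interchange them
  have hTS : ∀ p : P, T p ≤ S p := by
    intro p
    refine Nat.card_le_card_of_injective
      (fun s => ⟨s.1, s.2.2, by
        have h := (H.conj s.2.1).smul_smul_self p.1.1
        rwa [s.2.2] at h⟩) ?_
    intro s s' h
    exact Subtype.ext (congrArg (fun x : Mv G _ _ _ _ => x.1) h)
  -- double counting
  have hkey : Nat.card G * (Fintype.card Ω - i) = c * ∑ p, T p := by
    have h1 : Nat.card G * (Fintype.card Ω - i) =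
        Nat.card ((g : G) × {a : Ω // (g * t * g⁻¹) • a ≠ a}) := by
      rw [Nat.card_sigma, Finset.sum_congr rfl (fun g _ => show
          Nat.card {a : Ω // (g * t * g⁻¹) • a ≠ a} = Fintype.card Ω - i from ?_),
        Finset.sum_const, Finset.card_univ, smul_eq_mul, Nat.card_eq_fintype_card]
      rw [← H.card, ← nfix_conj (Ω := Ω) g t, nfix, Nat.card_eq_fintype_card,
        Nat.card_eq_fintype_card, Fintype.card_subtype_compl]
    have h2 : Nat.card ((g : G) × {a : Ω // (g * t * g⁻¹) • a ≠ a}) =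
        Nat.card ((p : P) × {g : G // (g * t * g⁻¹) • p.1.1 = p.1.2}) := by
      refine Nat.card_congr
        { toFun := fun x => ⟨⟨(x.2.1, (x.1 * t * x.1⁻¹) • x.2.1), fun h => x.2.2 h.symm⟩, x.1, rfl⟩
          invFun := fun y => ⟨y.2.1, y.1.1.1, fun h => y.1.2 (h.symm.trans y.2.2)⟩
          left_inv := fun x => rfl
          right_inv := ?_ }
      rintro ⟨⟨⟨a, b⟩, hab⟩, g, hg⟩
      have hg' : (g * t * g⁻¹) • a = b := hg
      subst hg'
      rfl
    rw [h1, h2, Nat.card_sigma, Finset.mul_sum]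
    exact Finset.sum_congr rfl fun p _ => H.card_conjugator_of fun s => s • p.1.1 = p.1.2
  have hTle : ∑ p, T p ≤ Nat.card G := by
    rw [← hM]
    exact Finset.sum_le_sum fun p _ => (hTS p).trans (hSM p).le
  have hGpos : 0 < Nat.card G := Nat.card_pos
  have hcpos : 0 < c := by
    haveI : Nonempty {g : G // Commute g t} := ⟨⟨1, Commute.one_left t⟩⟩
    exact Nat.card_pos
  have hle : Fintype.card Ω - i ≤ c := by
    refine Nat.le_of_mul_le_mul_left ?_ hGpos
    rw [hkey, mul_comm (Nat.card G) c]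
    exact Nat.mul_le_mul_left c hTle
  have hilt := H.i_lt
  have hdvd : c ∣ Fintype.card Ω - i := H.card_cent_dvd
  have heq : Fintype.card Ω - i = c := le_antisymm hle (Nat.le_of_dvd (by omega) hdvd)
  refine ⟨by omega, fun a b hab => ?_⟩
  have hsum : ∑ p, T p = ∑ p, S p := by
    rw [Finset.sum_congr rfl (fun p _ => hSM p), hM]
    refine Nat.eq_of_mul_eq_mul_left hcpos ?_
    rw [← hkey, heq, mul_comm]
  have hTeq : T ⟨(a, b), hab⟩ = S ⟨(a, b), hab⟩ :=
    (Finset.sum_eq_sum_iff_of_le fun p _ => hTS p).mp hsum _ (Finset.mem_univ _)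
  constructor
  · intro h h1 h2
    let f : {s : G // IsConj t s ∧ s • a = b} → Mv G a b b a := fun s =>
      ⟨s.1, s.2.2, by
        have h' := (H.conj s.2.1).smul_smul_self a
        rwa [s.2.2] at h'⟩
    have hf : Function.Injective f := fun s s' e =>
      Subtype.ext (congrArg (fun x : Mv G _ _ _ _ => x.1) e)
    have hb : Function.Bijective f := (Nat.bijective_iff_injective_and_card f).mpr ⟨hf, hTeq⟩
    obtain ⟨s, hs⟩ := hb.2 ⟨h, h1, h2⟩
    have : s.1 = h := congrArg (fun x : Mv G _ _ _ _ => x.1) hs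
    rw [← this]
    exact s.2.1
  · obtain ⟨g, h1, h2⟩ := H.trans hab hab.symm
    exact ⟨g, h1, h2⟩

lemma card_eq (H : Hyp G Ω i t) : Fintype.card Ω = i + Nat.card {g : G // Commute g t} :=
  H.basic_count.1

lemma isConj_of_swap (H : Hyp G Ω i t) {a b : Ω} (hab : a ≠ b) {h : G} (h1 : h • a = b)
    (h2 : h • b = a) : IsConj t h :=
  (H.basic_count.2 a b hab).1 h h1 h2

lemma exists_swap (H : Hyp G Ω i t) {a b : Ω} (hab : a ≠ b) :
    ∃ h : G, h • a = b ∧ h • b = a :=
  (H.basic_count.2 a b hab).2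

lemma isConj_of_involution (H : Hyp G Ω i t) {u : G} (hu : u * u = 1) (hu1 : u ≠ 1) :
    IsConj t u := by
  obtain ⟨a, ha⟩ := H.exists_moved hu1
  refine H.isConj_of_swap (Ne.symm ha) rfl ?_
  rw [smul_smul, hu, one_smul]

lemma swap_sq (H : Hyp G Ω i t) {a b : Ω} (hab : a ≠ b) {h : G} (h1 : h • a = b)
    (h2 : h • b = a) : h * h = 1 :=
  (H.conj (H.isConj_of_swap hab h1 h2)).sq

/-- an element interchanging two points inverts their common stabiliser -/
lemma swap_inverts (H : Hyp G Ω i t) {a b : Ω} (hab : a ≠ b) {h d : G} (h1 : h • a = b)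
    (h2 : h • b = a) (ha : d • a = a) (hb : d • b = b) : h * d * h⁻¹ = d⁻¹ := by
  have e1 : (h * d) • a = b := by rw [mul_smul, ha, h1]
  have e2 : (h * d) • b = a := by rw [mul_smul, hb, h2]
  have e3 := H.swap_sq hab e1 e2
  have e4 : h⁻¹ = h := inv_eq_of_mul_eq_one_right (H.swap_sq hab h1 h2)
  rw [e4]
  exact eq_inv_of_mul_eq_one_left (by rw [← e3]; group)

/-- two-point stabilisers are commutative -/
lemma stab_comm (H : Hyp G Ω i t) {a b : Ω} (hab : a ≠ b) {d d' : G}
    (ha : d • a = a) (hb : d • b = b) (ha' : d' • a = a) (hb' : d' • b = b) :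
    Commute d d' := by
  obtain ⟨h, h1, h2⟩ := H.exists_swap hab
  have e := H.swap_inverts hab h1 h2 (d := d * d')
    (by rw [mul_smul, ha', ha]) (by rw [mul_smul, hb', hb])
  have e1 := H.swap_inverts hab h1 h2 ha hb
  have e2 := H.swap_inverts hab h1 h2 ha' hb'
  have e3 : d⁻¹ * d'⁻¹ = d'⁻¹ * d⁻¹ := by
    rw [← mul_inv_rev d d', ← e, ← e1, ← e2]
    group
  show d * d' = d' * d
  calc d * d' = (d'⁻¹ * d⁻¹)⁻¹ := by group
    _ = (d⁻¹ * d'⁻¹)⁻¹ := by rw [e3]
    _ = d' * d := by group

section large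

/-- for `i ≥ 2` every pair of points is fixed by a conjugate of `t` -/
lemma exists_conj_fix (H : Hyp G Ω i t) (hi : 2 ≤ i) {a b : Ω} (hab : a ≠ b) :
    ∃ s : G, IsConj t s ∧ s • a = a ∧ s • b = b := by
  haveI : Nontrivial {x : Ω // t • x = x} := by
    apply Finite.one_lt_card_iff_nontrivial.mp
    show 1 < nfix Ω t
    rw [H.card]; omega
  obtain ⟨⟨x, hx⟩, ⟨y, hy⟩, hne⟩ := exists_pair_ne {x : Ω // t • x = x}
  obtain ⟨g, h1, h2⟩ := H.trans (a := x) (b := y) (fun e => hne (Subtype.ext e)) hab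
  refine ⟨g * t * g⁻¹, isConj_iff.mpr ⟨g, rfl⟩, ?_, ?_⟩
  · rw [mul_smul, mul_smul, ← h1, inv_smul_smul, hx]
  · rw [mul_smul, mul_smul, ← h2, inv_smul_smul, hy]

variable (H : Hyp G Ω i t)
include H

/-- an element fixing two points of `Fix t` commutes with `t` -/
lemma commute_of_fix {x y : Ω} (hxy : x ≠ y) (hx : t • x = x) (hy : t • y = y)
    {d : G} (dx : d • x = x) (dy : d • y = y) : Commute d t :=
  H.stab_comm hxy dx dy hx hy

/-- an element interchanging two points of `Fix t` commutes with `t` -/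
lemma commute_of_swap {x y : Ω} (hxy : x ≠ y) (hx : t • x = x) (hy : t • y = y)
    {s : G} (h1 : s • x = y) (h2 : s • y = x) : Commute s t := by
  have e := H.swap_inverts hxy h1 h2 hx hy
  rw [H.inv_eq] at e
  show s * t = t * s
  calc s * t = (s * t * s⁻¹) * s := by group
    _ = t * s := by rw [e]

lemma smul_fix {g : G} (hg : Commute g t) {x : Ω} (hx : t • x = x) : t • g • x = g • x := by
  rw [← mul_smul, ← hg.eq, mul_smul, hx]

/-- elements of `C(t)` that are not of order at most `2` fix `Fix t` pointwise -/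
lemma fix_of_sq_ne {g : G} (hg : Commute g t) (hg2 : g * g ≠ 1) {x : Ω} (hx : t • x = x) :
    g • x = x ∧ (g * g) • x = x := by
  have e1 : g * t * (g * t) = g * g := by
    calc g * t * (g * t) = g * (t * g) * t := by group
      _ = g * (g * t) * t := by rw [hg.eq]
      _ = g * g * (t * t) := by group
      _ = g * g := by rw [H.sq, mul_one]
  have hg1 : g ≠ 1 := by rintro rfl; exact hg2 (mul_one 1)
  have hgt : g * t ≠ 1 := by intro e; rw [e, mul_one] at e1; exact hg2 e1.symm
  have p1 := H.cent g hg hg1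
  have p2 := H.cent (g * t) (Commute.mul_left hg (Commute.refl t)) hgt
  have p3 := H.cent (g * g) (Commute.mul_left hg hg) hg2
  have s1 : ∀ z : Ω, (g * g) • z = z → g • z = z :=
    fix_eq_of_subset (fun z hz => by rw [mul_smul, hz, hz]) (by omega)
  have s2 : ∀ z : Ω, (g * g) • z = z → (g * t) • z = z :=
    fix_eq_of_subset (fun z hz => by rw [← e1, mul_smul, hz, hz]) (by omega)
  have s3 : ∀ z : Ω, t • z = z → (g * g) • z = z := by
    refine fix_eq_of_subset (fun z hz => ?_) (by rw [H.card, p3])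
    have a1 := s1 z hz
    have a2 := s2 z hz
    rw [mul_smul] at a2
    exact smul_left_cancel g (a2.trans a1.symm)
  exact ⟨s1 x (s3 x hx), s3 x hx⟩

lemma sq_fix {g : G} (hg : Commute g t) {x : Ω} (hx : t • x = x) : g • g • x = x := by
  rw [smul_smul]
  by_cases h : g * g = 1
  · rw [h, one_smul]
  · exact (H.fix_of_sq_ne hg h hx).2

lemma fix_comm {g h : G} (hg : Commute g t) (hh : Commute h t) {z : Ω} (hz : t • z = z) :
    g • h • z = h • g • z := by
  have e := H.sq_fix (Commute.mul_left hg hh) hz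
  rw [mul_smul, mul_smul] at e
  have e1 : h • g • h • z = g • z := by
    have a := congrArg (fun w => g • w) e
    rwa [H.sq_fix hg (H.smul_fix hh (H.smul_fix hg (H.smul_fix hh hz)))] at a
  have a := congrArg (fun w => h • w) e1
  rwa [H.sq_fix hh (H.smul_fix hg (H.smul_fix hh hz))] at a

/-- stabilisers in `C(t)` of a point of `Fix t` fix `Fix t` pointwise -/
lemma fix_all {g : G} (hg : Commute g t) {x z : Ω} (hx : t • x = x) (gx : g • x = x)
    (hz : t • z = z) : g • z = z := by
  rcases eq_or_ne x z with rfl | hne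
  · exact gx
  obtain ⟨s, h1, h2⟩ := H.exists_swap hne
  have hs := H.commute_of_swap hne hx hz h1 h2
  rw [← h1, H.fix_comm hg hs hx, gx]

end large

/-- a conjugate `u` of `t` fixing two points of `Fix t` has the same fixed points -/
lemma fix_unique (H : Hyp G Ω i t) {u : G} (hu : IsConj t u) {x y : Ω} (hxy : x ≠ y)
    (hx : t • x = x) (hy : t • y = y) (ux : u • x = x) (uy : u • y = y) :
    ∀ z : Ω, t • z = z ↔ u • z = z := by
  have Hu := H.conj hu
  have hc : Commute u t := H.commute_of_fix hxy hx hy ux uy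
  exact fun z => ⟨fun hz => H.fix_all hc hx ux hz, fun hz => Hu.fix_all hc.symm ux hx hz⟩

/-- the fixity is at most two -/
theorem fixity_le_two (H : Hyp G Ω i t) : i ≤ 2 := by
  classical
  by_contra hlt
  have hi : 3 ≤ i := by omega
  let F : Finset Ω := Finset.univ.filter fun z => t • z = z
  have hF : F.card = i := by
    rw [← H.card, nfix, Nat.card_eq_fintype_card, Fintype.card_subtype]
  have memF : ∀ {z : Ω}, z ∈ F ↔ t • z = z := by simp [F]
  obtain ⟨x, hxF⟩ : F.Nonempty := Finset.card_pos.mp (by omega)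
  have hx := memF.mp hxF
  -- elements of C(t) fixing a point of F square to one
  have hexp : ∀ d : G, Commute d t → ∀ w : Ω, t • w = w → d • w = w → d * d = 1 := by
    intro d hd w hw dw
    obtain ⟨y, hyF, hyw⟩ : ∃ y ∈ F, y ≠ w :=
      Finset.exists_mem_ne (by omega) w
    obtain ⟨z, hzF, hz1, hz2⟩ : ∃ z ∈ F, z ≠ w ∧ z ≠ y := by
      have : (({w, y} : Finset Ω)).card < F.card := by
        have := Finset.card_le_two (a := w) (b := y)
        omega
      obtain ⟨z, hz, hz'⟩ := Finset.exists_mem_notMem_of_card_lt_card this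
      simp only [Finset.mem_insert, Finset.mem_singleton, not_or] at hz'
      exact ⟨z, hz, hz'.1, hz'.2⟩
    have hy := memF.mp hyF
    have hz := memF.mp hzF
    have dy : d • y = y := H.fix_all hd hw dw hy
    have dz : d • z = z := H.fix_all hd hw dw hz
    obtain ⟨s₁, a1, a2⟩ := H.exists_swap (Ne.symm hyw)
    obtain ⟨s₂, b1, b2⟩ := H.exists_swap (Ne.symm hz1)
    have c1 := H.commute_of_swap (Ne.symm hyw) hw hy a1 a2
    have c2 := H.commute_of_swap (Ne.symm hz1) hw hz b1 b2
    have pz : (s₁ * s₂) • z = y := by rw [mul_smul, b2, a1]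
    have py : (s₁ * s₂) • y = z := by
      have e := H.sq_fix (Commute.mul_left c1 c2) hz
      rwa [pz] at e
    have e1 := H.swap_inverts hz2 pz py dz dy
    have e2 := H.swap_inverts (Ne.symm hyw) a1 a2 dw dy
    have e3 := H.swap_inverts (Ne.symm hz1) b1 b2 dw dz
    have e4 : s₁ * s₂ * d * (s₁ * s₂)⁻¹ = d := by
      calc s₁ * s₂ * d * (s₁ * s₂)⁻¹ = s₁ * (s₂ * d * s₂⁻¹) * s₁⁻¹ := by group
        _ = (s₁ * d * s₁⁻¹)⁻¹ := by rw [e3]; group
        _ = d := by rw [e2, inv_inv]
    exact mul_eq_one_iff_eq_inv.mpr (e4.symm.trans e1)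
  have hall : ∀ g : G, Commute g t → g * g = 1 := by
    intro g hg
    by_contra h
    exact h (hexp g hg x hx (H.fix_of_sq_ne hg h hx).1)
  -- hence C(t) is a 2-group
  let C : Subgroup G :=
    { carrier := {g | Commute g t}
      one_mem' := Commute.one_left t
      mul_mem' := fun ha hb => Commute.mul_left ha hb
      inv_mem' := fun ha => Commute.inv_left ha }
  have hp : IsPGroup 2 C := fun g => ⟨1, Subtype.ext (by simpa [pow_two] using hall g.1 g.2)⟩
  haveI : Fact (Nat.Prime 2) := ⟨Nat.prime_two⟩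
  obtain ⟨k, hk⟩ := IsPGroup.iff_card.mp hp
  have hk' : Nat.card {g : G // Commute g t} = 2 ^ k := hk
  -- `F` is one orbit of C(t), so `i` is even
  have hieven : 2 ∣ i := by
    have horb : MulAction.orbit C x = (F : Set Ω) := by
      ext z
      constructor
      · rintro ⟨c, rfl⟩
        exact memF.mpr (H.smul_fix c.2 hx)
      · intro hz
        rcases eq_or_ne x z with rfl | hne
        · exact MulAction.mem_orbit_self x
        obtain ⟨s, h1, h2⟩ := H.exists_swap hne
        exact ⟨⟨s, H.commute_of_swap hne hx (memF.mp hz) h1 h2⟩, h1⟩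
    have hd : i ∣ 2 ^ k := by
      rw [← hk, ← hF, ← Set.ncard_coe_finset, ← horb, ← MulAction.index_stabilizer]
      exact Subgroup.index_dvd_card _
    obtain ⟨j, -, hj⟩ := (Nat.dvd_prime_pow Nat.prime_two).mp hd
    rcases j with _ | j
    · rw [pow_zero] at hj; omega
    · exact hj ▸ dvd_pow_self 2 (Nat.succ_ne_zero j)
  -- the blocks through `x` partition the other points
  have hdvd : i - 1 ∣ Fintype.card Ω - 1 := by
    let B : G → Finset Ω := fun u => (Finset.univ.filter fun z : Ω => u • z = z).erase x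
    have hex : ∀ y ∈ Finset.univ.erase x, ∃ u : G, IsConj t u ∧ u • x = x ∧ u • y = y :=
      fun y hy => H.exists_conj_fix (by omega) (Finset.ne_of_mem_erase hy).symm
    choose u hu1 hu2 hu3 using hex
    let f : Ω → Finset Ω := fun y => if h : y ∈ Finset.univ.erase x then B (u y h) else ∅
    have hfib := Finset.card_eq_sum_card_fiberwise (f := f) (s := Finset.univ.erase x)
      (t := (Finset.univ.erase x).image f) (fun y hy => Finset.mem_image_of_mem f hy)
    rw [Finset.card_erase_of_mem (Finset.mem_univ x), Finset.card_univ] at hfib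
    rw [hfib]
    refine Finset.dvd_sum fun b hb => ?_
    obtain ⟨y, hy, rfl⟩ := Finset.mem_image.mp hb
    have hfy : f y = B (u y hy) := dif_pos hy
    have : (Finset.univ.erase x).filter (fun a => f a = f y) = B (u y hy) := by
      ext a
      simp only [Finset.mem_filter]
      constructor
      · rintro ⟨ha, hfa⟩
        rw [← hfy, ← hfa, show f a = B (u a ha) from dif_pos ha]
        simp only [B, Finset.mem_erase, Finset.mem_filter, Finset.mem_univ, true_and]
        exact ⟨Finset.ne_of_mem_erase ha, hu3 a ha⟩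
      · intro ha
        simp only [B, Finset.mem_erase, Finset.mem_filter, Finset.mem_univ, true_and] at ha
        have ha' : a ∈ Finset.univ.erase x := Finset.mem_erase.mpr ⟨ha.1, Finset.mem_univ a⟩
        refine ⟨ha', ?_⟩
        rw [hfy, show f a = B (u a ha') from dif_pos ha']
        have Hu := H.conj (hu1 y hy)
        have hfu := Hu.fix_unique ((hu1 y hy).symm.trans (hu1 a ha')) (Ne.symm ha.1)
          (hu2 y hy) ha.2 (hu2 a ha') (hu3 a ha')
        ext z
        simp only [B, Finset.mem_erase, Finset.mem_filter, Finset.mem_univ, true_and, hfu z]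
    rw [this]
    show i - 1 ∣ ((Finset.univ.filter fun z : Ω => u y hy • z = z).erase x).card
    rw [Finset.card_erase_of_mem (by simp [hu2 y hy])]
    apply dvd_of_eq
    congr 1
    rw [← (H.conj (hu1 y hy)).card, nfix, Nat.card_eq_fintype_card, Fintype.card_subtype]
  have hn := H.card_eq
  rw [hk'] at hn
  have hd2 : i - 1 ∣ 2 ^ k := by
    have h3 : Fintype.card Ω - 1 = 2 ^ k + (i - 1) := by omega
    rw [h3] at hdvd
    exact (Nat.dvd_add_left dvd_rfl).mp hdvd
  obtain ⟨j, -, hj⟩ := (Nat.dvd_prime_pow Nat.prime_two).mp hd2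
  obtain ⟨m, hm⟩ := hieven
  rcases j with _ | j
  · rw [pow_zero] at hj; omega
  · rw [pow_succ] at hj; omega

/-- for `i = 2` no non-identity element fixes three points -/
lemma semiregular_of_two (H : Hyp G Ω 2 t) {g : G} {a b c : Ω} (hab : a ≠ b) (hbc : b ≠ c)
    (hac : a ≠ c) (ha : g • a = a) (hb : g • b = b) (hc : g • c = c) : g = 1 := by
  by_contra hg
  obtain ⟨s, hs, sa, sb⟩ := H.exists_conj_fix le_rfl hab
  have h1 := (H.conj hs).cent g (H.stab_comm hab ha hb sa sb) hg
  have h2 := three_le_nfix hab hbc hac ha hb hc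
  omega

end counting

end Hyp

end Cfsg.Agent.Perm.FixConst
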