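import Mathlib

/-! The numeric bounds for nilpotent permutation groups and their growth. -/

set_option autoImplicit false

namespace Cfsg.Agent.PermNilp

/-- The exponent of two in `n!`. -/
def v2f (n : ℕ) : ℕ := padicValNat 2 n.factorial

/-- The bound for nilpotent subgroups of the symmetric group. -/
def symB (n : ℕ) : ℕ := if n % 4 = 3 then 3 * 2 ^ v2f (n - 3) else 2 ^ v2f n

/-- The bound for nilpotent subgroups of the alternating group. -/
def altB (n : ℕ) : ℕ :=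
  if n ≤ 1 then 1 else if n = 3 then 3 else if n = 5 then 5 else if n = 6 then 9 else if n = 9 then 81
  else symB n / 2

theorem v2f_mul (m : ℕ) : v2f (2 * m) = m + v2f m := by
  haveI : Fact (Nat.Prime 2) := ⟨Nat.prime_two⟩
  rw [v2f, padicValNat_factorial_mul m, add_comm]; rfl

theorem v2f_succ (m : ℕ) : v2f (2 * m + 1) = v2f (2 * m) := by
  haveI : Fact (Nat.Prime 2) := ⟨Nat.prime_two⟩
  rw [v2f, padicValNat_factorial_mul_add m (by norm_num : 1 < 2)]; rfl

theorem v2f_zero : v2f 0 = 0 := by simp [v2f]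
theorem v2f_one : v2f 1 = 0 := by simp [v2f]

theorem v2f_four (j : ℕ) : v2f (4 * j) = 3 * j + v2f j ∧ v2f (4 * j + 1) = 3 * j + v2f j ∧
    v2f (4 * j + 2) = 3 * j + 1 + v2f j ∧ v2f (4 * j + 3) = 3 * j + 1 + v2f j := by
  have a := v2f_mul (2 * j)
  have b := v2f_succ (2 * j)
  have c := v2f_mul (2 * j + 1)
  have d := v2f_succ (2 * j + 1)
  have e := v2f_mul j
  have f := v2f_succ j
  rw [show 2 * (2 * j) = 4 * j by ring] at a b
  rw [show 2 * (2 * j + 1) = 4 * j + 2 by ring] at c d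
  rw [show 4 * j + 2 + 1 = 4 * j + 3 by ring] at d
  omega

theorem v2f_add (a b : ℕ) : v2f a + v2f b ≤ v2f (a + b) := by
  haveI : Fact (Nat.Prime 2) := ⟨Nat.prime_two⟩
  rw [v2f, v2f, v2f, ← padicValNat.mul (Nat.factorial_ne_zero a) (Nat.factorial_ne_zero b),
    ← padicValNat_dvd_iff_le (Nat.factorial_ne_zero _)]
  exact (pow_padicValNat_dvd).trans (Nat.factorial_mul_factorial_dvd_factorial_add a b)

theorem v2f_mono {a b : ℕ} (h : a ≤ b) : v2f a ≤ v2f b := by
  have := v2f_add a (b - a)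
  rw [Nat.add_sub_cancel' h] at this
  omega

theorem symB_pos (n : ℕ) : 0 < symB n := by unfold symB; split_ifs <;> positivity

theorem pow_le_symB (n : ℕ) : 2 ^ v2f n ≤ symB n ∧ (n % 4 = 3 → 2 ^ v2f n < symB n) := by
  unfold symB
  split_ifs with h
  · obtain ⟨j, rfl⟩ : ∃ j, n = 4 * j + 3 := ⟨n / 4, by omega⟩
    obtain ⟨h0, -, -, h3⟩ := v2f_four j
    rw [Nat.add_sub_cancel, h0, h3]
    have := Nat.two_pow_pos (3 * j + v2f j)
    rw [show 3 * j + 1 + v2f j = (3 * j + v2f j) + 1 by ring, pow_succ]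
    exact ⟨by omega, fun _ => by omega⟩
  · exact ⟨le_rfl, fun h' => absurd h' h⟩

theorem two_mul_symB_le {n : ℕ} (h : n % 4 = 3) : 2 * symB n = 3 * 2 ^ v2f n := by
  obtain ⟨j, rfl⟩ : ∃ j, n = 4 * j + 3 := ⟨n / 4, by omega⟩
  obtain ⟨h0, -, -, h3⟩ := v2f_four j
  rw [symB, if_pos h, Nat.add_sub_cancel, h0, h3, show 3 * j + 1 + v2f j = (3 * j + v2f j) + 1 by ring, pow_succ]
  ring

theorem two_mul_symB (n : ℕ) : 2 * symB n = (if n % 4 = 3 then 3 else 2) * 2 ^ v2f n := by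
  split_ifs with h
  · exact two_mul_symB_le h
  · rw [symB, if_neg h]

theorem v2f_carry {a b : ℕ} (ha : a % 4 = 3) (hb : b % 4 ≠ 0) :
    v2f a + v2f b + (if b % 4 = 3 then 2 else 1) ≤ v2f (a + b) := by
  obtain ⟨i, rfl⟩ : ∃ i, a = 4 * i + 3 := ⟨a / 4, by omega⟩
  obtain ⟨j, s, hs, rfl⟩ : ∃ j s, s < 4 ∧ b = 4 * j + s := ⟨b / 4, b % 4, by omega, by omega⟩
  obtain ⟨-, -, -, hi⟩ := v2f_four i
  obtain ⟨hj0, hj1, hj2, hj3⟩ := v2f_four j
  obtain ⟨k0, k1, k2, k3⟩ := v2f_four (i + j + 1)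
  have h1 := v2f_add i j
  have h2 := v2f_add (i + j) 1
  rw [v2f_one] at h2
  interval_cases s
  · omega
  · rw [if_neg (by omega), hi, hj1, show 4 * i + 3 + (4 * j + 1) = 4 * (i + j + 1) by ring, k0]; omega
  · rw [if_neg (by omega), hi, hj2, show 4 * i + 3 + (4 * j + 2) = 4 * (i + j + 1) + 1 by ring, k1]; omega
  · rw [if_pos (by omega), hi, hj3, show 4 * i + 3 + (4 * j + 3) = 4 * (i + j + 1) + 2 by ring, k2]; omega

/-- The bound is superadditive. -/
theorem symB_mul (a b : ℕ) : symB a * symB b ≤ symB (a + b) := by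
  have key : ∀ x y : ℕ, y % 4 ≠ 3 ∨ x % 4 = 3 →
      2 * symB x * (2 * symB y) ≤ 2 * (2 * symB (x + y)) := by
    intro x y hor
    have hpow : ∀ c : ℕ, v2f x + v2f y + c ≤ v2f (x + y) → 2 ^ v2f x * 2 ^ v2f y * 2 ^ c ≤ 2 ^ v2f (x + y) :=
      fun c h => by rw [← pow_add, ← pow_add]; exact Nat.pow_le_pow_right (by norm_num) h
    have hlow : 2 * 2 ^ v2f (x + y) ≤ 2 * symB (x + y) := Nat.mul_le_mul_left 2 (pow_le_symB _).1
    rw [two_mul_symB x, two_mul_symB y]
    by_cases hx : x % 4 = 3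
    · by_cases hy0 : y % 4 = 0
      · rw [two_mul_symB (x + y), if_pos hx, if_neg (by omega), if_pos (by omega)]
        have := hpow 0 (v2f_add x y)
        rw [pow_zero, mul_one] at this
        linarith [show 3 * 2 ^ v2f x * (2 * 2 ^ v2f y) = 6 * (2 ^ v2f x * 2 ^ v2f y) by ring]
      · have h1 := hpow _ (v2f_carry hx hy0)
        by_cases hy : y % 4 = 3
        · rw [if_pos hx, if_pos hy] at *
          linarith [show 3 * 2 ^ v2f x * (3 * 2 ^ v2f y) = 9 * (2 ^ v2f x * 2 ^ v2f y) by ring,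
            Nat.zero_le (2 ^ v2f x * 2 ^ v2f y)]
        · rw [if_pos hx, if_neg hy] at *
          linarith [show 3 * 2 ^ v2f x * (2 * 2 ^ v2f y) = 6 * (2 ^ v2f x * 2 ^ v2f y) by ring,
            Nat.zero_le (2 ^ v2f x * 2 ^ v2f y)]
    · have hy : y % 4 ≠ 3 := hor.resolve_right hx
      rw [if_neg hx, if_neg hy]
      have := hpow 0 (v2f_add x y)
      rw [pow_zero, mul_one] at this
      linarith [show 2 * 2 ^ v2f x * (2 * 2 ^ v2f y) = 4 * (2 ^ v2f x * 2 ^ v2f y) by ring]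
  rcases Classical.em (b % 4 ≠ 3 ∨ a % 4 = 3) with h | h
  · linarith [key a b h]
  · rw [mul_comm (symB a), add_comm a]
    linarith [key b a (Or.inl (by omega))]

theorem symB_add_three (a : ℕ) : 3 * symB a ≤ symB (a + 3) := by
  have h := symB_mul a 3
  rwa [show symB 3 = 3 by simp [symB, v2f_zero], mul_comm] at h

theorem symB_mul_pow (a b : ℕ) : symB a * 2 ^ v2f b ≤ symB (a + b) :=
  (Nat.mul_le_mul_left _ (pow_le_symB b).1).trans (symB_mul a b)

/-! ### The growth of `p ^ k` against `v2f (p * k)`. -/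

theorem v2f_le_pred {k : ℕ} (hk : 1 ≤ k) : v2f k + 1 ≤ k := by
  induction k using Nat.strong_induction_on with
  | _ k ih =>
    rcases Nat.even_or_odd' k with ⟨m, rfl | rfl⟩
    · have := ih m (by omega) (by omega); rw [v2f_mul]; omega
    · rcases Nat.eq_zero_or_pos m with rfl | hm
      · simp [v2f_one]
      · have := ih m (by omega) hm; rw [v2f_succ, v2f_mul]; omega

theorem symB_lt_pow {k : ℕ} (hk : 1 ≤ k) : symB k ≤ 2 ^ (k - 1) := by
  have h := v2f_le_pred hk
  by_cases h3 : k % 4 = 3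
  · have := v2f_le_pred (show 1 ≤ k by omega)
    rcases Nat.lt_or_ge k 4 with h4 | h4
    · obtain rfl : k = 3 := by omega
      norm_num [symB, v2f_zero]
    · have h5 := v2f_le_pred (show 1 ≤ k - 3 by omega)
      rw [symB, if_pos h3]
      obtain ⟨c, hc⟩ : ∃ c, k - 1 = v2f (k - 3) + 3 + c := ⟨k - 1 - (v2f (k - 3) + 3), by omega⟩
      rw [hc, pow_add, pow_add]
      nlinarith [Nat.two_pow_pos (v2f (k - 3)), Nat.one_le_two_pow (n := c)]
  · rw [symB, if_neg h3]; exact Nat.pow_le_pow_right (by norm_num) (by omega)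

theorem small_v2f : v2f 2 = 1 ∧ v2f 3 = 1 ∧ v2f 4 = 3 ∧ v2f 5 = 3 ∧ v2f 6 = 4 ∧ v2f 7 = 4 ∧ v2f 8 = 7 ∧ v2f 9 = 7
    ∧ v2f 10 = 8 ∧ v2f 12 = 10 ∧ v2f 14 = 11 ∧ v2f 15 = 11 ∧ v2f 16 = 15 ∧ v2f 18 = 16 ∧ v2f 21 = 18 ∧ v2f 24 = 22
    ∧ v2f 27 = 23 ∧ v2f 30 = 26 ∧ v2f 33 = 31 ∧ v2f 36 = 34 ∧ v2f 39 = 35 := by
  have h := fun j => v2f_four j
  have h0 := v2f_zero
  have h1 := v2f_one
  have := h 0; have := h 1; have := h 2; have := h 3; have := h 4; have := h 5; have := h 6; have := h 7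
  have := h 8; have := h 9
  norm_num at *
  omega

theorem symB_small : symB 0 = 1 ∧ symB 1 = 1 ∧ symB 2 = 2 ∧ symB 3 = 3 ∧ symB 4 = 8 ∧ symB 5 = 8 ∧ symB 6 = 16 ∧
    symB 7 = 24 ∧ symB 8 = 128 ∧ symB 9 = 128 := by
  obtain ⟨h2, h3, h4, h5, h6, h7, h8, h9, -⟩ := small_v2f
  simp [symB, v2f_zero, v2f_one, h2, h3, h4, h5, h6, h7, h8, h9]

theorem three_step : ∀ k, 3 ≤ k → 3 ^ k * symB k < 2 ^ v2f (3 * k) := by
  have crude : ∀ k, 6 ≤ k → 3 ^ k * 2 ^ (k - 1) < 2 ^ v2f (3 * k) := by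
    intro k
    induction k using Nat.strong_induction_on with
    | _ k ih =>
      intro hk
      obtain ⟨-, -, -, -, -, -, -, -, -, -, -, -, -, h18, h21, h24, h27, h30, h33, h36, h39⟩ := small_v2f
      rcases Nat.lt_or_ge k 14 with h | h
      · interval_cases k <;> norm_num [h18, h21, h24, h27, h30, h33, h36, h39]
      · have h1 := ih (k - 8) (by omega) (by omega)
        have h2 := v2f_add (3 * (k - 8)) 24
        rw [h24, show 3 * (k - 8) + 24 = 3 * k by omega] at h2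
        calc 3 ^ k * 2 ^ (k - 1) = (3 ^ (k - 8) * 2 ^ (k - 8 - 1)) * (3 ^ 8 * 2 ^ 8) := by
              rw [mul_mul_mul_comm, ← pow_add, ← pow_add]; congr 2 <;> omega
          _ < 2 ^ v2f (3 * (k - 8)) * 2 ^ 22 :=
              lt_of_lt_of_le (Nat.mul_lt_mul_of_pos_right h1 (by norm_num)) (Nat.mul_le_mul_left _ (by norm_num))
          _ ≤ 2 ^ v2f (3 * k) := by rw [← pow_add]; exact Nat.pow_le_pow_right (by norm_num) h2
  intro k hk
  rcases Nat.lt_or_ge k 6 with h | h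
  · obtain ⟨-, -, -, -, -, -, -, h9, -, h12, -, h15, -⟩ := small_v2f
    obtain ⟨-, -, -, s3, s4, s5, -⟩ := symB_small
    interval_cases k <;> norm_num [h9, h12, h15, s3, s4, s5]
  · exact lt_of_le_of_lt (Nat.mul_le_mul_left _ (symB_lt_pow (by omega))) (crude k h)

theorem two_prime_base : ∀ m, 5 ≤ m → (m % 2 = 1) →
    4 * m * m < 2 ^ v2f (2 * m) ∧ (7 ≤ m → 2 * m < 2 ^ v2f m) ∧ m < 2 ^ v2f m := by
  intro m
  induction m using Nat.strong_induction_on with
  | _ m ih =>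
    intro hm hodd
    obtain ⟨-, h3, -, h5, h6, h7, -, h9, h10, -, h14, -, -, h18, -⟩ := small_v2f
    rcases Nat.lt_or_ge m 10 with h | h
    · interval_cases m <;> simp at hodd <;> norm_num [h5, h7, h9, h10, h14, h18]
    · obtain ⟨i1, i2, -⟩ := ih (m - 4) (by omega) (by omega) (by omega)
      obtain ⟨-, -, h4, -, -, -, h8, -⟩ := small_v2f
      have ha := v2f_add (2 * (m - 4)) 8
      have hb := v2f_add (m - 4) 4
      rw [h8, show 2 * (m - 4) + 8 = 2 * m by omega] at ha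
      rw [h4, Nat.sub_add_cancel (by omega)] at hb
      have pa := Nat.pow_le_pow_right (show 0 < 2 by norm_num) ha
      have pb := Nat.pow_le_pow_right (show 0 < 2 by norm_num) hb
      rw [pow_add] at pa pb
      have hle : m ≤ 2 * (m - 4) := by omega
      have hb2 : 2 * m < 2 ^ v2f m := by
        calc 2 * m ≤ 2 * (m - 4) * 8 := by omega
          _ < 2 ^ v2f (m - 4) * 2 ^ 3 := by
              by_cases h7' : 7 ≤ m - 4
              · exact Nat.mul_lt_mul_of_pos_right (i2 h7') (by norm_num)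
              · omega
          _ ≤ _ := pb
      refine ⟨?_, fun _ => hb2, by omega⟩
      calc 4 * m * m ≤ 4 * (m - 4) * (m - 4) * 128 := by nlinarith [Nat.mul_le_mul hle hle]
        _ < 2 ^ v2f (2 * (m - 4)) * 2 ^ 7 := Nat.mul_lt_mul_of_pos_right i1 (by norm_num)
        _ ≤ _ := pa

theorem prime_crude {p : ℕ} (hp : 5 ≤ p) (hodd : p % 2 = 1) :
    ∀ k, 1 ≤ k → p ^ k * 2 ^ (k - 1) < 2 ^ v2f (p * k) := by
    obtain ⟨h2p, -, h1p⟩ := two_prime_base p hp hodd
    intro k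
    induction k using Nat.strong_induction_on with
    | _ k ih =>
      intro hk
      rcases Nat.lt_or_ge k 3 with h | h
      · interval_cases k
        · simpa using h1p
        · rw [mul_comm p 2, show p ^ 2 * 2 ^ (2 - 1) = 2 * p * p by ring]
          nlinarith
      · have h1 := ih (k - 2) (by omega) (by omega)
        have h2 := v2f_add (p * (k - 2)) (2 * p)
        rw [show p * (k - 2) + 2 * p = p * k by rw [mul_comm 2 p, ← mul_add, Nat.sub_add_cancel (by omega)]] at h2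
        calc p ^ k * 2 ^ (k - 1) = (p ^ (k - 2) * 2 ^ (k - 2 - 1)) * (p ^ 2 * 2 ^ 2) := by
              rw [mul_mul_mul_comm, ← pow_add, ← pow_add]; congr 2 <;> omega
          _ < 2 ^ v2f (p * (k - 2)) * 2 ^ v2f (2 * p) := Nat.mul_lt_mul_of_lt_of_lt h1 (by nlinarith)
          _ ≤ _ := by rw [← pow_add]; exact Nat.pow_le_pow_right (by norm_num) h2

theorem prime_step {p : ℕ} (hp : 5 ≤ p) (hodd : p % 2 = 1) :
    ∀ k, 1 ≤ k → p ^ k * symB k < 2 ^ v2f (p * k) := by
  intro k hk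
  exact lt_of_le_of_lt (Nat.mul_le_mul_left _ (symB_lt_pow hk)) (prime_crude hp hodd k hk)

theorem odd_prime_cases {p : ℕ} (hp : p.Prime) (h2 : p ≠ 2) : p = 3 ∨ 5 ≤ p ∧ p % 2 = 1 := by
  have h1 := hp.two_le
  have h3 := hp.eq_two_or_odd
  rcases Nat.lt_or_ge p 5 with h | h
  · left; omega
  · right; exact ⟨h, by omega⟩

/-- The bound for the cycles of an element of odd prime order. -/
theorem cycle_bound {p k : ℕ} (hp : p.Prime) (h2 : p ≠ 2) (hk : 1 ≤ k) (h : ¬ (p = 3 ∧ k ≤ 2)) :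
    p ^ k * symB k < 2 ^ v2f (p * k) := by
  rcases odd_prime_cases hp h2 with rfl | ⟨h5, hodd⟩
  · exact three_step k (by omega)
  · exact prime_step h5 hodd k hk

theorem sym_step {p k r : ℕ} (hp : p.Prime) (h2 : p ≠ 2) (hk : 1 ≤ k) (h : ¬ (p = 3 ∧ k ≤ 2)) :
    p ^ k * symB k * symB r < symB (p * k + r) :=
  calc p ^ k * symB k * symB r < 2 ^ v2f (p * k) * symB r :=
        Nat.mul_lt_mul_of_pos_right (cycle_bound hp h2 hk h) (symB_pos r)
    _ ≤ _ := by rw [mul_comm, add_comm]; exact symB_mul_pow _ _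

theorem six_step (r : ℕ) : 9 * symB r < symB (6 + r) := by
  have h := symB_mul 6 r
  rw [symB_small.2.2.2.2.2.2.1] at h
  linarith [symB_pos r]

/-! ### The alternating bound. -/

theorem two_dvd_symB {n : ℕ} (hn : 2 ≤ n) (h3 : n ≠ 3) : 2 ∣ symB n := by
  have h : ∀ m, 2 ≤ m → 2 ∣ 2 ^ v2f m := fun m hm => dvd_pow_self 2 (by
    have h1 := v2f_mono hm
    rw [small_v2f.1] at h1
    omega)
  unfold symB
  split_ifs with hmod
  · exact (h _ (by omega)).mul_left 3
  · exact h n hn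

theorem two_mul_altB {n : ℕ} (hn : 2 ≤ n) (h3 : n ≠ 3) (h5 : n ≠ 5) (h6 : n ≠ 6) (h9 : n ≠ 9) :
    2 * altB n = symB n := by
  rw [altB, if_neg (by omega), if_neg h3, if_neg h5, if_neg h6, if_neg h9, Nat.mul_div_cancel' (two_dvd_symB hn h3)]

theorem altB_small : altB 0 = 1 ∧ altB 1 = 1 ∧ altB 2 = 1 ∧ altB 3 = 3 ∧ altB 4 = 4 ∧ altB 5 = 5 ∧ altB 6 = 9 ∧
    altB 9 = 81 := by
  simp [altB, symB_small]

theorem symB_le_two_altB (n : ℕ) (hn : 2 ≤ n) : symB n ≤ 2 * altB n := by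
  by_cases h : n = 3 ∨ n = 5 ∨ n = 6 ∨ n = 9
  · obtain ⟨-, -, -, s3, -, s5, s6, -, -, s9⟩ := symB_small
    obtain ⟨-, -, -, a3, -, a5, a6, a9⟩ := altB_small
    rcases h with rfl | rfl | rfl | rfl <;> simp [*]
  · exact (two_mul_altB hn (by omega) (by omega) (by omega) (by omega)).ge

theorem altB_le_symB (n : ℕ) : altB n ≤ symB n := by
  by_cases h : n ≤ 1 ∨ n = 3 ∨ n = 5 ∨ n = 6 ∨ n = 9
  · obtain ⟨s0, s1, -, s3, -, s5, s6, -, -, s9⟩ := symB_small
    obtain ⟨a0, a1, -, a3, -, a5, a6, a9⟩ := altB_small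
    rcases h with h | rfl | rfl | rfl | rfl
    · interval_cases n <;> simp [*]
    all_goals simp [*]
  · have := two_mul_altB (n := n) (by omega) (by omega) (by omega) (by omega) (by omega); omega

/-- The step with a two-group image on the fixed points. -/
theorem alt_step {p k r : ℕ} (hp : p.Prime) (h2 : p ≠ 2) (hk : 1 ≤ k) :
    p ^ k * altB k * altB r ≤ altB (p * k + r) ∧
      ((p * k + r) % 4 = 3 → 7 ≤ p * k + r → ¬ (p = 3 ∧ k = 1) → p ^ k * altB k * altB r < altB (p * k + r)) := by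
  have hp3 : 3 ≤ p := by have := hp.two_le; omega
  have hpk : 3 ≤ p * k := le_trans hp3 (Nat.le_mul_of_pos_right p hk)
  by_cases hgen : (k = 1 ∧ 7 ≤ p) ∨ (k = 2 ∧ p ≠ 3) ∨ (k = 3 ∧ p ≠ 3) ∨ k = 4 ∨ (k = 5 ∧ p ≠ 3) ∨ 6 ≤ k
  · have hb : 2 * (p ^ k * altB k) < 2 ^ v2f (p * k) := by
      obtain ⟨a0, a1, -, a3, -, a5, a6, a9⟩ := altB_small
      obtain ⟨-, -, -, s3, -, s5, -⟩ := symB_small
      rcases odd_prime_cases hp h2 with rfl | ⟨h5, hodd⟩
      · have h := three_step k (by omega)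
        by_cases hx : k = 6 ∨ k = 9
        · obtain ⟨-, -, -, -, -, -, -, -, -, -, -, -, -, h18, -, -, h27, -⟩ := small_v2f
          rcases hx with rfl | rfl <;> norm_num [a6, a9, h18, h27]
        · rw [mul_left_comm, two_mul_altB (by omega) (by omega) (by omega) (by omega) (by omega)]; exact h
      · by_cases hx : k = 1
        · subst hx
          have := (two_prime_base p h5 hodd).2.1 (by omega)
          simpa [a1] using this
        · by_cases hx' : k = 3
          · subst hx'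
            rw [a3, show p * 3 = 2 * p + p by ring]
            have hadd := Nat.pow_le_pow_right (show 0 < 2 by norm_num) (v2f_add (2 * p) p)
            rw [pow_add] at hadd
            obtain ⟨h2p, h1p, -⟩ := two_prime_base p h5 hodd
            rcases Nat.lt_or_ge p 7 with h7 | h7
            · obtain rfl : p = 5 := by omega
              obtain ⟨-, -, -, -, -, -, -, -, -, -, -, h15, -⟩ := small_v2f
              norm_num [h15]
            · calc 2 * (p ^ 3 * 3) ≤ 4 * p * p * (2 * p) := by ring_nf; omega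
                _ < 2 ^ v2f (2 * p) * 2 ^ v2f p := Nat.mul_lt_mul_of_lt_of_lt h2p (h1p h7)
                _ ≤ _ := hadd
          · refine lt_of_le_of_lt ?_ (prime_crude h5 hodd k hk)
            rw [mul_left_comm]
            refine Nat.mul_le_mul_left _ ?_
            by_cases hx'' : k = 5 ∨ k = 6 ∨ k = 9
            · rcases hx'' with rfl | rfl | rfl <;> simp [a5, a6, a9]
            · rw [two_mul_altB (by omega) (by omega) (by omega) (by omega) (by omega)]
              exact symB_lt_pow hk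
    have hlt : p ^ k * altB k * symB r < altB (p * k + r) := by
      have h1 : 2 * (p ^ k * altB k * symB r) < symB (p * k + r) := by
        calc 2 * (p ^ k * altB k * symB r) = 2 * (p ^ k * altB k) * symB r := by ring
          _ < 2 ^ v2f (p * k) * symB r := Nat.mul_lt_mul_of_pos_right hb (symB_pos r)
          _ ≤ _ := by rw [mul_comm, add_comm]; exact symB_mul_pow _ _
      have h2 := symB_le_two_altB (p * k + r) (by omega)
      omega
    have hle := Nat.mul_le_mul_left (p ^ k * altB k) (altB_le_symB r)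
    exact ⟨by omega, fun _ _ _ => by omega⟩
  · obtain ⟨s0, s1, s2, s3, s4, s5, s6, s7, s8, s9⟩ := symB_small
    obtain ⟨a0, a1, a2, a3, a4, a5, a6, a9⟩ := altB_small
    obtain ⟨h2', h3', h4', h5', h6', h7', h8', h9', h10', h12', h14', h15', h16', h18', h21', h24', -⟩ := small_v2f
    have h20' : v2f 20 = 18 := by have := v2f_four 5; norm_num at this; omega
    have hcases : (p = 5 ∧ k = 1) ∨ (p = 3 ∧ k = 1) ∨ (p = 3 ∧ k = 2) ∨ (p = 3 ∧ k = 3) ∨ (p = 3 ∧ k = 5) := by
      rcases odd_prime_cases hp h2 with rfl | ⟨h5, hodd⟩ <;> omega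
    by_cases hr : r ≤ 1 ∨ r = 3 ∨ r = 5 ∨ r = 6 ∨ r = 9
    · rcases hcases with ⟨rfl, rfl⟩ | ⟨rfl, rfl⟩ | ⟨rfl, rfl⟩ | ⟨rfl, rfl⟩ | ⟨rfl, rfl⟩ <;>
        rcases (show r = 0 ∨ r = 1 ∨ r = 3 ∨ r = 5 ∨ r = 6 ∨ r = 9 by omega) with
          rfl | rfl | rfl | rfl | rfl | rfl <;>
        norm_num [altB, symB, v2f_zero, v2f_one, h2', h3', h4', h5', h6', h7', h8', h9', h10', h12', h14', h15',
          h16', h18', h20', h21', h24']
    · have hr2 := two_mul_altB (n := r) (by omega) (by omega) (by omega) (by omega) (by omega)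
      have hn := symB_le_two_altB (p * k + r) (by omega)
      have key : p ^ k * altB k * symB r ≤ symB (p * k) * symB r ∧
          (¬ (p = 3 ∧ k = 1) → p ^ k * altB k * symB r < symB (p * k) * symB r) := by
        have hpos := symB_pos r
        have s15 : symB 15 = 3072 := by norm_num [symB, h12']
        rcases hcases with ⟨rfl, rfl⟩ | ⟨rfl, rfl⟩ | ⟨rfl, rfl⟩ | ⟨rfl, rfl⟩ | ⟨rfl, rfl⟩ <;>
          norm_num [a1, a2, a3, a5, s3, s5, s6, s9, s15] <;>
          first | omega | (constructor <;> intros <;> omega) | (intros; omega)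
      have h1 := symB_mul (p * k) r
      have e : 2 * (p ^ k * altB k * altB r) = p ^ k * altB k * symB r := by rw [← hr2]; ring
      refine ⟨by omega, fun _ _ hne => ?_⟩
      have := key.2 hne
      omega

end Cfsg.Agent.PermNilp
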