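import Cfsg.Agent.Lib.Perm.NilpotentBound

/-! The nilpotent permutation groups attaining the bound in degree congruent to three modulo four. -/

set_option autoImplicit false

namespace Cfsg.Agent.PermNilp

open Equiv Equiv.Perm

variable {r : ℕ}

/-- Permutations of the fixed points together with rotations of one three-cycle. -/
def iota (r : ℕ) : Perm (Fin r) × Multiplicative (ZMod 3) →* Perm (Model r 1 3) where
  toFun u := Equiv.sumCongr u.1 ((Equiv.refl _).prodCongr (Equiv.addLeft u.2.toAdd))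
  map_one' := by ext (x | ⟨o, i⟩) <;> simp
  map_mul' u v := by
    ext (x | ⟨o, i⟩)
    · rfl
    · simp [add_assoc]

theorem iota_injective : Function.Injective (iota r) := by
  rintro ⟨a, i⟩ ⟨b, j⟩ h
  refine Prod.ext (Equiv.ext fun x => ?_) ?_
  · exact Sum.inl_injective (congrArg (fun g : Perm (Model r 1 3) => g (Sum.inl x)) h)
  · have := congrArg (fun g : Perm (Model r 1 3) => g (Sum.inr (0, 0))) h
    simpa [iota] using this

theorem sign_iota (u : Perm (Fin r) × Multiplicative (ZMod 3)) : sign (iota r u) = sign u.1 := by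
  have h3 : sign (iota r (1, u.2)) ^ 3 = 1 := by
    rw [← map_pow, ← map_pow, Prod.pow_mk, one_pow]
    have : u.2 ^ 3 = 1 := by
      apply Multiplicative.toAdd.injective
      rw [toAdd_pow, toAdd_one, nsmul_eq_mul, ZMod.natCast_self, zero_mul]
    rw [this, Prod.mk_one_one, map_one, map_one]
  have h1 : sign (iota r (1, u.2)) = 1 := by
    rwa [pow_succ, Int.units_sq, one_mul] at h3
  rw [show u = (u.1, 1) * (1, u.2) by simp, map_mul, map_mul, h1, mul_one]
  show sign (Equiv.sumCongr u.1 ((Equiv.refl (Fin 1)).prodCongr (Equiv.addLeft (0 : ZMod 3)))) = _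
  rw [show ((Equiv.refl (Fin 1)).prodCongr (Equiv.addLeft (0 : ZMod 3))) = 1 by ext i <;> simp, sign_sumCongr,
    map_one, mul_one]
  simp

/-- The nilpotent group attached to `Q`. -/
def std (Q : Subgroup (Perm (Fin r))) : Subgroup (Perm (Model r 1 3)) := (Q.prod ⊤).map (iota r)

theorem card_std (Q : Subgroup (Perm (Fin r))) : Nat.card (std Q) = 3 * Nat.card Q := by
  rw [std, Subgroup.card_map_of_injective iota_injective, card_prod_subgroup, Subgroup.card_top, mul_comm]
  simp

/-- The isomorphism with a direct product. -/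
noncomputable def stdEquiv (Q : Subgroup (Perm (Fin r))) : std Q ≃* Q × Multiplicative (ZMod 3) :=
  ((Q.prod ⊤).equivMapOfInjective (iota r) iota_injective).symm.trans
    ((Subgroup.prodEquiv Q ⊤).trans ((MulEquiv.refl _).prodCongr Subgroup.topEquiv))

theorem isNilpotent_std (Q : Subgroup (Perm (Fin r))) [Group.IsNilpotent Q] : Group.IsNilpotent (std Q) :=
  Group.nilpotent_of_surjective (stdEquiv Q).symm.toMonoidHom (stdEquiv Q).symm.surjective

theorem isNilpotent_of_two_pow {G : Type*} [Group G] [Finite G] {m : ℕ} (h : Nat.card G = 2 ^ m) :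
    Group.IsNilpotent G := by
  haveI : Fact (Nat.Prime 2) := ⟨Nat.prime_two⟩
  exact (IsPGroup.of_card h).isNilpotent

variable {n : ℕ}

/-- A maximal nilpotent group is standard. -/
theorem exists_std (e : Fin n ≃ Model r 1 3) (N : Subgroup (Perm (Fin n)))
    (hc : ∀ g ∈ N.map e.permCongrHom.toMonoidHom, g * z0 r 1 3 = z0 r 1 3 * g) :
    N.map e.permCongrHom.toMonoidHom ≤ std (aHom hc).range := by
  intro g hg
  haveI : Fact (Nat.Prime 3) := ⟨Nat.prime_three⟩
  refine ⟨(aHom hc ⟨g, hg⟩, Multiplicative.ofAdd (fe g 0)), ⟨⟨⟨g, hg⟩, rfl⟩, trivial⟩, ?_⟩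
  ext (x | ⟨o, i⟩)
  · rw [apply_inl (hc g hg)]; rfl
  · obtain rfl : o = 0 := Subsingleton.elim _ _
    rw [apply_inr (hc g hg)]
    exact congrArg Sum.inr (Prod.ext (Subsingleton.elim _ _) rfl)

theorem conj_of_std {Q₁ Q₂ : Subgroup (Perm (Fin r))} {h : Perm (Fin r)}
    (hh : Q₂ = Q₁.map (MulAut.conj h).toMonoidHom) (e₁ e₂ : Fin n ≃ Model r 1 3) (N₁ N₂ : Subgroup (Perm (Fin n)))
    (h₁ : N₁.map e₁.permCongrHom.toMonoidHom = std Q₁) (h₂ : N₂.map e₂.permCongrHom.toMonoidHom = std Q₂) :
    N₂ = N₁.map (MulAut.conj (e₁.trans ((iota r (h, 1)).trans e₂.symm))).toMonoidHom := by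
  apply Subgroup.map_injective (f := e₂.permCongrHom.toMonoidHom) e₂.permCongrHom.injective
  have hstd : std Q₂ = (std Q₁).map (MulAut.conj (iota r (h, 1))).toMonoidHom := by
    rw [hh, std, std, Subgroup.map_map]
    ext g
    constructor
    · rintro ⟨⟨a, i⟩, ⟨⟨b, hb, rfl⟩, -⟩, rfl⟩
      refine ⟨(b, i), ⟨hb, trivial⟩, ?_⟩
      show iota r (h, 1) * iota r (b, i) * (iota r (h, 1))⁻¹ = _
      rw [← map_inv, ← map_mul, ← map_mul]
      simp [MulAut.conj_apply]
    · rintro ⟨⟨b, i⟩, ⟨hb, -⟩, rfl⟩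
      refine ⟨(h * b * h⁻¹, i), ⟨⟨b, hb, rfl⟩, trivial⟩, ?_⟩
      show _ = iota r (h, 1) * iota r (b, i) * (iota r (h, 1))⁻¹
      rw [← map_inv, ← map_mul, ← map_mul]
      simp
  rw [h₂, hstd, ← h₁, Subgroup.map_map, Subgroup.map_map]
  refine congrArg (Subgroup.map · N₁) (MonoidHom.ext fun g => Equiv.ext fun w => ?_)
  simp [Equiv.permCongr_apply, MulAut.conj_apply, Perm.mul_apply, Perm.inv_def, Equiv.trans_apply, Equiv.symm_trans_apply]

theorem mod_facts {n : ℕ} (hn : n % 4 = 3) : symB n = 3 * 2 ^ v2f (n - 3) ∧ symB (n - 3) = 2 ^ v2f (n - 3) :=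
  ⟨if_pos hn, if_neg (by omega)⟩

theorem card_sylow_sym (P : Sylow 2 (Perm (Fin n))) : Nat.card P = 2 ^ v2f n := by
  haveI : Fact (Nat.Prime 2) := ⟨Nat.prime_two⟩
  rw [P.card_eq_multiplicity, Nat.card_perm, Nat.card_fin, v2f, Nat.factorization_def _ Nat.prime_two]

theorem card_sylow_alt (hn : 2 ≤ n) (P : Sylow 2 (alternatingGroup (Fin n))) :
    2 * Nat.card P = 2 ^ v2f n := by
  haveI : Fact (Nat.Prime 2) := ⟨Nat.prime_two⟩
  haveI : Nontrivial (Fin n) := Fin.nontrivial_iff_two_le.2 hn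
  have h := two_mul_nat_card_alternatingGroup (α := Fin n)
  rw [Nat.card_perm, Nat.card_fin] at h
  rw [P.card_eq_multiplicity, v2f, ← h, padicValNat.mul two_ne_zero Nat.card_pos.ne', padicValNat.self (by norm_num),
    pow_add, pow_one, Nat.factorization_def _ Nat.prime_two]

/-- Equality in the symmetric bound. -/
theorem sym_eq (hn : n % 4 = 3) (N : Subgroup (Perm (Fin n))) (hN : Group.IsNilpotent N)
    (hcard : Nat.card N = symB n) :
    ∃ (e : Fin n ≃ Model (n - 3) 1 3) (Q : Sylow 2 (Perm (Fin (n - 3)))),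
      N.map e.permCongrHom.toMonoidHom = std (Q : Subgroup (Perm (Fin (n - 3)))) := by
  haveI : Fact (Nat.Prime 3) := ⟨Nat.prime_three⟩
  haveI : Fact (Nat.Prime 2) := ⟨Nat.prime_two⟩
  obtain ⟨e, -, hc⟩ : ∃ e : Fin n ≃ Model (n - 3) 1 3, z0 (n - 3) 1 3 ∈ N.map e.permCongrHom.toMonoidHom ∧
      ∀ g ∈ N.map e.permCongrHom.toMonoidHom, g * z0 (n - 3) 1 3 = z0 (n - 3) 1 3 * g := by
    by_contra h
    exact absurd hcard ((sym_bound_strict n N hN).2 hn h).ne
  have hle := exists_std e N hc
  obtain ⟨h1, h2⟩ := mod_facts hn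
  haveI : Group.IsNilpotent (N.map e.permCongrHom.toMonoidHom) :=
    Group.nilpotent_of_surjective (N.equivMapOfInjective e.permCongrHom.toMonoidHom e.permCongrHom.injective).toMonoidHom
      (N.equivMapOfInjective e.permCongrHom.toMonoidHom e.permCongrHom.injective).surjective
  have hR := (sym_bound_strict (n - 3) _ (isNilpotent_range (aHom hc))).1
  have hMc : Nat.card (N.map e.permCongrHom.toMonoidHom) = 3 * 2 ^ v2f (n - 3) := by
    rw [Subgroup.card_map_of_injective e.permCongrHom.injective, hcard, h1]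
  have hge := Subgroup.card_le_of_le hle
  rw [card_std, hMc] at hge
  have hQ : Nat.card (aHom hc).range = 2 ^ v2f (n - 3) := by omega
  refine ⟨e, Sylow.ofCard (aHom hc).range (by
    rw [hQ, Nat.card_perm, Nat.card_fin, v2f, Nat.factorization_def _ Nat.prime_two]), ?_⟩
  exact Subgroup.eq_of_le_of_card_ge hle (by rw [card_std, hMc]; exact le_of_eq (congrArg (3 * ·) hQ))

/-- Equality in the alternating bound. -/
theorem alt_eq (hn : n % 4 = 3) (h7 : 7 ≤ n) (N : Subgroup (Perm (Fin n))) (hN : Group.IsNilpotent N)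
    (hs : ∀ g ∈ N, sign g = 1) (hcard : Nat.card N = altB n) :
    ∃ (e : Fin n ≃ Model (n - 3) 1 3) (Q : Sylow 2 (alternatingGroup (Fin (n - 3)))),
      N.map e.permCongrHom.toMonoidHom =
        std ((Q : Subgroup (alternatingGroup (Fin (n - 3)))).map (alternatingGroup (Fin (n - 3))).subtype) := by
  haveI : Fact (Nat.Prime 3) := ⟨Nat.prime_three⟩
  haveI : Fact (Nat.Prime 2) := ⟨Nat.prime_two⟩
  obtain ⟨e, -, hc⟩ : ∃ e : Fin n ≃ Model (n - 3) 1 3, z0 (n - 3) 1 3 ∈ N.map e.permCongrHom.toMonoidHom ∧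
      ∀ g ∈ N.map e.permCongrHom.toMonoidHom, g * z0 (n - 3) 1 3 = z0 (n - 3) 1 3 * g := by
    by_contra h
    exact absurd hcard ((alt_bound_strict n N hN hs).2 hn h7 h).ne
  have hle := exists_std e N hc
  obtain ⟨h1, h2⟩ := mod_facts hn
  haveI : Group.IsNilpotent (N.map e.permCongrHom.toMonoidHom) :=
    Group.nilpotent_of_surjective (N.equivMapOfInjective e.permCongrHom.toMonoidHom e.permCongrHom.injective).toMonoidHom
      (N.equivMapOfInjective e.permCongrHom.toMonoidHom e.permCongrHom.injective).surjective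
  have hR1 : ∀ g ∈ (aHom hc).range, sign g = 1 := by
    rintro _ ⟨⟨_, g, hg, rfl⟩, rfl⟩
    have h := sign_eq hc (by norm_num) ⟨_, g, hg, rfl⟩
    rw [Subsingleton.elim (bHom hc ⟨_, g, hg, rfl⟩) 1, map_one, mul_one] at h
    rw [← h]
    exact (sign_map e g).trans (hs g hg)
  have hR := (alt_bound_strict (n - 3) _ (isNilpotent_range (aHom hc)) hR1).1
  have hr := two_mul_altB (n := n - 3) (by omega) (by omega) (by omega) (by omega) (by omega)
  have hn' := two_mul_altB (n := n) (by omega) (by omega) (by omega) (by omega) (by omega)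
  have hMc : Nat.card (N.map e.permCongrHom.toMonoidHom) = altB n := by
    rw [Subgroup.card_map_of_injective e.permCongrHom.injective, hcard]
  have hge := Subgroup.card_le_of_le hle
  rw [card_std, hMc] at hge
  have hQ : 2 * Nat.card (aHom hc).range = 2 ^ v2f (n - 3) := by omega
  haveI : Nontrivial (Fin (n - 3)) := Fin.nontrivial_iff_two_le.2 (by omega)
  have hleA : (aHom hc).range ≤ alternatingGroup (Fin (n - 3)) := fun g hg => mem_alternatingGroup.2 (hR1 g hg)
  have hcomap : Nat.card ((aHom hc).range.subgroupOf (alternatingGroup (Fin (n - 3)))) = Nat.card (aHom hc).range :=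
    Nat.card_congr (Subgroup.subgroupOfEquivOfLe hleA).toEquiv
  obtain ⟨P0⟩ := (inferInstance : Nonempty (Sylow 2 (alternatingGroup (Fin (n - 3)))))
  have hP0 := card_sylow_alt (by omega) P0
  refine ⟨e, Sylow.ofCard ((aHom hc).range.subgroupOf (alternatingGroup (Fin (n - 3)))) (by
    rw [← P0.card_eq_multiplicity, hcomap]; omega), ?_⟩
  rw [Sylow.coe_ofCard, Subgroup.subgroupOf_map_subtype, inf_eq_left.2 hleA]
  exact Subgroup.eq_of_le_of_card_ge hle (by rw [card_std, hMc]; omega)

/-- Sylow subgroups of the alternating group are conjugate by permutations of either parity. -/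
theorem exists_conj_alt {r : ℕ} (hr : 2 ≤ r) (Q₁ Q₂ : Sylow 2 (alternatingGroup (Fin r))) :
    ∃ g : Perm (Fin r),
      (Q₂ : Subgroup (alternatingGroup (Fin r))).map (alternatingGroup (Fin r)).subtype =
        ((Q₁ : Subgroup (alternatingGroup (Fin r))).map (alternatingGroup (Fin r)).subtype).map
          (MulAut.conj g).toMonoidHom ∧
      ∃ g' : Perm (Fin r),
        (Q₂ : Subgroup (alternatingGroup (Fin r))).map (alternatingGroup (Fin r)).subtype =
          ((Q₁ : Subgroup (alternatingGroup (Fin r))).map (alternatingGroup (Fin r)).subtype).map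
            (MulAut.conj g').toMonoidHom ∧
        sign (g' * g⁻¹) = -1 := by
  haveI : Fact (Nat.Prime 2) := ⟨Nat.prime_two⟩
  haveI : Nontrivial (Fin r) := Fin.nontrivial_iff_two_le.2 hr
  obtain ⟨h, hh⟩ := MulAction.exists_smul_eq (alternatingGroup (Fin r)) Q₁ Q₂
  have hh' : (Q₂ : Subgroup (alternatingGroup (Fin r))) =
      (Q₁ : Subgroup (alternatingGroup (Fin r))).map (MulAut.conj h).toMonoidHom := by rw [← hh]; rfl
  obtain ⟨w, hw, hws⟩ : ∃ w ∈ Subgroup.normalizer
      (((Q₂ : Subgroup (alternatingGroup (Fin r))).map (alternatingGroup (Fin r)).subtype : Subgroup (Perm (Fin r))) :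
        Set (Perm (Fin r))), sign w = -1 := by
    by_contra hcon
    push Not at hcon
    obtain ⟨w, hw⟩ := sign_surjective (Fin r) (-1)
    have htop := Sylow.normalizer_sup_eq_top Q₂
    have hle : (⊤ : Subgroup (Perm (Fin r))) ≤ alternatingGroup (Fin r) := by
      rw [← htop]
      refine sup_le (fun x hx => mem_alternatingGroup.2 ?_) le_rfl
      exact (Int.units_eq_one_or (sign x)).resolve_right (hcon x hx)
    have := mem_alternatingGroup.1 (hle (Subgroup.mem_top w))
    rw [hw] at this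
    exact absurd this (by decide)
  have hg : (Q₂ : Subgroup (alternatingGroup (Fin r))).map (alternatingGroup (Fin r)).subtype =
      ((Q₁ : Subgroup (alternatingGroup (Fin r))).map (alternatingGroup (Fin r)).subtype).map
        (MulAut.conj (h : Perm (Fin r))).toMonoidHom := by
    rw [hh', Subgroup.map_map, Subgroup.map_map]
    exact congrArg (Subgroup.map · (Q₁ : Subgroup (alternatingGroup (Fin r)))) (MonoidHom.ext fun x => rfl)
  refine ⟨h, hg, w * h, ?_, by rw [mul_inv_cancel_right, hws]⟩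
  rw [show (MulAut.conj (w * (h : Perm (Fin r)))).toMonoidHom =
    (MulAut.conj w).toMonoidHom.comp (MulAut.conj (h : Perm (Fin r))).toMonoidHom from MonoidHom.ext fun x => by
      simp [MulAut.conj_apply, mul_assoc], ← Subgroup.map_map, ← hg]
  exact (Subgroup.ext fun x => by
    rw [Subgroup.mem_map]
    constructor
    · intro hx
      have h3 := (Subgroup.mem_normalizer_iff.1 (inv_mem hw) x).1 hx
      rw [inv_inv] at h3
      exact ⟨w⁻¹ * x * w, h3, by simp [mul_assoc]⟩
    · rintro ⟨y, hy, rfl⟩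
      exact (Subgroup.mem_normalizer_iff.1 hw y).1 hy)

/-- A relabelling. -/
noncomputable def relabel (hn : 3 ≤ n) : Fin n ≃ Model (n - 3) 1 3 :=
  Fintype.equivOfCardEq (by simp; omega)

end Cfsg.Agent.PermNilp
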