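import Cfsg.Agent.Lib.Perm.SylowTwo
import Cfsg.Prelude.Def_HallClasses
import Mathlib.GroupTheory.SpecificGroups.Alternating.Simple

/-! Pronormality of the subgroups of odd index of alternating groups. -/

set_option autoImplicit false

namespace Cfsg.Agent.SylTwo

open scoped Pointwise

variable {G : Type*} [Group G] [Finite G]

theorem exists_sylow_le_of_odd_index (H : Subgroup G) (h : Odd H.index) :
    ∃ S : Sylow 2 G, (S : Subgroup G) ≤ H := by
  haveI : Fact (Nat.Prime 2) := ⟨Nat.prime_two⟩
  let S' : Sylow 2 H := default
  have hI : ¬ 2 ∣ ((S' : Subgroup H).map H.subtype).index := by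
    rw [Subgroup.index_map_subtype]
    exact Nat.prime_two.not_dvd_mul S'.not_dvd_index (by rw [← even_iff_two_dvd, Nat.not_even_iff_odd]; exact h)
  exact ⟨(S'.2.map H.subtype).toSylow hI, Subgroup.map_subtype_le _⟩

theorem isPronormal_of_sylow (H : Subgroup G) (S : Sylow 2 G) (hSH : (S : Subgroup G) ≤ H)
    (hN : Subgroup.normalizer ((S : Subgroup G) : Set G) ≤ H ∨ H = (S : Subgroup G)) : Cfsg.IsPronormal H := by
  haveI : Fact (Nat.Prime 2) := ⟨Nat.prime_two⟩
  intro g
  set K := H ⊔ H.map (MulAut.conj g).toMonoidHom
  have h1 : (S : Subgroup G) ≤ K := hSH.trans le_sup_left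
  have h2 : ((g • S : Sylow 2 G) : Subgroup G) ≤ K := by
    refine le_trans ?_ le_sup_right
    show (S : Subgroup G).map (MulAut.conj g).toMonoidHom ≤ H.map (MulAut.conj g).toMonoidHom
    exact Subgroup.map_mono hSH
  obtain ⟨k, hk⟩ := MulAction.exists_smul_eq K ((g • S : Sylow 2 G).subtype h2) (S.subtype h1)
  have hkg : ((k : G) * g) • S = S := Sylow.subtype_injective (hP := ?_) (hQ := h1) ?_
  rotate_left
  · rw [mul_smul]; exact Sylow.smul_le (hP := h2) k
  · rw [← hk, Sylow.smul_subtype h2 k]
    congr 1
    exact mul_smul _ _ _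
  have hn : ((k : G) * g) ∈ Subgroup.normalizer ((S : Subgroup G) : Set G) := Sylow.smul_eq_iff_mem_normalizer.1 hkg
  have hfix : H.map (MulAut.conj ((k : G) * g)).toMonoidHom = H := by
    have key : ∀ y, (k : G) * g * y * ((k : G) * g)⁻¹ ∈ H ↔ y ∈ H := by
      intro y
      rcases hN with hN | hN
      · rw [H.mul_mem_cancel_right (inv_mem (hN hn)), H.mul_mem_cancel_left (hN hn)]
      · rw [hN]; exact (Subgroup.mem_normalizer_iff.1 hn y).symm
    ext x
    rw [Subgroup.mem_map_equiv, ← key ((MulAut.conj ((k : G) * g)).symm x), MulAut.conj_symm_apply]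
    group
  refine ⟨((k : G))⁻¹, inv_mem k.2, ?_⟩
  conv_rhs => rw [← hfix]
  rw [Subgroup.map_map]
  congr 1
  refine MonoidHom.ext fun y => ?_
  show g * y * g⁻¹ = (k : G)⁻¹ * ((k : G) * g * y * ((k : G) * g)⁻¹) * ((k : G)⁻¹)⁻¹
  group

theorem no_commuting_five : ∀ x t : alternatingGroup (Fin 5), x ^ 3 = 1 → t ^ 2 = 1 → x * t = t * x →
    x = 1 ∨ t = 1 := by decide +kernel

/-- Subgroups of odd index of alternating groups are pronormal. -/
theorem alternating_pronormal (n : ℕ) (hn : 5 ≤ n) (H : Subgroup (alternatingGroup (Fin n))) (hH : Odd H.index) :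
    Cfsg.IsPronormal H := by
  haveI : Fact (Nat.Prime 2) := ⟨Nat.prime_two⟩
  obtain ⟨S, hS⟩ := exists_sylow_le_of_odd_index H hH
  refine isPronormal_of_sylow H S hS ?_
  rcases eq_or_lt_of_le hn with rfl | h6
  · have hA : Nat.card (alternatingGroup (Fin 5)) = 60 := by
      rw [nat_card_alternatingGroup, Nat.card_fin]; rfl
    have hSc : Nat.card (S : Subgroup (alternatingGroup (Fin 5))) = 4 := by
      rw [Sylow.card_eq_multiplicity, hA]
      rw [show (60 : ℕ) = 2 ^ 2 * 15 by norm_num, Nat.factorization_mul (by norm_num) (by norm_num),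
        Finsupp.add_apply, Nat.Prime.factorization_pow Nat.prime_two, Finsupp.single_eq_same,
        Nat.factorization_eq_zero_of_not_dvd (by norm_num)]
      norm_num
    have hd := H.index_mul_card
    rw [hA] at hd
    have h4 : 4 ∣ Nat.card H := hSc ▸ Subgroup.card_dvd_of_le hS
    obtain ⟨c, hc⟩ := h4
    rw [hc] at hd
    have hcases : H.index = 1 ∨ H.index = 3 ∨ H.index = 5 ∨ H.index = 15 := by
      have h15 : H.index * c = 15 := by linarith
      have : H.index ∈ Nat.divisors 15 := Nat.mem_divisors.2 ⟨⟨c, h15.symm⟩, by norm_num⟩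
      rw [show Nat.divisors 15 = {1, 3, 5, 15} by decide] at this
      simpa using this
    rcases hcases with h | h | h | h
    · left; rw [Subgroup.index_eq_one.1 h]; exact le_top
    · exfalso
      have h1 : H.normalCore = ⊥ := (Subgroup.Normal.eq_bot_or_eq_top inferInstance).resolve_right fun e => by
        have := H.normalCore_le
        rw [e, top_le_iff] at this
        rw [this, Subgroup.index_top] at h
        norm_num at h
      have h2 : H.normalCore.index ∣ 6 := by
        rw [Subgroup.normalCore_eq_ker, Subgroup.index_ker]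
        refine (Subgroup.card_subgroup_dvd_card _).trans ?_
        rw [Nat.card_perm, ← Subgroup.index_eq_card, h]; rfl
      rw [h1, Subgroup.index_bot, hA] at h2
      norm_num at h2
    · left
      have hc12 : Nat.card H = 12 := by rw [hc]; rw [h] at hd; omega
      set S' := (S : Subgroup (alternatingGroup (Fin 5))).subgroupOf H with hS'
      have hS'c : Nat.card S' = 4 := by rw [← hSc]; exact Nat.card_congr (Subgroup.subgroupOfEquivOfLe hS).toEquiv
      have hS'i : S'.index = 3 := by
        have := S'.index_mul_card
        rw [hS'c, hc12] at this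
        omega
      have hcore : S'.normalCore.index ∣ 6 := by
        rw [Subgroup.normalCore_eq_ker, Subgroup.index_ker]
        refine (Subgroup.card_subgroup_dvd_card _).trans ?_
        rw [Nat.card_perm, ← Subgroup.index_eq_card, hS'i]; rfl
      have hnorm : S'.Normal := by
        by_cases e : S'.normalCore = S'
        · rw [← e]; infer_instance
        exfalso
        have h2 : Nat.card S'.normalCore = 2 := by
          have hlt : Nat.card S'.normalCore ≠ 4 := fun e' =>
            e (Subgroup.eq_of_le_of_card_ge S'.normalCore_le (by rw [e', hS'c]))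
          have hdvd := Subgroup.card_dvd_of_le S'.normalCore_le
          rw [hS'c] at hdvd
          have := S'.normalCore.index_mul_card
          rw [hc12] at this
          have hle := Nat.le_of_dvd (by norm_num) hcore
          have hle4 := Nat.le_of_dvd (by norm_num) hdvd
          interval_cases hN : Nat.card S'.normalCore <;> omega
        obtain ⟨t, ht⟩ := exists_prime_orderOf_dvd_card' (G := S'.normalCore) 2 (by rw [h2])
        obtain ⟨x, hx⟩ := exists_prime_orderOf_dvd_card' (G := H) (hp := ⟨Nat.prime_three⟩) 3 (by rw [hc12]; norm_num)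
        have hall : ∀ z : S'.normalCore, z = 1 ∨ z = t := by
          intro z
          obtain ⟨a, b, hab, huniv⟩ := Nat.card_eq_two_iff.1 h2
          have hz : z ∈ ({a, b} : Set S'.normalCore) := huniv ▸ Set.mem_univ z
          have ht' : t ∈ ({a, b} : Set S'.normalCore) := huniv ▸ Set.mem_univ t
          have h1' : (1 : S'.normalCore) ∈ ({a, b} : Set S'.normalCore) := huniv ▸ Set.mem_univ _
          have ht1 : t ≠ 1 := fun e => by rw [e, orderOf_one] at ht; norm_num at ht
          simp only [Set.mem_insert_iff, Set.mem_singleton_iff] at hz ht' h1'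
          rcases hz with rfl | rfl <;> rcases ht' with rfl | rfl <;> rcases h1' with h' | h' <;>
            first
              | exact Or.inl h'.symm
              | exact Or.inr rfl
              | exact absurd h'.symm ht1
        have hcom : x * (t : H) = (t : H) * x := by
          have hm : x * (t : H) * x⁻¹ ∈ S'.normalCore := Subgroup.Normal.conj_mem inferInstance _ t.2 x
          rcases hall ⟨_, hm⟩ with e | e
          · have e' : x * (t : H) * x⁻¹ = 1 := congrArg Subtype.val e
            rw [conj_eq_one_iff] at e'
            rw [e', one_mul, mul_one]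
          · exact mul_inv_eq_iff_eq_mul.1 (congrArg Subtype.val e)
        have hx1 : orderOf (x : alternatingGroup (Fin 5)) = 3 := by rw [Subgroup.orderOf_coe, hx]
        have ht1 : orderOf ((t : H) : alternatingGroup (Fin 5)) = 2 := by
          rw [Subgroup.orderOf_coe, Subgroup.orderOf_coe, ht]
        rcases no_commuting_five _ _ (hx1 ▸ pow_orderOf_eq_one _) (ht1 ▸ pow_orderOf_eq_one _)
          (congrArg Subtype.val hcom) with e | e
        · rw [e, orderOf_one] at hx1; norm_num at hx1
        · rw [e, orderOf_one] at ht1; norm_num at ht1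
      have hle : H ≤ Subgroup.normalizer ((S : Subgroup (alternatingGroup (Fin 5))) : Set (alternatingGroup (Fin 5))) :=
        Subgroup.normal_subgroupOf_iff_le_normalizer hS |>.1 hnorm
      rcases eq_or_lt_of_le hle with e | e
      · exact e.ge
      exfalso
      have hne : Subgroup.normalizer ((S : Subgroup (alternatingGroup (Fin 5))) : Set (alternatingGroup (Fin 5))) ≠ ⊤ := by
        intro e'
        haveI := Subgroup.normalizer_eq_top_iff.1 e'
        rcases Subgroup.Normal.eq_bot_or_eq_top this with e'' | e''
        · rw [e'', Subgroup.card_bot] at hSc; omega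
        · rw [e'', Subgroup.card_top, hA] at hSc; omega
      have hdvd := Subgroup.index_dvd_of_le e.le
      rw [h, Nat.dvd_prime (by norm_num)] at hdvd
      rcases hdvd with h' | h'
      · exact hne (Subgroup.index_eq_one.1 h')
      · have := Subgroup.index_strictAnti e
        omega
    · right
      refine (Subgroup.eq_of_le_of_card_ge hS ?_).symm
      rw [h] at hd
      rw [hSc, hc]
      omega
  · left
    intro y hy
    refine hS (mem_of_normalize_alt (by rw [Fintype.card_fin]; omega) S y fun s hs => ?_)
    have := (Subgroup.mem_normalizer_iff.1 (inv_mem hy) s).1 hs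
    rwa [inv_inv] at this

end Cfsg.Agent.SylTwo
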