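import Cfsg.Agent.Lib.Perm.SylowDecompAbstract
import Cfsg.Agent.Lib.Perm.NilpotentMax
import Cfsg.Prelude.Def_TwoFusion

/-!
An explicit Sylow two-subgroup of the symmetric group, and the direct decomposability of the Sylow two-subgroups
of the alternating groups.
-/

set_option autoImplicit false

namespace Cfsg.Agent.SylDecomp

open Equiv Equiv.Perm

/-- A set of size `2 ^ i`. -/
@[reducible] def X : ℕ → Type
  | 0 => Unit
  | i + 1 => Bool × X i

instance instFintypeX : ∀ i, Fintype (X i)
  | 0 => (inferInstance : Fintype Unit)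
  | i + 1 => letI := instFintypeX i; (inferInstance : Fintype (Bool × X i))

instance instDecX : ∀ i, DecidableEq (X i)
  | 0 => (inferInstance : DecidableEq Unit)
  | i + 1 => letI := instDecX i; (inferInstance : DecidableEq (Bool × X i))

theorem card_X : ∀ i, Fintype.card (X i) = 2 ^ i
  | 0 => rfl
  | i + 1 => by
    show Fintype.card (Bool × X i) = _
    rw [Fintype.card_prod, Fintype.card_bool, card_X i, pow_succ']

/-- An element of the wreath product. -/
def mk {i : ℕ} (σ : Bool) (a : Bool → Perm (X i)) : Perm (Bool × X i) :=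
  Equiv.prodCongrLeft (fun _ => if σ then Equiv.swap false true else 1) * Equiv.prodCongrRight a

theorem mk_apply {i : ℕ} (σ : Bool) (a : Bool → Perm (X i)) (c : Bool) (x : X i) :
    mk σ a (c, x) = (Bool.xor c σ, a c x) := by
  cases σ <;> cases c <;> simp [mk, Perm.mul_apply] <;> rfl

theorem mk_mul {i : ℕ} (σ τ : Bool) (a b : Bool → Perm (X i)) :
    mk σ a * mk τ b = mk (Bool.xor τ σ) (fun c => a (Bool.xor c τ) * b c) := by
  ext1 ⟨c, x⟩
  rw [Perm.mul_apply, mk_apply, mk_apply, mk_apply, Perm.mul_apply, Bool.xor_assoc]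

theorem mk_one {i : ℕ} : mk (i := i) false (fun _ => 1) = 1 := by
  ext1 ⟨c, x⟩
  rw [mk_apply, Bool.xor_false]; rfl

theorem mk_injective {i : ℕ} [Nonempty (X i)] {σ τ : Bool} {a b : Bool → Perm (X i)} (h : mk σ a = mk τ b) :
    σ = τ ∧ a = b := by
  have hc : ∀ c x, (Bool.xor c σ, a c x) = (Bool.xor c τ, b c x) := fun c x => by
    rw [← mk_apply, h, mk_apply]
  obtain ⟨x⟩ := ‹Nonempty (X i)›
  refine ⟨?_, funext fun c => Equiv.ext fun y => congrArg Prod.snd (hc c y)⟩
  simpa using congrArg Prod.fst (hc false x)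

instance instNonemptyX : ∀ i, Nonempty (X i)
  | 0 => ⟨()⟩
  | i + 1 => letI := instNonemptyX i; (inferInstance : Nonempty (Bool × X i))

/-- The wreath product with a group of order two. -/
def step {i : ℕ} (H : Subgroup (Perm (X i))) : Subgroup (Perm (Bool × X i)) where
  carrier := {g | ∃ σ a, (∀ c, a c ∈ H) ∧ g = mk σ a}
  one_mem' := ⟨false, fun _ => 1, fun _ => one_mem H, mk_one.symm⟩
  mul_mem' := fun {g h} ⟨σ, a, ha, hg⟩ ⟨τ, b, hb, hh⟩ =>
    ⟨Bool.xor τ σ, fun c => a (Bool.xor c τ) * b c, fun c => mul_mem (ha _) (hb c), by rw [hg, hh, mk_mul]⟩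
  inv_mem' := fun {g} ⟨σ, a, ha, hg⟩ => ⟨σ, fun c => (a (Bool.xor c σ))⁻¹, fun c => inv_mem (ha _), by
    rw [hg, inv_eq_iff_mul_eq_one, mk_mul, ← mk_one (i := i)]
    congr 1
    · simp
    · funext c; simp⟩

theorem mem_step {i : ℕ} {H : Subgroup (Perm (X i))} {g : Perm (Bool × X i)} :
    g ∈ step H ↔ ∃ σ a, (∀ c, a c ∈ H) ∧ g = mk σ a := Iff.rfl

theorem mk_mem_step {i : ℕ} {H : Subgroup (Perm (X i))} {σ : Bool} {a : Bool → Perm (X i)} (ha : ∀ c, a c ∈ H) :
    mk σ a ∈ step H := mem_step.2 ⟨σ, a, ha, rfl⟩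

/-- The Sylow subgroup of degree `2 ^ i`. -/
def W : ∀ i, Subgroup (Perm (X i))
  | 0 => ⊥
  | i + 1 => step (W i)

theorem W_succ (i : ℕ) : W (i + 1) = step (W i) := rfl

theorem card_W : ∀ i, Nat.card (W i) * 2 = 2 ^ 2 ^ i
  | 0 => by rw [show W 0 = ⊥ from rfl, Subgroup.card_bot]; rfl
  | i + 1 => by
    let f : Bool × (Bool → W i) → step (W i) := fun u => ⟨mk u.1 fun c => (u.2 c).1, mk_mem_step fun c => (u.2 c).2⟩
    have hf : Function.Bijective f := by
      refine ⟨fun u v h => ?_, fun ⟨g, hmem⟩ => ?_⟩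
      · obtain ⟨h1, h2⟩ := mk_injective (congrArg Subtype.val h)
        exact Prod.ext h1 (funext fun c => Subtype.ext (congrFun h2 c))
      · obtain ⟨σ, a, ha, hg⟩ := mem_step.1 hmem
        exact ⟨(σ, fun c => ⟨a c, ha c⟩), Subtype.ext hg.symm⟩
    have h := card_W i
    show Nat.card (step (W i)) * 2 = _
    rw [← Nat.card_eq_of_bijective f hf, Nat.card_prod, Nat.card_fun, show Nat.card Bool = 2 by simp,
      pow_succ 2 i, pow_mul, ← h]
    ring

theorem isPGroup_W (i : ℕ) : IsPGroup 2 (W i) := by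
  have h := card_W i
  obtain ⟨k, -, hk⟩ := (Nat.dvd_prime_pow Nat.prime_two).1 (⟨2, h.symm⟩ : Nat.card (W i) ∣ 2 ^ 2 ^ i)
  exact IsPGroup.of_card hk

theorem sign_mk {i : ℕ} (hi : 1 ≤ i) (σ : Bool) (a : Bool → Perm (X i)) :
    sign (mk σ a) = sign (a false) * sign (a true) := by
  rw [mk, map_mul, sign_prodCongrLeft, sign_prodCongrRight, Finset.prod_const, Finset.card_univ, card_X,
    Fintype.prod_bool]
  obtain ⟨j, rfl⟩ : ∃ j, i = j + 1 := ⟨i - 1, by omega⟩
  rw [pow_succ' 2 j, pow_mul, Int.units_sq, one_pow, one_mul, mul_comm]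

/-- The sign on a Sylow subgroup. -/
noncomputable def eps (i : ℕ) : W i →* ℤˣ := sign.comp (W i).subtype

theorem eps_apply (i : ℕ) (g : W i) : eps i g = sign (g : Perm (X i)) := rfl

/-- The properties used in the induction. -/
theorem W_props : ∀ i, 1 ≤ i →
    (∃ z ∈ W i, (∀ g ∈ W i, g * z = z * g) ∧ (∀ x ∈ W i, (∀ g ∈ W i, g * x = x * g) → x = 1 ∨ x = z)) ∧
      ∃ g ∈ W i, sign g = -1 := by
  intro i
  induction i with
  | zero => intro h; omega
  | succ i ih =>
    intro _
    rcases Nat.eq_zero_or_pos i with rfl | hi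
    · have hW : ∀ g ∈ W 1, g = 1 ∨ g = mk (i := 0) true (fun _ => 1) := by
        intro g hg
        obtain ⟨σ, a, ha, rfl⟩ := mem_step.1 hg
        have ha1 : a = fun _ => 1 := funext fun c => ha c
        subst ha1
        cases σ
        · exact Or.inl mk_one
        · exact Or.inr rfl
      have hmem : mk (i := 0) true (fun _ => 1) ∈ W 1 := mk_mem_step fun _ => one_mem _
      refine ⟨⟨_, hmem, fun g hg => ?_, fun x hx _ => hW x hx⟩, _, hmem, ?_⟩
      · rcases hW g hg with rfl | rfl <;> simp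
      · have e : mk (i := 0) true (fun _ => 1) = Equiv.swap ((false, ()) : Bool × Unit) (true, ()) := by
          ext1 ⟨c, x⟩
          rw [mk_apply]
          cases c <;> rfl
        rw [e]
        exact sign_swap (fun h => Bool.noConfusion (congrArg Prod.fst h))
    · obtain ⟨⟨z, hzW, hzc, hzu⟩, o, hoW, ho⟩ := ih hi
      have ho1 : o ≠ 1 := fun h => by rw [h, map_one] at ho; exact absurd ho (by decide)
      refine ⟨⟨mk false (fun _ => z), mk_mem_step fun _ => hzW, ?_, ?_⟩, ?_⟩
      · intro g hg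
        obtain ⟨σ, a, ha, rfl⟩ := mem_step.1 hg
        rw [mk_mul, mk_mul]
        congr 1
        · simp
        · funext c; simpa using hzc _ (ha c)
      · intro x hxW hx
        obtain ⟨σ, a, ha, rfl⟩ := mem_step.1 hxW
        have h1 := hx _ (mk_mem_step (σ := true) (a := fun _ => 1) fun _ => one_mem (W i))
        rw [mk_mul, mk_mul] at h1
        have h1' := (mk_injective h1).2
        have h2 : ∀ g ∈ W i, g * a false = a false * g ∧ σ = false := by
          intro g hg
          have h3 := hx _ (mk_mem_step (σ := false) (a := fun c => if c then 1 else g) fun c => by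
            cases c <;> simp [hg, one_mem])
          rw [mk_mul, mk_mul] at h3
          have h3' := congrFun (mk_injective h3).2
          refine ⟨?_, ?_⟩
          · cases σ
            · simpa using h3' false
            · have := h3' false
              simp at this
              rw [this]; simp
          · by_contra hσ
            rw [Bool.not_eq_false] at hσ
            subst hσ
            have h4 := hx _ (mk_mem_step (σ := false) (a := fun c => if c then 1 else o) fun c => by
              cases c <;> simp [hoW, one_mem])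
            rw [mk_mul, mk_mul] at h4
            have := congrFun (mk_injective h4).2 false
            simp at this
            exact ho1 this
        obtain rfl : σ = false := (h2 o hoW).2
        have hat : a = fun _ => a false := funext fun c => by
          cases c
          · rfl
          · simpa using congrFun h1' true
        rcases hzu (a false) (ha false) fun g hg => (h2 g hg).1 with h | h
        · left; rw [hat, h]; exact mk_one
        · right; rw [hat, h]
      · refine ⟨mk false fun c => if c then o else 1, mk_mem_step fun c => by cases c <;> simp [hoW, one_mem], ?_⟩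
        rw [sign_mk hi]; simp [ho]

theorem good_W (i : ℕ) (hi : 1 ≤ i) : Good (eps (i + 1)) := by
  obtain ⟨⟨z, hz, -, hzu⟩, o, hoW, ho⟩ := W_props i hi
  obtain ⟨⟨z', hz', hzc', hzu'⟩, o', ho'W, ho'⟩ := W_props (i + 1) (by omega)
  have hswap : mk (i := i) true (fun _ => 1) ∈ W (i + 1) := mk_mem_step fun _ => one_mem _
  refine ⟨?_, ⟨⟨o', ho'W⟩, ho'⟩, ?_, ?_⟩
  · refine ⟨⟨z', hz'⟩, ?_, fun x hx => ?_⟩
    · obtain ⟨σ, a, ha, hza⟩ := mem_step.1 hz'
      have h2 := hzc' _ hswap
      rw [hza, mk_mul, mk_mul] at h2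
      have h3 := congrFun (mk_injective h2).2 false
      simp at h3
      rw [eps_apply, show ((⟨z', hz'⟩ : W (i + 1)) : Perm (X (i + 1))) = mk σ a from hza, sign_mk hi, h3, ← pow_two,
        Int.units_sq]
    · rcases hzu' x.1 x.2 fun g hg => congrArg Subtype.val (hx ⟨g, hg⟩) with h | h
      · exact Or.inl (Subtype.ext h)
      · exact Or.inr (Subtype.ext h)
  · intro x hx
    obtain ⟨σ, a, ha, hxa⟩ := mem_step.1 x.2
    have h := congrArg Subtype.val (hx ⟨_, hswap⟩ (by rw [eps_apply, sign_mk hi]; simp))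
    rw [Subgroup.coe_mul, Subgroup.coe_mul, hxa, mk_mul, mk_mul] at h
    have h3 := congrFun (mk_injective h).2 false
    simp at h3
    rw [eps_apply, hxa, sign_mk hi, h3, ← pow_two, Int.units_sq]
  · refine ⟨⟨_, hswap⟩, by rw [eps_apply, sign_mk hi]; simp,
      ⟨mk false fun c => if c then o else 1, mk_mem_step fun c => by cases c <;> simp [hoW, one_mem]⟩, fun h => ?_⟩
    have h' := congrArg Subtype.val h
    rw [Subgroup.coe_mul, Subgroup.coe_mul, mk_mul, mk_mul] at h'
    have h3 := congrFun (mk_injective h').2 false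
    simp at h3
    rw [h3, map_one] at ho
    exact absurd ho (by decide)

/-- From degree eight on the even part has a centre of order two. -/
theorem central_even (i : ℕ) (hi : 1 ≤ i) :
    ∃ z : W (i + 2), ∀ x : W (i + 2), eps _ x = 1 →
      (∀ g : W (i + 2), eps _ g = 1 → g * x = x * g) → x = 1 ∨ x = z := by
  obtain ⟨⟨z, hz, -, hzu⟩, -⟩ := W_props (i + 1) (by omega)
  obtain ⟨y, hy, g0, hg0⟩ := (good_W i hi).noncentral
  refine ⟨⟨mk false fun _ => z, mk_mem_step fun _ => hz⟩, fun x _ hx => ?_⟩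
  obtain ⟨σ, a, ha, hxa⟩ := mem_step.1 x.2
  have test : ∀ (b : Bool) (c : Bool → Perm (X (i + 1))) (hc : ∀ d, c d ∈ W (i + 1)),
      sign (c false) * sign (c true) = 1 → mk b c * mk σ a = mk σ a * mk b c := fun b c hc hs => by
    rw [← hxa]
    exact congrArg Subtype.val (hx ⟨_, mk_mem_step hc⟩ (by rw [eps_apply, sign_mk (by omega)]; exact hs))
  have h1 := test true (fun _ => 1) (fun _ => one_mem _) (by simp)
  rw [mk_mul, mk_mul] at h1
  have h1' := congrFun (mk_injective h1).2
  obtain rfl : σ = false := by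
    by_contra hσ
    rw [Bool.not_eq_false] at hσ
    subst hσ
    have h2 := test false (fun d => if d then 1 else (y : Perm (X (i + 1)))) (fun d => by
      cases d <;> simp [y.2, one_mem]) (by simp; exact hy)
    rw [mk_mul, mk_mul] at h2
    have := congrFun (mk_injective h2).2 false
    simp at this
    exact hg0 (by rw [this, mul_one, one_mul])
  have hat : a = fun _ => a false := funext fun c => by
    cases c
    · rfl
    · simpa using h1' true
  rcases hzu (a false) (ha false) fun g hg => by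
    have h2 := test false (fun _ => g) (fun _ => hg) (by rw [← pow_two, Int.units_sq])
    rw [mk_mul, mk_mul] at h2
    simpa using congrFun (mk_injective h2).2 false with h | h
  · left; refine Subtype.ext ?_; rw [hxa, hat, h]; exact mk_one
  · right; refine Subtype.ext ?_; rw [hxa, hat, h]

/-- The even part in degree four. -/
theorem dec_four : Dec (eps 2).ker := by
  classical
  obtain ⟨⟨z, hz, -, -⟩, o, hoW, ho⟩ := W_props 1 le_rfl
  have ho1 : o ≠ 1 := fun h => by rw [h, map_one] at ho; exact absurd ho (by decide)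
  let u : (eps 2).ker := ⟨⟨mk true fun _ => 1, mk_mem_step fun _ => one_mem _⟩, by
    rw [MonoidHom.mem_ker, eps_apply, sign_mk le_rfl]; simp⟩
  let v : (eps 2).ker := ⟨⟨mk false fun _ => o, mk_mem_step fun _ => hoW⟩, by
    rw [MonoidHom.mem_ker, eps_apply, sign_mk le_rfl, ← pow_two, Int.units_sq]⟩
  have huv : u * v = v * u := Subtype.ext (Subtype.ext (by
    show mk true _ * mk false _ = mk false _ * mk true _
    rw [mk_mul, mk_mul]; simp))
  have hne : u ≠ v := fun h => by
    have := (mk_injective (congrArg (fun x : (eps 2).ker => (x.1 : Perm (X 2))) h)).1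
    exact Bool.noConfusion this
  have hu1 : u ≠ 1 := fun h => by
    have h' : mk (i := 1) true (fun _ => 1) = mk false fun _ => 1 :=
      (congrArg (fun x : (eps 2).ker => (x.1 : Perm (X 2))) h).trans mk_one.symm
    exact Bool.noConfusion (mk_injective h').1
  have hv1 : v ≠ 1 := fun h => by
    have h' : mk (i := 1) false (fun _ => o) = mk false fun _ => 1 :=
      (congrArg (fun x : (eps 2).ker => (x.1 : Perm (X 2))) h).trans mk_one.symm
    exact ho1 (congrFun (mk_injective h').2 false)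
  have hcard : Nat.card (eps 2).ker = 4 := by
    have hsurj : Function.Surjective (eps 2) := fun e => by
      rcases Int.units_eq_one_or e with rfl | rfl
      · exact ⟨1, map_one _⟩
      · obtain ⟨-, g, hg, hgs⟩ := W_props 2 (by omega)
        exact ⟨⟨g, hg⟩, hgs⟩
    have h1 := Subgroup.card_eq_card_quotient_mul_card_subgroup (eps 2).ker
    rw [Nat.card_congr (QuotientGroup.quotientKerEquivOfSurjective _ hsurj).toEquiv] at h1
    have h2 := card_W 2
    have h5 : Nat.card ℤˣ = 2 := by rw [Nat.card_eq_fintype_card]; rfl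
    rw [h5] at h1
    rw [show (2 : ℕ) ^ 2 ^ 2 = 16 from rfl] at h2
    omega
  have hoo : o * o = 1 := by
    have h2 := card_W 1
    have h3 := congrArg Subtype.val (pow_card_eq_one' (x := (⟨o, hoW⟩ : W 1)))
    rw [show Nat.card (W 1) = 2 by omega] at h3
    simpa [pow_two] using h3
  have hsq : ∀ w : (eps 2).ker, w = u ∨ w = v → w ^ 2 = 1 := by
    rintro w (rfl | rfl) <;> refine Subtype.ext (Subtype.ext ?_) <;>
      show mk _ _ ^ 2 = 1 <;> rw [pow_two, mk_mul, ← mk_one] <;> congr 1 <;> funext c <;> simp [hoo]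
  refine ⟨Subgroup.zpowers u, Subgroup.zpowers v, ?_, ?_, ?_, ?_, ?_⟩
  · rwa [Ne, Subgroup.zpowers_eq_bot]
  · rwa [Ne, Subgroup.zpowers_eq_bot]
  · intro a ha b hb
    obtain ⟨m, rfl⟩ := Subgroup.mem_zpowers_iff.1 ha
    obtain ⟨k, rfl⟩ := Subgroup.mem_zpowers_iff.1 hb
    exact ((show Commute u v from huv).zpow_zpow m k).eq
  · rw [Subgroup.eq_bot_iff_forall]
    rintro x ⟨hxu, hxv⟩
    have h2u : orderOf u = 2 := orderOf_eq_prime (hsq u (Or.inl rfl)) hu1
    by_contra hx1
    have e1 : Subgroup.zpowers x = Subgroup.zpowers u := Subgroup.eq_of_le_of_card_ge (Subgroup.zpowers_le.2 hxu) (by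
      rw [Nat.card_zpowers, Nat.card_zpowers, h2u]
      have := orderOf_pos x
      have : orderOf x ≠ 1 := fun h => hx1 (orderOf_eq_one_iff.1 h)
      omega)
    have h2v : orderOf v = 2 := orderOf_eq_prime (hsq v (Or.inr rfl)) hv1
    have e2 : Subgroup.zpowers x = Subgroup.zpowers v := Subgroup.eq_of_le_of_card_ge (Subgroup.zpowers_le.2 hxv) (by
      rw [Nat.card_zpowers, Nat.card_zpowers, h2v]
      have := orderOf_pos x
      have : orderOf x ≠ 1 := fun h => hx1 (orderOf_eq_one_iff.1 h)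
      omega)
    have hmem : u ∈ Subgroup.zpowers v := by rw [← e2, e1]; exact Subgroup.mem_zpowers u
    obtain ⟨m, hm⟩ := Subgroup.mem_zpowers_iff.1 hmem
    rcases Int.even_or_odd' m with ⟨t, rfl | rfl⟩
    · rw [zpow_mul, zpow_two, ← pow_two, hsq v (Or.inr rfl), one_zpow] at hm
      exact hu1 hm.symm
    · rw [zpow_add, zpow_mul, zpow_two, ← pow_two, hsq v (Or.inr rfl), one_zpow, one_mul, zpow_one] at hm
      exact hne hm.symm
  · refine Subgroup.eq_top_of_card_eq _ ?_
    rw [hcard]
    set H := Subgroup.zpowers u ⊔ Subgroup.zpowers v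
    have hd : Nat.card H ∣ 4 := hcard ▸ H.card_subgroup_dvd_card
    have h3 : 3 ≤ Nat.card H := by
      let f : Fin 3 → H := ![⟨1, one_mem _⟩, ⟨u, Subgroup.mem_sup_left (Subgroup.mem_zpowers u)⟩,
        ⟨v, Subgroup.mem_sup_right (Subgroup.mem_zpowers v)⟩]
      refine le_of_eq_of_le (Nat.card_fin 3).symm (Nat.card_le_card_of_injective f ?_)
      intro a b h
      fin_cases a <;> fin_cases b <;> simp [f, hu1, hv1, hne, Ne.symm hu1, Ne.symm hv1, Ne.symm hne] at h ⊢
    have := Nat.le_of_dvd (by norm_num) hd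
    interval_cases hH : Nat.card H <;> norm_num at hd
    rfl

/-- Binary digits, without the units digit. -/
theorem exists_bits : ∀ n : ℕ, ∃ (S : Finset ℕ) (r : ℕ), r ≤ 1 ∧ (∀ i ∈ S, 1 ≤ i) ∧
    n = r + ∑ i ∈ S, 2 ^ i ∧ PermNilp.v2f n + S.card = ∑ i ∈ S, 2 ^ i ∧ (1 ∈ S ↔ 2 ≤ n % 4) := by
  intro n
  induction n using Nat.strong_induction_on with
  | _ n ih =>
    rcases Nat.eq_zero_or_pos n with rfl | hn
    · exact ⟨∅, 0, by omega, by simp, by simp, by simp [PermNilp.v2f_zero], by simp⟩
    obtain ⟨S', r', hr', hS', hn', hv', h1'⟩ := ih (n / 2) (by omega)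
    set T : Finset ℕ := (if r' = 1 then {1} else ∅) ∪ S'.image (· + 1)
    have hinj : Set.InjOn (fun i : ℕ => i + 1) S' := fun a _ b _ h => Nat.succ_injective h
    have hdisj : Disjoint (if r' = 1 then ({1} : Finset ℕ) else ∅) (S'.image (· + 1)) := by
      split_ifs
      · rw [Finset.disjoint_singleton_left, Finset.mem_image]
        rintro ⟨i, hi, hi1⟩
        have := hS' i hi; omega
      · simp
    have hsum : ∑ i ∈ T, 2 ^ i = 2 * r' + 2 * ∑ i ∈ S', 2 ^ i := by
      rw [Finset.sum_union hdisj, Finset.sum_image hinj, Finset.mul_sum]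
      congr 1
      · split_ifs with h
        · simp [h]
        · simp; omega
      · exact Finset.sum_congr rfl fun i _ => pow_succ' 2 i
    have hcardT : T.card = r' + S'.card := by
      rw [Finset.card_union_of_disjoint hdisj, Finset.card_image_of_injOn hinj]
      split_ifs with h
      · simp [h]
      · simp; omega
    have hmem : 1 ∈ T ↔ r' = 1 := by
      constructor
      · intro h
        rcases Finset.mem_union.1 h with h | h
        · by_contra hr1; simp [hr1] at h
        · obtain ⟨i, hi, hi1⟩ := Finset.mem_image.1 h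
          have := hS' i hi; omega
      · intro h; exact Finset.mem_union_left _ (by simp [h])
    have hv : PermNilp.v2f n = n / 2 + PermNilp.v2f (n / 2) := by
      rcases Nat.even_or_odd' n with ⟨m, rfl | rfl⟩
      · rw [PermNilp.v2f_mul, show 2 * m / 2 = m by omega]
      · rw [PermNilp.v2f_succ, PermNilp.v2f_mul, show (2 * m + 1) / 2 = m by omega]
    have hdiv : 2 ∣ ∑ i ∈ S', 2 ^ i := Finset.dvd_sum fun i hi => dvd_pow_self 2 (by have := hS' i hi; omega)
    refine ⟨T, n % 2, by omega, fun i hi => ?_, by omega, by omega, by rw [hmem]; omega⟩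
    rcases Finset.mem_union.1 hi with h | h
    · split_ifs at h <;> simp at h
      omega
    · obtain ⟨j, -, rfl⟩ := Finset.mem_image.1 h
      omega

/-- The sign of a blockwise permutation. -/
theorem sign_sigma {κ : Type*} [Fintype κ] [DecidableEq κ] {β : κ → Type*} [∀ k, Fintype (β k)]
    [∀ k, DecidableEq (β k)] (f : ∀ k, Perm (β k)) :
    sign (sigmaCongrRightHom β f) = ∏ k, sign (f k) := by
  let L : (∀ k, Perm (β k)) →* ℤˣ := sign.comp (sigmaCongrRightHom β)
  let R : (∀ k, Perm (β k)) →* ℤˣ :=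
    { toFun := fun g => ∏ k, sign (g k)
      map_one' := by simp
      map_mul' := fun a b => by simp [Finset.prod_mul_distrib] }
  suffices hsingle : ∀ k (g : Perm (β k)), L (Pi.mulSingle k g) = R (Pi.mulSingle k g) by
    have key : ∀ (t : Finset κ) (g : ∀ k, Perm (β k)), (∀ k ∉ t, g k = 1) → L g = R g := by
      intro t
      induction t using Finset.induction_on with
      | empty =>
        intro g hg
        rw [show g = 1 from funext fun k => hg k (Finset.notMem_empty k), map_one, map_one]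
      | insert a t hat ih =>
        intro g hg
        have hrest : ∀ k ∉ t, Function.update g a 1 k = 1 := fun k hk => by
          rcases eq_or_ne k a with rfl | hka
          · rw [Function.update_self]
          · rw [Function.update_of_ne hka]
            exact hg k (by simp [hka, hk])
        have hdec : g = Pi.mulSingle a (g a) * Function.update g a 1 := funext fun k => by
          rcases eq_or_ne k a with rfl | hka
          · simp
          · simp [hka]
        rw [hdec, map_mul, map_mul, hsingle, ih _ hrest]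
    exact key Finset.univ f fun k hk => absurd (Finset.mem_univ k) hk
  intro k g
  show sign (sigmaCongrRightHom β (Pi.mulSingle k g)) = ∏ j, sign ((Pi.mulSingle k g : ∀ j, Perm (β j)) j)
  rw [Finset.prod_eq_single k (fun j _ hj => by rw [Pi.mulSingle_eq_of_ne hj, map_one])
    (fun h => absurd (Finset.mem_univ k) h), Pi.mulSingle_eq_same]
  refine Equiv.Perm.swap_induction_on g (by simp) fun g x y hxy ih => ?_
  have hswap : sigmaCongrRightHom β (Pi.mulSingle k (Equiv.swap x y)) = Equiv.swap ⟨k, x⟩ ⟨k, y⟩ := by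
    refine Equiv.ext fun ⟨j, z⟩ => ?_
    show (⟨j, (Pi.mulSingle k (Equiv.swap x y) : ∀ j, Perm (β j)) j z⟩ : Σ j, β j) = _
    rcases eq_or_ne j k with rfl | hj
    · rw [Pi.mulSingle_eq_same]
      rcases eq_or_ne z x with rfl | hzx
      · simp
      rcases eq_or_ne z y with rfl | hzy
      · simp
      rw [Equiv.swap_apply_of_ne_of_ne hzx hzy, Equiv.swap_apply_of_ne_of_ne (by simpa using hzx) (by simpa using hzy)]
    · rw [Pi.mulSingle_eq_of_ne hj, Equiv.swap_apply_of_ne_of_ne (fun h => hj (congrArg Sigma.fst h))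
        (fun h => hj (congrArg Sigma.fst h))]
      rfl
  rw [Pi.mulSingle_mul, map_mul, map_mul, hswap, map_mul, ih, sign_swap hxy,
    sign_swap (fun h => hxy (by simpa using h))]

/-- The Sylow two-subgroup of `A_n` as the even part of a product. -/
theorem exists_equiv {n : ℕ} (hn : 2 ≤ n) (P : Sylow 2 (alternatingGroup (Fin n))) {S : Finset ℕ} {r : ℕ}
    (hS : ∀ i ∈ S, 1 ≤ i) (hsum : n = r + ∑ i ∈ S, 2 ^ i) (hv : PermNilp.v2f n + S.card = ∑ i ∈ S, 2 ^ i)
    (hne : S.Nonempty) :
    Nonempty ((sgn fun i : S => eps (i : ℕ)).ker ≃* (P : Subgroup (alternatingGroup (Fin n)))) := by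
  classical
  haveI : Fact (Nat.Prime 2) := ⟨Nat.prime_two⟩
  haveI : Nontrivial (Fin n) := Fin.nontrivial_iff_two_le.2 hn
  let e : (Fin r ⊕ Σ i : S, X i) ≃ Fin n := Fintype.equivFinOfCardEq (by
    rw [Fintype.card_sum, Fintype.card_sigma, Fintype.card_fin, Finset.sum_congr rfl fun i _ => card_X _, hsum]
    rw [Finset.sum_coe_sort S fun i => 2 ^ i])
  let Φ : (∀ i : S, W (i : ℕ)) →* Perm (Fin n) :=
    e.permCongrHom.toMonoidHom.comp ((sumCongrHom (Fin r) (Σ i : S, X i)).comp
      ((MonoidHom.inr (Perm (Fin r)) (Perm (Σ i : S, X i))).comp ((sigmaCongrRightHom fun i : S => X i).comp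
        (MonoidHom.piMap fun i : S => (W (i : ℕ)).subtype))))
  have hΦ : Function.Injective Φ := by
    refine e.permCongrHom.injective.comp (sumCongrHom_injective.comp ?_)
    intro a b h
    have h' := sigmaCongrRightHom_injective (congrArg Prod.snd h)
    exact funext fun i => Subtype.ext (congrFun h' i)
  have hsign : ∀ x, sign (Φ x) = sgn (fun i : S => eps (i : ℕ)) x := fun x => by
    show sign (e.permCongr (Equiv.sumCongr 1 (sigmaCongrRightHom (fun i : S => X i) fun i => (x i : Perm (X i))))) = _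
    rw [sign_permCongr, sign_sumCongr, map_one, one_mul, sign_sigma, sgn_apply]
    rfl
  let ψ : (sgn fun i : S => eps (i : ℕ)).ker →* alternatingGroup (Fin n) :=
    (Φ.comp (sgn fun i : S => eps (i : ℕ)).ker.subtype).codRestrict _ fun x =>
      mem_alternatingGroup.2 ((hsign x.1).trans x.2)
  have hψ : Function.Injective ψ := fun a b h => Subtype.ext (hΦ (congrArg Subtype.val h))
  have hsurj : Function.Surjective (sgn fun i : S => eps (i : ℕ)) := fun u => by
    rcases Int.units_eq_one_or u with rfl | rfl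
    · exact ⟨1, map_one _⟩
    · obtain ⟨i, hi⟩ := hne
      obtain ⟨-, g, hg, hgs⟩ := W_props i (hS i hi)
      exact ⟨Pi.mulSingle (⟨i, hi⟩ : S) ⟨g, hg⟩, (sgn_mulSingle _ _ _).trans hgs⟩
  have hker := Subgroup.card_eq_card_quotient_mul_card_subgroup (sgn fun i : S => eps (i : ℕ)).ker
  rw [Nat.card_congr (QuotientGroup.quotientKerEquivOfSurjective _ hsurj).toEquiv,
    show Nat.card ℤˣ = 2 by rw [Nat.card_eq_fintype_card]; rfl, Nat.card_pi] at hker
  have hprod : (∏ i : S, Nat.card (W (i : ℕ))) * 2 ^ S.card = 2 ^ (∑ i ∈ S, 2 ^ i) := by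
    rw [← Finset.prod_pow_eq_pow_sum, ← Fintype.card_coe S, ← Finset.card_univ, ← Finset.prod_const,
      ← Finset.prod_mul_distrib, ← Finset.prod_coe_sort S fun i => 2 ^ 2 ^ i]
    exact Finset.prod_congr rfl fun i _ => card_W _
  have hP := PermNilp.card_sylow_alt hn P
  rw [← hv, pow_add, hker, ← hP] at hprod
  have hcard : Nat.card (sgn fun i : S => eps (i : ℕ)).ker = Nat.card P := by
    have := Nat.eq_of_mul_eq_mul_right (Nat.two_pow_pos S.card) hprod
    omega
  let Q : Sylow 2 (alternatingGroup (Fin n)) := Sylow.ofCard ψ.range (by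
    rw [← P.card_eq_multiplicity, ← hcard]
    exact (Nat.card_congr (MonoidHom.ofInjective hψ).toEquiv).symm)
  exact ⟨(MonoidHom.ofInjective hψ).trans (Q.equiv P)⟩

theorem not_dec_single (k : ℕ) (hk : 2 ≤ k) : ¬ Dec (W k) := by
  obtain ⟨⟨z, hz, -, hu⟩, -⟩ := W_props k (by omega)
  refine not_dec_of_unique_central (isPGroup_W k) ⟨z, hz⟩ fun x hx => ?_
  rcases hu x.1 x.2 fun g hg => congrArg Subtype.val (hx ⟨g, hg⟩) with h | h
  · exact Or.inl (Subtype.ext h)
  · exact Or.inr (Subtype.ext h)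

/-- A product over a singleton. -/
noncomputable def uniqueEquiv {κ : Type*} {V : κ → Type*} [∀ k, Group (V k)] (a : κ) (ha : ∀ k, k = a) :
    (∀ k, V k) ≃* V a :=
  MulEquiv.ofBijective (Pi.evalMonoidHom V a)
    ⟨fun x y h => funext fun k => by obtain rfl := ha k; exact h,
      fun v => by classical exact ⟨Pi.mulSingle a v, Pi.mulSingle_eq_same a v⟩⟩

theorem not_dec_ker_single (k : ℕ) (hk : 3 ≤ k) : ¬ Dec (eps k).ker := by
  obtain ⟨j, rfl⟩ : ∃ j, k = j + 2 := ⟨k - 2, by omega⟩
  obtain ⟨z, hz⟩ := central_even j (by omega)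
  by_cases hzs : eps _ z = 1
  · refine not_dec_of_unique_central ((isPGroup_W _).to_subgroup _) ⟨z, hzs⟩ fun x hx => ?_
    rcases hz x.1 x.2 fun g hg => congrArg Subtype.val (hx ⟨g, hg⟩) with h | h
    · exact Or.inl (Subtype.ext h)
    · exact Or.inr (Subtype.ext h)
  · refine not_dec_of_unique_central ((isPGroup_W _).to_subgroup _) 1 fun x hx => ?_
    rcases hz x.1 x.2 fun g hg => congrArg Subtype.val (hx ⟨g, hg⟩) with h | h
    · exact Or.inl (Subtype.ext h)
    · exact absurd (h ▸ x.2) hzs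

theorem ker_singleton {S : Finset ℕ} {k : ℕ} (hk : k ∈ S) (h1 : ∀ i ∈ S, i = k) :
    Nonempty ((sgn fun i : S => eps (i : ℕ)).ker ≃* (eps k).ker) := by
  classical
  let E := uniqueEquiv (V := fun i : S => W (i : ℕ)) (⟨k, hk⟩ : S) fun i => Subtype.ext (h1 i i.2)
  have hE : ∀ x, sgn (fun i : S => eps (i : ℕ)) x = eps k (E x) := fun x => by
    rw [sgn_apply, Finset.prod_eq_single (⟨k, hk⟩ : S) (fun i _ hi => absurd (Subtype.ext (h1 i i.2)) hi)
      (fun h => absurd (Finset.mem_univ _) h)]
    rfl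
  refine ⟨(E.subgroupMap _).trans (MulEquiv.subgroupCongr ?_)⟩
  refine le_antisymm ?_ fun y hy => ?_
  · rintro _ ⟨x, hx, rfl⟩
    exact (hE x).symm.trans hx
  · obtain ⟨x, rfl⟩ := E.surjective y
    exact ⟨x, (hE x).trans hy, rfl⟩

/-- Direct decomposability. -/
theorem dec_iff_degree {n : ℕ} (hn : 4 ≤ n) (P : Sylow 2 (alternatingGroup (Fin n))) :
    Dec (P : Subgroup (alternatingGroup (Fin n))) ↔
      (n = 4 ∨ n = 5 ∨ ((n % 4 = 2 ∨ n % 4 = 3) ∧ ∀ r : ℕ, 4 * (n / 4) ≠ 2 ^ r)) := by
  classical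
  obtain ⟨S, r, hr, hS, hsum, hv, h1⟩ := exists_bits n
  have hne : S.Nonempty := by
    by_contra h
    rw [Finset.not_nonempty_iff_eq_empty] at h
    rw [h, Finset.sum_empty] at hsum
    omega
  obtain ⟨E⟩ := exists_equiv (by omega) P hS hsum hv hne
  rw [← dec_iff E]
  set S2 := S.erase 1 with hS2
  have hS2mem : ∀ i ∈ S2, 2 ≤ i := fun i hi => by
    have := hS i (Finset.mem_of_mem_erase hi)
    have := Finset.ne_of_mem_erase hi
    omega
  have hdvd4 : 4 ∣ ∑ i ∈ S2, 2 ^ i := Finset.dvd_sum fun i hi => by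
    have h := Nat.pow_dvd_pow 2 (hS2mem i hi)
    simpa using h
  have hcardS2 : S2.card = 1 ↔ ∃ k : ℕ, ∑ i ∈ S2, 2 ^ i = 2 ^ k := by
    constructor
    · intro h
      obtain ⟨k, hk⟩ := Finset.card_eq_one.1 h
      exact ⟨k, by rw [hk, Finset.sum_singleton]⟩
    · rintro ⟨k, hk⟩
      have : S2 = {k} := Finset.geomSum_injective le_rfl (by
        show ∑ i ∈ S2, 2 ^ i = ∑ i ∈ ({k} : Finset ℕ), 2 ^ i
        rw [hk, Finset.sum_singleton])
      rw [this, Finset.card_singleton]
  have hgood : ∀ i, 2 ≤ i → Good (eps i) := fun i hi => by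
    obtain ⟨j, rfl⟩ : ∃ j, i = j + 1 := ⟨i - 1, by omega⟩
    exact good_W j (by omega)
  by_cases hmem : 1 ∈ S
  · have hn2 := h1.1 hmem
    have hsum2 : ∑ i ∈ S2, 2 ^ i + 2 = ∑ i ∈ S, 2 ^ i := by
      rw [hS2, ← Finset.sum_erase_add S _ hmem, pow_one]
    have hdiv : 4 * (n / 4) = ∑ i ∈ S2, 2 ^ i := by omega
    obtain ⟨-, τ, hτW, hτ⟩ := W_props 1 le_rfl
    have hW1 : Nat.card (W 1) = 2 := by have := card_W 1; omega
    have hbij : Function.Injective (eps 1) := by
      refine Function.Bijective.injective ((Nat.bijective_iff_surjective_and_card _).2 ⟨fun u => ?_, ?_⟩)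
      · rcases Int.units_eq_one_or u with rfl | rfl
        · exact ⟨1, map_one _⟩
        · exact ⟨⟨τ, hτW⟩, hτ⟩
      · rw [hW1, Nat.card_eq_fintype_card (α := ℤˣ)]; rfl
    have hcomm : ∀ g : W 1, g * ⟨τ, hτW⟩ = ⟨τ, hτW⟩ * g := fun g => hbij (by rw [map_mul, map_mul, mul_comm])
    rw [dec_iff (kerEquiv (ε := fun i : S => eps (i : ℕ)) (⟨1, hmem⟩ : S) ⟨τ, hτW⟩ hτ hcomm hbij)]
    rcases Nat.lt_or_ge 1 S2.card with h2 | h2
    · obtain ⟨a, ha, b, hb, hab⟩ := Finset.one_lt_card.1 h2
      have hnontriv : ∀ i ∈ S2, ∃ g : W i, g ≠ 1 := fun i hi => by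
        obtain ⟨-, g, hg, hgs⟩ := W_props i (by have := hS2mem i hi; omega)
        refine ⟨⟨g, hg⟩, fun h => ?_⟩
        rw [show g = 1 from congrArg Subtype.val h, map_one] at hgs
        exact absurd hgs (by decide)
      refine iff_of_true (dec_pi ⟨⟨a, Finset.mem_of_mem_erase ha⟩, fun h => Finset.ne_of_mem_erase ha (congrArg Subtype.val h)⟩
        ⟨⟨b, Finset.mem_of_mem_erase hb⟩, fun h => Finset.ne_of_mem_erase hb (congrArg Subtype.val h)⟩
        (fun h => hab (congrArg (fun x : {i : S // i ≠ ⟨1, hmem⟩} => ((x.1 : S) : ℕ)) h)) (hnontriv a ha) (hnontriv b hb))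
        (Or.inr (Or.inr ⟨by omega, fun r hr' => ?_⟩))
      have := hcardS2.2 ⟨r, hdiv ▸ hr'⟩
      omega
    · have hne2 : S2.Nonempty := by
        by_contra h
        rw [Finset.not_nonempty_iff_eq_empty] at h
        rw [h, Finset.sum_empty] at hsum2
        omega
      have hc1 : S2.card = 1 := by have := hne2.card_pos; omega
      obtain ⟨k, hk⟩ := Finset.card_eq_one.1 hc1
      have hkmem : k ∈ S2 := hk ▸ Finset.mem_singleton_self k
      refine iff_of_false (fun h => not_dec_single k (hS2mem k hkmem) (h.of_equiv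
        (uniqueEquiv (⟨⟨k, Finset.mem_of_mem_erase hkmem⟩, fun h => Finset.ne_of_mem_erase hkmem (congrArg Subtype.val h)⟩ :
          {i : S // i ≠ ⟨1, hmem⟩}) fun x => ?_))) ?_
      · have hx : ((x.1 : S) : ℕ) ∈ S2 := Finset.mem_erase.2 ⟨fun h => x.2 (Subtype.ext h), x.1.2⟩
        rw [hk, Finset.mem_singleton] at hx
        exact Subtype.ext (Subtype.ext hx)
      · rintro (h | h | ⟨-, h⟩)
        · omega
        · omega
        · exact h k (by rw [hdiv, hk, Finset.sum_singleton])
  · have hn2 : ¬ 2 ≤ n % 4 := fun h => hmem (h1.2 h)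
    have hSeq : S2 = S := Finset.erase_eq_of_notMem hmem
    rw [hSeq] at hS2mem hcardS2 hdvd4
    rcases Nat.lt_or_ge 1 S.card with h2 | h2
    · refine iff_of_false (not_dec_ker (fun i : S => isPGroup_W i) (fun i => hgood i (hS2mem i i.2)) fun i => ?_) ?_
      · obtain ⟨a, ha, hai⟩ := Finset.exists_mem_ne h2 (i : ℕ)
        exact ⟨⟨a, ha⟩, fun h => hai (congrArg Subtype.val h)⟩
      · rintro (h | h | ⟨h, -⟩)
        · have := hcardS2.2 ⟨2, by omega⟩; omega
        · have := hcardS2.2 ⟨2, by omega⟩; omega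
        · omega
    · obtain ⟨k, hk⟩ := Finset.card_eq_one.1 (show S.card = 1 by have := hne.card_pos; omega)
      have hkmem : k ∈ S := hk ▸ Finset.mem_singleton_self k
      obtain ⟨E'⟩ := ker_singleton hkmem fun i hi => by rwa [hk, Finset.mem_singleton] at hi
      rw [dec_iff E']
      rw [hk, Finset.sum_singleton] at hsum
      have hk2 := hS2mem k hkmem
      rcases Nat.lt_or_ge k 3 with hk3 | hk3
      · obtain rfl : k = 2 := by omega
        exact iff_of_true dec_four (by omega)
      · refine iff_of_false (not_dec_ker_single k hk3) ?_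
        have : 2 ^ 3 ≤ 2 ^ k := Nat.pow_le_pow_right (by norm_num) hk3
        rintro (h | h | ⟨h, -⟩) <;> omega

/-- The condition of an internal product. -/
theorem internal_iff {G : Type*} [Group G] (P : Subgroup G) :
    (∃ S₁ S₂ : Subgroup G, S₁ ≠ ⊥ ∧ S₂ ≠ ⊥ ∧ Cfsg.IsInternalDirectProduct S₁ S₂ P) ↔ Dec P := by
  constructor
  · rintro ⟨A, B, hA, hB, hAP, hBP, hc, hi, hs⟩
    refine ⟨A.subgroupOf P, B.subgroupOf P, ?_, ?_, ?_, ?_, ?_⟩
    · rwa [Ne, Subgroup.subgroupOf_eq_bot, disjoint_iff, inf_eq_left.2 hAP]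
    · rwa [Ne, Subgroup.subgroupOf_eq_bot, disjoint_iff, inf_eq_left.2 hBP]
    · intro a ha b hb
      exact Subtype.ext (hc _ ha _ hb)
    · rw [Subgroup.eq_bot_iff_forall]
      rintro x ⟨hxA, hxB⟩
      have : (x : G) ∈ A ⊓ B := ⟨hxA, hxB⟩
      rw [hi, Subgroup.mem_bot] at this
      exact Subtype.ext this
    · rw [← Subgroup.subgroupOf_sup hAP hBP, hs, Subgroup.subgroupOf_self]
  · rintro ⟨A, B, hA, hB, hc, hi, hs⟩
    refine ⟨A.map P.subtype, B.map P.subtype, ?_, ?_, Subgroup.map_subtype_le A, Subgroup.map_subtype_le B,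
      ?_, ?_, ?_⟩
    · rwa [Ne, Subgroup.map_eq_bot_iff_of_injective _ P.subtype_injective]
    · rwa [Ne, Subgroup.map_eq_bot_iff_of_injective _ P.subtype_injective]
    · rintro _ ⟨a, ha, rfl⟩ _ ⟨b, hb, rfl⟩
      rw [← map_mul, ← map_mul, hc a ha b hb]
    · rw [← Subgroup.map_inf _ _ _ P.subtype_injective, hi, Subgroup.map_bot]
    · rw [← Subgroup.map_sup, hs, ← MonoidHom.range_eq_map, Subgroup.range_subtype]

end Cfsg.Agent.SylDecomp
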