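import Mathlib

/-!
Indecomposability of the kernel of a product of signs on a product of two-groups, abstractly.
-/

set_option autoImplicit false

namespace Cfsg.Agent.SylDecomp

/-- A group that is a direct product of two non-trivial subgroups. -/
def Dec (G : Type*) [Group G] : Prop :=
  ∃ A B : Subgroup G, A ≠ ⊥ ∧ B ≠ ⊥ ∧ (∀ a ∈ A, ∀ b ∈ B, a * b = b * a) ∧ A ⊓ B = ⊥ ∧ A ⊔ B = ⊤

theorem Dec.of_equiv {G H : Type*} [Group G] [Group H] (e : G ≃* H) (h : Dec G) : Dec H := by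
  obtain ⟨A, B, hA, hB, hc, hi, hs⟩ := h
  refine ⟨A.map e.toMonoidHom, B.map e.toMonoidHom, ?_, ?_, ?_, ?_, ?_⟩
  · rwa [Ne, Subgroup.map_eq_bot_iff_of_injective _ e.injective]
  · rwa [Ne, Subgroup.map_eq_bot_iff_of_injective _ e.injective]
  · rintro _ ⟨a, ha, rfl⟩ _ ⟨b, hb, rfl⟩
    rw [← map_mul, ← map_mul, hc a ha b hb]
  · rw [← Subgroup.map_inf _ _ _ e.injective, hi, Subgroup.map_bot]
  · rw [← Subgroup.map_sup, hs, Subgroup.map_top_of_surjective _ e.surjective]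

theorem dec_iff {G H : Type*} [Group G] [Group H] (e : G ≃* H) : Dec G ↔ Dec H :=
  ⟨Dec.of_equiv e, Dec.of_equiv e.symm⟩

theorem mul_decomp {G : Type*} [Group G] {A B : Subgroup G} (hc : ∀ a ∈ A, ∀ b ∈ B, a * b = b * a)
    (hs : A ⊔ B = ⊤) (x : G) : ∃ a ∈ A, ∃ b ∈ B, x = a * b := by
  let K : Subgroup G :=
    { carrier := {x | ∃ a ∈ A, ∃ b ∈ B, x = a * b}
      one_mem' := ⟨1, one_mem _, 1, one_mem _, (mul_one 1).symm⟩
      mul_mem' := fun {x y} ⟨a, ha, b, hb, hx⟩ ⟨a', ha', b', hb', hy⟩ =>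
        ⟨a * a', mul_mem ha ha', b * b', mul_mem hb hb', by
          rw [hx, hy, mul_assoc, ← mul_assoc b, ← hc a' ha' b hb, mul_assoc, ← mul_assoc a]⟩
      inv_mem' := fun {x} ⟨a, ha, b, hb, hx⟩ => ⟨a⁻¹, inv_mem ha, b⁻¹, inv_mem hb, by
        rw [hx, mul_inv_rev]; exact (hc _ (inv_mem ha) _ (inv_mem hb)).symm⟩ }
  have hK : A ⊔ B ≤ K := sup_le (fun a ha => ⟨a, ha, 1, one_mem _, (mul_one a).symm⟩)
    fun b hb => ⟨1, one_mem _, b, hb, (one_mul b).symm⟩
  exact hK (hs ▸ Subgroup.mem_top x)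

theorem conj_mem {G : Type*} [Group G] {A B : Subgroup G} (hc : ∀ a ∈ A, ∀ b ∈ B, a * b = b * a)
    (hs : A ⊔ B = ⊤) {a : G} (ha : a ∈ A) (g : G) : g * a * g⁻¹ ∈ A := by
  obtain ⟨u, hu, v, hv, rfl⟩ := mul_decomp hc hs g
  rw [show u * v * a * (u * v)⁻¹ = u * (v * a * v⁻¹) * u⁻¹ by group, ← hc a ha v hv, mul_inv_cancel_right]
  exact mul_mem (mul_mem hu ha) (inv_mem hu)

theorem exists_central_mem {G : Type*} [Group G] [Finite G] {p : ℕ} [Fact p.Prime] (hG : IsPGroup p G)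
    (N : Subgroup G) (hN : N ≠ ⊥) (hn : ∀ a ∈ N, ∀ g : G, g * a * g⁻¹ ∈ N) :
    ∃ x ∈ N, x ≠ 1 ∧ ∀ g : G, g * x = x * g := by
  letI : MulAction G N :=
    { smul := fun g a => ⟨g * a.1 * g⁻¹, hn a.1 a.2 g⟩
      one_smul := fun a => Subtype.ext (show (1 : G) * a.1 * 1⁻¹ = a.1 by group)
      mul_smul := fun g h a => Subtype.ext (show g * h * a.1 * (g * h)⁻¹ = g * (h * a.1 * h⁻¹) * g⁻¹ by group) }
  have hd : p ∣ Nat.card N := by
    obtain ⟨m, hm⟩ := IsPGroup.iff_card.1 (hG.to_subgroup N)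
    refine hm ▸ dvd_pow_self p fun h0 => hN (Subgroup.eq_bot_of_card_eq _ (by rw [hm, h0, pow_zero]))
  obtain ⟨x, hx, hne⟩ := hG.exists_fixed_point_of_prime_dvd_card_of_fixed_point N hd (a := (1 : N))
    fun g => Subtype.ext (show g * 1 * g⁻¹ = 1 by group)
  exact ⟨x.1, x.2, fun h => hne (Subtype.ext h.symm), fun g => mul_inv_eq_iff_eq_mul.1 (congrArg Subtype.val (hx g))⟩

theorem not_dec_of_unique_central {G : Type*} [Group G] [Finite G] (hG : IsPGroup 2 G) (z : G)
    (hz : ∀ x : G, (∀ g : G, g * x = x * g) → x = 1 ∨ x = z) : ¬ Dec G := by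
  rintro ⟨A, B, hA, hB, hc, hi, hs⟩
  haveI : Fact (Nat.Prime 2) := ⟨Nat.prime_two⟩
  obtain ⟨x, hxA, hx1, hxc⟩ := exists_central_mem hG A hA fun a ha g => conj_mem hc hs ha g
  obtain ⟨y, hyB, hy1, hyc⟩ := exists_central_mem hG B hB fun b hb g =>
    conj_mem (fun b hb a ha => (hc a ha b hb).symm) (by rwa [sup_comm]) hb g
  have e1 := (hz x hxc).resolve_left hx1
  have e2 := (hz y hyc).resolve_left hy1
  have hmem : x ∈ A ⊓ B := ⟨hxA, by rw [e1, ← e2]; exact hyB⟩
  rw [hi] at hmem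
  exact hx1 hmem

/-- The properties of a Sylow two-subgroup of the symmetric group of two-power degree. -/
structure Good {G : Type*} [Group G] (ε : G →* ℤˣ) : Prop where
  cen : ∃ z : G, ε z = 1 ∧ (∀ x : G, (∀ g : G, g * x = x * g) → x = 1 ∨ x = z)
  odd : ∃ g : G, ε g = -1
  centralizer : ∀ x : G, (∀ y : G, ε y = 1 → x * y = y * x) → ε x = 1
  noncentral : ∃ y : G, ε y = 1 ∧ ∃ g : G, g * y ≠ y * g

section Product

variable {ι : Type*} [Fintype ι] [DecidableEq ι] {W : ι → Type*} [∀ i, Group (W i)] [∀ i, Finite (W i)]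
  (ε : ∀ i, W i →* ℤˣ)

/-- The product of the signs. -/
def sgn : (∀ i, W i) →* ℤˣ where
  toFun x := ∏ i, ε i (x i)
  map_one' := by simp
  map_mul' x y := by simp [Finset.prod_mul_distrib]

theorem sgn_apply (x : ∀ i, W i) : sgn ε x = ∏ i, ε i (x i) := rfl

theorem sgn_mulSingle (i : ι) (g : W i) : sgn ε (Pi.mulSingle i g) = ε i g := by
  rw [sgn_apply, Finset.prod_eq_single i (fun j _ hj => by rw [Pi.mulSingle_eq_of_ne hj, map_one])
    (fun h => absurd (Finset.mem_univ i) h), Pi.mulSingle_eq_same]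

variable {ε}

/-- The kernel is indecomposable when there are at least two factors. -/
theorem not_dec_ker (h2 : ∀ i, IsPGroup 2 (W i)) (hgood : ∀ i, Good (ε i)) (htwo : ∀ i : ι, ∃ j : ι, j ≠ i) :
    ¬ Dec (sgn ε).ker := by
  classical
  rintro ⟨A, B, hA, hB, hc, hi, hs⟩
  haveI : Fact (Nat.Prime 2) := ⟨Nat.prime_two⟩
  have hG : IsPGroup 2 (∀ i, W i) := by
    intro x
    choose k hk using fun i => h2 i (x i)
    refine ⟨Finset.univ.sup k, funext fun i => ?_⟩
    obtain ⟨c, hc'⟩ := Nat.pow_dvd_pow 2 (Finset.le_sup (f := k) (Finset.mem_univ i))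
    rw [Pi.pow_apply, hc', pow_mul, hk, one_pow, Pi.one_apply]
  have hP : IsPGroup 2 (sgn ε).ker := hG.to_subgroup _
  -- every element of a factor lifts
  have hlift : ∀ i (g : W i), ∃ x : (sgn ε).ker, x.1 i = g := by
    intro i g
    obtain ⟨j, hj⟩ := htwo i
    rcases Int.units_eq_one_or (ε i g) with h | h
    · exact ⟨⟨Pi.mulSingle i g, by rw [MonoidHom.mem_ker, sgn_mulSingle, h]⟩, Pi.mulSingle_eq_same i g⟩
    · obtain ⟨o, ho⟩ := (hgood j).odd
      refine ⟨⟨Pi.mulSingle i g * Pi.mulSingle j o, by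
        rw [MonoidHom.mem_ker, map_mul, sgn_mulSingle, sgn_mulSingle, h, ho]; rfl⟩, ?_⟩
      show (Pi.mulSingle i g : ∀ i, W i) i * (Pi.mulSingle j o : ∀ i, W i) i = g
      rw [Pi.mulSingle_eq_same, Pi.mulSingle_eq_of_ne (Ne.symm hj), mul_one]
  choose z hz hzc using fun i => (hgood i).cen
  -- the central element of a factor
  let zb : ι → (sgn ε).ker := fun i => ⟨Pi.mulSingle i (z i), by rw [MonoidHom.mem_ker, sgn_mulSingle, hz]⟩
  let K : ι → Subgroup (sgn ε).ker := fun i =>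
    { carrier := {x | ∀ j, j ≠ i → x.1 j = 1}
      one_mem' := fun j _ => rfl
      mul_mem' := fun {x y} hx hy j hj => by
        show x.1 j * y.1 j = 1
        rw [hx j hj, hy j hj, one_mul]
      inv_mem' := fun {x} hx j hj => by
        show (x.1 j)⁻¹ = 1
        rw [hx j hj, inv_one] }
  have hKn : ∀ i, ∀ x ∈ K i, ∀ g : (sgn ε).ker, g * x * g⁻¹ ∈ K i := fun i x hx g j hj => by
    show g.1 j * x.1 j * (g.1 j)⁻¹ = 1
    rw [hx j hj]; group
  have hKc : ∀ i, ∀ x ∈ K i, (∀ g, g * x = x * g) → x = 1 ∨ x = zb i := by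
    intro i x hx hxc
    have hxi := hzc i (x.1 i) fun g => by
      obtain ⟨y, rfl⟩ := hlift i g
      exact congrArg (fun u : (sgn ε).ker => u.1 i) (hxc y)
    have hext : ∀ w : W i, x.1 i = w → x.1 = Pi.mulSingle i w := fun w hw => funext fun j => by
      rcases eq_or_ne j i with rfl | hj
      · rw [hw, Pi.mulSingle_eq_same]
      · rw [hx j hj, Pi.mulSingle_eq_of_ne hj]
    rcases hxi with h | h
    · exact Or.inl (Subtype.ext ((hext _ h).trans (Pi.mulSingle_one i)))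
    · exact Or.inr (Subtype.ext (hext _ h))
  have hKB : ∀ i, (∀ x ∈ K i, ∀ b ∈ B, x * b = b * x) ∨ (∀ x ∈ K i, ∀ a ∈ A, x * a = a * x) := by
    intro i
    have hcomm : ∀ {C : Subgroup (sgn ε).ker}, (∀ c ∈ C, ∀ g, g * c * g⁻¹ ∈ C) → K i ⊓ C = ⊥ →
        ∀ x ∈ K i, ∀ c ∈ C, x * c = c * x := by
      intro C hC hbot x hx c hc'
      have hmem : x * c * x⁻¹ * c⁻¹ ∈ K i ⊓ C := ⟨by
        rw [mul_assoc x c, mul_assoc x (c * x⁻¹)]
        exact (K i).mul_mem hx (hKn i _ ((K i).inv_mem hx) c), C.mul_mem (hC c hc' x) (C.inv_mem hc')⟩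
      rw [hbot, Subgroup.mem_bot, mul_inv_eq_one, mul_inv_eq_iff_eq_mul] at hmem
      exact hmem
    have hBn : ∀ b ∈ B, ∀ g, g * b * g⁻¹ ∈ B :=
      fun b hb g => conj_mem (fun b hb a ha => (hc a ha b hb).symm) (by rwa [sup_comm]) hb g
    by_cases hAi : K i ⊓ A = ⊥
    · exact Or.inr (hcomm (fun a ha g => conj_mem hc hs ha g) hAi)
    · refine Or.inl (hcomm hBn ?_)
      by_contra hBi
      obtain ⟨x, hx, hx1, hxc⟩ := exists_central_mem hP (K i ⊓ A) hAi fun a ha g =>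
        ⟨hKn i a ha.1 g, conj_mem hc hs ha.2 g⟩
      obtain ⟨y, hy, hy1, hyc⟩ := exists_central_mem hP (K i ⊓ B) hBi fun b hb g =>
        ⟨hKn i b hb.1 g, hBn b hb.2 g⟩
      have e1 := (hKc i x hx.1 hxc).resolve_left hx1
      have e2 := (hKc i y hy.1 hyc).resolve_left hy1
      have hmem : x ∈ A ⊓ B := ⟨hx.2, by rw [e1, ← e2]; exact hy.2⟩
      rw [hi] at hmem
      exact hx1 hmem
  have heven : ∀ i, ∀ c : (sgn ε).ker, (∀ x ∈ K i, x * c = c * x) → ε i (c.1 i) = 1 := by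
    intro i c hcom
    refine (hgood i).centralizer _ fun y hy => ?_
    have h := hcom ⟨Pi.mulSingle i y, by rw [MonoidHom.mem_ker, sgn_mulSingle, hy]⟩
      fun j hj => Pi.mulSingle_eq_of_ne hj y
    have h' := congrArg (fun u : (sgn ε).ker => u.1 i) h
    simp only [Subgroup.coe_mul, Pi.mul_apply, Pi.mulSingle_eq_same] at h'
    exact h'.symm
  -- all factors have the same type
  have hall : (∀ i, ∀ x ∈ K i, ∀ b ∈ B, x * b = b * x) ∨ (∀ i, ∀ x ∈ K i, ∀ a ∈ A, x * a = a * x) := by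
    by_contra hcon
    push Not at hcon
    obtain ⟨⟨i, x, hx, b0, hb0, hne⟩, j, y, hy, a0, ha0, hne'⟩ := hcon
    have hiA : ∀ x ∈ K i, ∀ a ∈ A, x * a = a * x := (hKB i).resolve_left fun h => hne (h x hx b0 hb0)
    have hjB : ∀ y ∈ K j, ∀ b ∈ B, y * b = b * y := (hKB j).resolve_right fun h => hne' (h y hy a0 ha0)
    have hij : i ≠ j := by
      rintro rfl
      exact hne (hjB x hx b0 hb0)
    obtain ⟨oi, hoi⟩ := (hgood i).odd
    obtain ⟨oj, hoj⟩ := (hgood j).odd
    let g : (sgn ε).ker := ⟨Pi.mulSingle i oi * Pi.mulSingle j oj, by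
      rw [MonoidHom.mem_ker, map_mul, sgn_mulSingle, sgn_mulSingle, hoi, hoj]; rfl⟩
    obtain ⟨a, ha, b, hb, hab⟩ := mul_decomp hc hs g
    have hpar : ∀ k, ε k (g.1 k) = ε k (a.1 k) * ε k (b.1 k) := fun k => by rw [hab]; exact map_mul _ _ _
    have ha_par : ∀ k, k ≠ j → ε k (a.1 k) = 1 := fun k hk => by
      rcases hKB k with h | h
      · rcases eq_or_ne k i with rfl | hki
        · exact heven _ a fun x hx => hiA x hx a ha
        · have h1 := hpar k
          have hg1 : ε k (g.1 k) = 1 := by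
            show ε k ((Pi.mulSingle i oi : ∀ i, W i) k * (Pi.mulSingle j oj : ∀ i, W i) k) = 1
            rw [Pi.mulSingle_eq_of_ne hki, Pi.mulSingle_eq_of_ne hk, one_mul, map_one]
          rw [hg1, heven _ b fun x hx => h x hx b hb, mul_one] at h1
          exact h1.symm
      · exact heven _ a fun x hx => h x hx a ha
    have hprod : sgn ε a.1 = 1 := a.2
    rw [sgn_apply, Finset.prod_eq_single j (fun k _ hk => ha_par k hk)
      (fun h => absurd (Finset.mem_univ j) h)] at hprod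
    have h2 := hpar j
    rw [hprod, heven _ b fun y hy => hjB y hy b hb, mul_one] at h2
    have hgj : ε j (g.1 j) = -1 := by
      show ε j ((Pi.mulSingle i oi : ∀ i, W i) j * (Pi.mulSingle j oj : ∀ i, W i) j) = -1
      rw [Pi.mulSingle_eq_of_ne (Ne.symm hij), Pi.mulSingle_eq_same, one_mul, hoj]
    rw [hgj] at h2
    exact absurd h2 (by decide)
  -- the factor that centralises the blocks is trivial
  have key : ∀ (A B : Subgroup (sgn ε).ker), (∀ a ∈ A, ∀ b ∈ B, a * b = b * a) → A ⊓ B = ⊥ → A ⊔ B = ⊤ →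
      (∀ i, ∀ x ∈ K i, ∀ b ∈ B, x * b = b * x) → B = ⊥ := by
    intro A B hc hi hs hB'
    rw [Subgroup.eq_bot_iff_forall]
    intro b hb
    have hcen : ∀ i (g : W i), g * b.1 i = b.1 i * g := by
      intro i g
      have heg : ∀ y : W i, ε i y = 1 → y * b.1 i = b.1 i * y := fun y hy => by
        have h := hB' i ⟨Pi.mulSingle i y, by rw [MonoidHom.mem_ker, sgn_mulSingle, hy]⟩
          (fun j hj => Pi.mulSingle_eq_of_ne hj y) b hb
        have h' := congrArg (fun u : (sgn ε).ker => u.1 i) h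
        simp only [Subgroup.coe_mul, Pi.mul_apply, Pi.mulSingle_eq_same] at h'
        exact h'
      obtain ⟨x, rfl⟩ := hlift i g
      obtain ⟨a, ha, b', hb', hx⟩ := mul_decomp hc hs x
      have h1 : ε i (b'.1 i) = 1 := heven i b' fun y hy => hB' i y hy b' hb'
      have h2 := congrArg (fun u : (sgn ε).ker => u.1 i) (hc a ha b hb)
      simp only [Subgroup.coe_mul, Pi.mul_apply] at h2
      rw [hx]
      show a.1 i * b'.1 i * b.1 i = b.1 i * (a.1 i * b'.1 i)
      rw [mul_assoc, heg _ h1, ← mul_assoc, h2, mul_assoc]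
    have hAn : ∀ a ∈ A, ∀ g, g * a * g⁻¹ ∈ A := fun a ha g => conj_mem hc hs ha g
    have hzA : ∀ i, zb i ∈ A := by
      intro i
      obtain ⟨y, hy, g, hgy⟩ := (hgood i).noncentral
      obtain ⟨x, rfl⟩ := hlift i g
      let u : (sgn ε).ker := ⟨Pi.mulSingle i y, by rw [MonoidHom.mem_ker, sgn_mulSingle, hy]⟩
      have hu : u ∈ K i := fun j hj => Pi.mulSingle_eq_of_ne hj y
      have hKA : x * u * x⁻¹ * u⁻¹ ∈ K i ⊓ A := by
        refine ⟨(K i).mul_mem (hKn i u hu x) ((K i).inv_mem hu), ?_⟩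
        obtain ⟨a, ha, b1, hb1, rfl⟩ := mul_decomp hc hs x
        have hbu : b1 * u = u * b1 := (hB' i u hu b1 hb1).symm
        have e : a * b1 * u * (a * b1)⁻¹ * u⁻¹ = a * (u * a⁻¹ * u⁻¹) := by
          rw [mul_assoc a b1 u, hbu]; group
        rw [e]
        exact mul_mem ha (hAn _ (inv_mem ha) u)
      have hne : K i ⊓ A ≠ ⊥ := fun hbot => by
        rw [hbot, Subgroup.mem_bot, mul_inv_eq_one, mul_inv_eq_iff_eq_mul] at hKA
        have := congrArg (fun v : (sgn ε).ker => v.1 i) hKA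
        simp only [Subgroup.coe_mul, Pi.mul_apply, u, Pi.mulSingle_eq_same] at this
        exact hgy this
      obtain ⟨w, hw, hw1, hwc⟩ := exists_central_mem hP (K i ⊓ A) hne fun a ha g =>
        ⟨hKn i a ha.1 g, hAn a ha.2 g⟩
      rw [← (hKc i w hw.1 hwc).resolve_left hw1]
      exact hw.2
    have hbA : ∀ s : Finset ι, ∀ c : (sgn ε).ker, (∀ i ∉ s, c.1 i = 1) → (∀ i g, g * c.1 i = c.1 i * g) → c ∈ A := by
      intro s
      induction s using Finset.induction_on with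
      | empty =>
        intro c h1 _
        rw [show c = 1 from Subtype.ext (funext fun i => h1 i (Finset.notMem_empty i))]
        exact one_mem A
      | insert i s hi' ih =>
        intro c h1 h2
        rcases hzc i (c.1 i) (h2 i) with h | h
        · refine ih c (fun j hj => ?_) h2
          rcases eq_or_ne j i with rfl | hji
          · exact h
          · exact h1 j (by simp [hji, hj])
        · have hc2 : (zb i)⁻¹ * c ∈ A := by
            refine ih _ (fun j hj => ?_) fun j g => ?_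
            · show ((Pi.mulSingle i (z i) : ∀ i, W i) j)⁻¹ * c.1 j = 1
              rcases eq_or_ne j i with rfl | hji
              · rw [Pi.mulSingle_eq_same, h, inv_mul_cancel]
              · rw [Pi.mulSingle_eq_of_ne hji, h1 j (by simp [hji, hj]), inv_one, one_mul]
            · show g * (((Pi.mulSingle i (z i) : ∀ i, W i) j)⁻¹ * c.1 j) =
                ((Pi.mulSingle i (z i) : ∀ i, W i) j)⁻¹ * c.1 j * g
              rcases eq_or_ne j i with rfl | hji
              · rw [Pi.mulSingle_eq_same, h, inv_mul_cancel, mul_one, one_mul]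
              · rw [Pi.mulSingle_eq_of_ne hji, inv_one, one_mul, h2]
          have := mul_mem (hzA i) hc2
          rwa [mul_inv_cancel_left] at this
    have hmem : b ∈ A ⊓ B := ⟨hbA Finset.univ b (fun i hi' => absurd (Finset.mem_univ i) hi') hcen, hb⟩
    rwa [hi, Subgroup.mem_bot] at hmem
  rcases hall with h | h
  · exact hB (key A B hc hi hs h)
  · exact hA (key B A (fun b hb a ha => (hc a ha b hb).symm) (by rwa [inf_comm]) (by rwa [sup_comm]) h)

/-- Splitting off the factor with bijective sign. -/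
noncomputable def kerEquiv (i₀ : ι) (τ : W i₀) (hτ : ε i₀ τ = -1) (hτc : ∀ g, g * τ = τ * g)
    (hinj : Function.Injective (ε i₀)) : (sgn ε).ker ≃* (∀ i : {i // i ≠ i₀}, W i) :=
  MulEquiv.ofBijective
    ({ toFun := fun x i => x.1 i.1
       map_one' := rfl
       map_mul' := fun _ _ => rfl } : (sgn ε).ker →* (∀ i : {i // i ≠ i₀}, W i))
    ⟨by
      intro x y h
      have hne : ∀ i, i ≠ i₀ → x.1 i = y.1 i := fun i hi => congrFun h ⟨i, hi⟩
      refine Subtype.ext (funext fun i => ?_)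
      by_cases hi : i = i₀
      · subst hi
        refine hinj ?_
        have hx : sgn ε x.1 = 1 := x.2
        have hy : sgn ε y.1 = 1 := y.2
        rw [sgn_apply, ← Finset.mul_prod_erase _ _ (Finset.mem_univ i)] at hx hy
        rw [Finset.prod_congr rfl fun j hj => by rw [hne j (Finset.ne_of_mem_erase hj)]] at hx
        exact mul_right_cancel (hx.trans hy.symm)
      · exact hne i hi,
    fun v => by
      classical
      let f : ∀ i, W i := fun i => if h : i = i₀ then 1 else v ⟨i, h⟩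
      have hv : ∀ u : W i₀, ∀ i : {i // i ≠ i₀}, (f * Pi.mulSingle i₀ u : ∀ i, W i) i.1 = v i := fun u i => by
        rw [Pi.mul_apply, Pi.mulSingle_eq_of_ne i.2, mul_one]
        exact dif_neg i.2
      rcases Int.units_eq_one_or (sgn ε f) with h | h
      · exact ⟨⟨f * Pi.mulSingle i₀ 1, by rw [MonoidHom.mem_ker, map_mul, h, sgn_mulSingle, map_one, one_mul]⟩,
          funext (hv 1)⟩
      · exact ⟨⟨f * Pi.mulSingle i₀ τ, by rw [MonoidHom.mem_ker, map_mul, h, sgn_mulSingle, hτ]; rfl⟩,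
          funext (hv τ)⟩⟩

/-- A product with two non-trivial factors is decomposable. -/
theorem dec_pi {κ : Type*} [Fintype κ] [DecidableEq κ] {V : κ → Type*} [∀ i, Group (V i)] (i j : κ) (hij : i ≠ j)
    (hi : ∃ g : V i, g ≠ 1) (hj : ∃ g : V j, g ≠ 1) : Dec (∀ k, V k) := by
  classical
  refine ⟨(MonoidHom.mulSingle V i).range, (Pi.evalMonoidHom V i).ker, ?_, ?_, ?_, ?_, ?_⟩
  · obtain ⟨g, hg⟩ := hi
    rw [Subgroup.ne_bot_iff_exists_ne_one]
    exact ⟨⟨Pi.mulSingle i g, g, rfl⟩, fun h => hg (Pi.mulSingle_eq_one_iff.1 (congrArg Subtype.val h))⟩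
  · obtain ⟨g, hg⟩ := hj
    rw [Subgroup.ne_bot_iff_exists_ne_one]
    exact ⟨⟨Pi.mulSingle j g, Pi.mulSingle_eq_of_ne hij g⟩,
      fun h => hg (Pi.mulSingle_eq_one_iff.1 (congrArg Subtype.val h))⟩
  · rintro _ ⟨g, rfl⟩ b hb
    funext k
    show (Pi.mulSingle i g : ∀ k, V k) k * b k = b k * (Pi.mulSingle i g : ∀ k, V k) k
    rcases eq_or_ne k i with rfl | hk
    · rw [show b k = 1 from hb, mul_one, one_mul]
    · rw [Pi.mulSingle_eq_of_ne hk, mul_one, one_mul]
  · rw [Subgroup.eq_bot_iff_forall]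
    rintro _ ⟨⟨g, rfl⟩, hb⟩
    have : g = 1 := by simpa using hb
    rw [this]; simp
  · rw [eq_top_iff]
    intro x _
    rw [← mul_inv_cancel_left (Pi.mulSingle i (x i)) x]
    refine Subgroup.mul_mem_sup ⟨x i, rfl⟩ ?_
    show ((Pi.mulSingle i (x i) : ∀ k, V k) i)⁻¹ * x i = 1
    rw [Pi.mulSingle_eq_same, inv_mul_cancel]

end Product

end Cfsg.Agent.SylDecomp
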