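import Mathlib
import Cfsg.Agent.Lib.Perm.SylowTwo

/-! Overgroups of Sylow 2-subgroups of symmetric and alternating groups. -/

set_option autoImplicit false
set_option linter.unusedSectionVars false

namespace Cfsg.Agent.SylMax

open Equiv Equiv.Perm

variable {α : Type*} [Fintype α] [DecidableEq α]

/-- Permutations keeping or exchanging a set and its complement. -/
def H (A : Finset α) : Subgroup (Perm α) where
  carrier := {g | (∀ x, g x ∈ A ↔ x ∈ A) ∨ (∀ x, g x ∈ A ↔ x ∉ A)}
  one_mem' := Or.inl fun x => Iff.rfl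
  mul_mem' := by
    intro g g' hg hg'
    simp only [Set.mem_ofPred_eq, Perm.mul_apply] at hg hg' ⊢
    rcases hg with hg | hg <;> rcases hg' with hg' | hg'
    · exact Or.inl fun x => (hg _).trans (hg' x)
    · exact Or.inr fun x => (hg _).trans (hg' x)
    · exact Or.inr fun x => (hg _).trans (not_congr (hg' x))
    · exact Or.inl fun x => (hg _).trans ((not_congr (hg' x)).trans not_not)
  inv_mem' := by
    intro g hg
    simp only [Set.mem_ofPred_eq] at hg ⊢
    rcases hg with hg | hg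
    · exact Or.inl fun x => by
        have h := hg (g⁻¹ x)
        rw [Perm.coe_inv, Equiv.apply_symm_apply] at h
        exact h.symm
    · exact Or.inr fun x => by
        have h := hg (g⁻¹ x)
        rw [Perm.coe_inv, Equiv.apply_symm_apply] at h
        exact ⟨fun h' h'' => (h.1 h'') h', fun h' => by_contra fun h'' => h' (h.2 h'')⟩

theorem mem_H {A : Finset α} {g : Perm α} :
    g ∈ H A ↔ (∀ x, g x ∈ A ↔ x ∈ A) ∨ (∀ x, g x ∈ A ↔ x ∉ A) := Iff.rfl

theorem swap_mem_H {A : Finset α} {x y : α} (h : x ∈ A ↔ y ∈ A) : swap x y ∈ H A := by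
  refine Or.inl fun z => ?_
  rw [swap_apply_def]
  split_ifs with h1 h2
  · rw [h1]; exact h.symm
  · rw [h2]; exact h
  · exact Iff.rfl

theorem H_ne_top {A : Finset α} (hA : 2 ≤ A.card) (hA' : 1 ≤ Aᶜ.card) : H A ≠ ⊤ := by
  intro e
  obtain ⟨a, ha, c, hc, hac⟩ := Finset.one_lt_card.1 hA
  obtain ⟨b, hb⟩ := Finset.card_pos.1 hA'
  rw [Finset.mem_compl] at hb
  have hbc : c ≠ b := fun h => hb (h ▸ hc)
  rcases mem_H.1 (e ▸ Subgroup.mem_top (swap a b)) with h | h
  · exact hb (by simpa using (h a).2 ha)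
  · exact (h c).1 (by rw [swap_apply_of_ne_of_ne (Ne.symm hac) hbc]; exact hc) hc

theorem cent_ne_top {t : Perm α} (ht : t * t = 1) {a c : α} (ha : t a ≠ a) (hca : c ≠ a) (hct : c ≠ t a) :
    Subgroup.centralizer ({t} : Set (Perm α)) ≠ ⊤ := by
  intro e
  have htt : ∀ x, t (t x) = x := fun x => by rw [← Perm.mul_apply, ht]; rfl
  have h := Subgroup.mem_centralizer_singleton_iff.1 (e ▸ Subgroup.mem_top (swap a c))
  have h1 := congrArg (fun g : Perm α => g (t a)) h
  simp only [Perm.mul_apply] at h1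
  rw [htt, swap_apply_left, swap_apply_of_ne_of_ne ha (Ne.symm hct), htt] at h1
  exact hca h1

/-- A subgroup with all transpositions inside two parts and one across is everything. -/
theorem eq_top_of_swaps {J : Subgroup (Perm α)} {A : Finset α}
    (hin : ∀ x y : α, (x ∈ A ↔ y ∈ A) → swap x y ∈ J) {a b : α} (ha : a ∈ A) (hb : b ∉ A)
    (hab : swap a b ∈ J) : J = ⊤ := by
  have key : ∀ x y : α, x ∈ A → y ∉ A → swap x y ∈ J := by
    intro x y hx hy
    set g := swap x a * swap y b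
    have hg : g ∈ J := mul_mem (hin _ _ (iff_of_true hx ha)) (hin _ _ (iff_of_false hy hb))
    have hga : g a = x := by
      simp only [g, Perm.mul_apply]
      rw [swap_apply_of_ne_of_ne (fun h : a = y => hy (h ▸ ha)) (fun h : a = b => hb (h ▸ ha)),
        swap_apply_right]
    have hgb : g b = y := by
      simp only [g, Perm.mul_apply, swap_apply_right]
      rw [swap_apply_of_ne_of_ne (fun h : y = x => hy (h ▸ hx)) (fun h : y = a => hy (h ▸ ha))]
    have e : g * swap a b * g⁻¹ = swap x y := by rw [Equiv.mul_swap_eq_swap_mul, hga, hgb, mul_inv_cancel_right]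
    exact e ▸ mul_mem (mul_mem hg hab) (inv_mem hg)
  rw [eq_top_iff, ← closure_isSwap, Subgroup.closure_le]
  rintro _ ⟨x, y, -, rfl⟩
  by_cases hx : x ∈ A <;> by_cases hy : y ∈ A
  · exact hin x y (iff_of_true hx hy)
  · exact key x y hx hy
  · rw [swap_comm]; exact key y x hy hx
  · exact hin x y (iff_of_false hx hy)

variable {t : Perm α} (ht : t * t = 1) (huniq : ∀ a b, t a = a → t b = b → a = b)
include ht huniq

/-- A point of a set moved by the pairing, other than a given one. -/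
theorem exists_moved {A : Finset α} (hA : 3 ≤ A.card) (z : α) : ∃ a ∈ A, t a ≠ a ∧ a ≠ z := by
  by_contra hne
  push Not at hne
  have h1 : (A.erase z).card ≤ 1 := Finset.card_le_one.2 fun x hx y hy => by
    refine huniq x y ?_ ?_
    · by_contra h; exact Finset.ne_of_mem_erase hx (hne x (Finset.mem_of_mem_erase hx) h)
    · by_contra h; exact Finset.ne_of_mem_erase hy (hne y (Finset.mem_of_mem_erase hy) h)
  have := Finset.pred_card_le_card_erase (a := z) (s := A)
  omega

theorem sup_eq_top_aux {A : Finset α} (hA : 3 ≤ A.card) (hA' : 2 ≤ Aᶜ.card)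
    (hcase : (∀ x, t x ∈ A ↔ x ∈ A) ∨ (4 ≤ A.card ∧ 4 ≤ Aᶜ.card)) :
    H A ⊔ Subgroup.centralizer ({t} : Set (Perm α)) = ⊤ := by
  have htt : ∀ x, t (t x) = x := fun x => by rw [← Perm.mul_apply, ht]; rfl
  obtain ⟨a, ha, hta, -⟩ : ∃ a ∈ A, t a ≠ a ∧ True := by
    obtain ⟨z, hz⟩ := Finset.card_pos.1 (show 0 < A.card by omega)
    obtain ⟨a, ha, h, -⟩ := exists_moved ht huniq hA z
    exact ⟨a, ha, h, trivial⟩
  obtain ⟨b, hb, htb, hbta⟩ : ∃ b ∉ A, t b ≠ b ∧ b ≠ t a := by
    rcases hcase with hinv | ⟨-, h4⟩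
    · obtain ⟨x, hx, y, hy, hxy⟩ := Finset.one_lt_card.1 hA'
      rw [Finset.mem_compl] at hx hy
      have h1 : ∀ u ∉ A, u ≠ t a := fun u hu e => hu (e ▸ (hinv a).2 ha)
      by_cases htx : t x = x
      · exact ⟨y, hy, fun hty => hxy (huniq x y htx hty), h1 y hy⟩
      · exact ⟨x, hx, htx, h1 x hx⟩
    · obtain ⟨b, hb, h1, h2⟩ := exists_moved ht huniq (A := Aᶜ) (by omega) (t a)
      exact ⟨b, Finset.mem_compl.1 hb, h1, h2⟩
  obtain ⟨c, hc, hca, hcta, hctb⟩ : ∃ c ∈ A, c ≠ a ∧ c ≠ t a ∧ c ≠ t b := by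
    rcases hcase with hinv | ⟨h4, -⟩
    · obtain ⟨c, hc, hc'⟩ := Finset.exists_mem_notMem_of_card_lt_card
        (s := ({a, t a} : Finset α)) (t := A) (lt_of_le_of_lt Finset.card_le_two (by omega))
      simp only [Finset.mem_insert, Finset.mem_singleton, not_or] at hc'
      exact ⟨c, hc, hc'.1, hc'.2, fun e => hb ((hinv b).1 (e ▸ hc))⟩
    · obtain ⟨c, hc, hc'⟩ := Finset.exists_mem_notMem_of_card_lt_card
        (s := ({a, t a, t b} : Finset α)) (t := A) (lt_of_le_of_lt Finset.card_le_three (by omega))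
      simp only [Finset.mem_insert, Finset.mem_singleton, not_or] at hc'
      exact ⟨c, hc, hc'.1, hc'.2.1, hc'.2.2⟩
  have hab : a ≠ b := fun e => hb (e ▸ ha)
  have hcb : c ≠ b := fun e => hb (e ▸ hc)
  set g := swap a b * swap (t a) (t b)
  have hg : g ∈ Subgroup.centralizer ({t} : Set (Perm α)) := by
    rw [Subgroup.mem_centralizer_singleton_iff]
    have hd : Commute (swap a b) (swap (t a) (t b)) := by
      refine Equiv.Perm.Disjoint.commute fun x => ?_
      by_cases h1 : x = a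
      · right
        rw [h1, swap_apply_of_ne_of_ne (Ne.symm hta) (fun e => hbta (by rw [e, htt]))]
      by_cases h2 : x = b
      · right
        rw [h2, swap_apply_of_ne_of_ne hbta (Ne.symm htb)]
      · left; exact swap_apply_of_ne_of_ne h1 h2
    calc g * t = swap a b * (swap (t a) (t b) * t) := by simp only [g, mul_assoc]
      _ = swap a b * (t * swap a b) := by rw [Equiv.mul_swap_eq_swap_mul t a b]
      _ = t * (swap (t a) (t b) * swap a b) := by
          rw [← mul_assoc, ← mul_assoc]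
          congr 1
          have e := Equiv.mul_swap_eq_swap_mul t (t a) (t b)
          rw [htt, htt] at e
          exact e.symm
      _ = t * g := by rw [← hd.eq]
  refine eq_top_of_swaps (A := A) (fun x y h => Subgroup.mem_sup_left (swap_mem_H h))
    (a := c) (b := b) hc hb ?_
  have e : g * swap a c * g⁻¹ = swap b c := by
    have h1 : g a = b := by
      simp only [g, Perm.mul_apply]
      rw [swap_apply_of_ne_of_ne (Ne.symm hta) (fun e => hbta (by rw [e, htt])), swap_apply_left]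
    have h2 : g c = c := by
      simp only [g, Perm.mul_apply]
      rw [swap_apply_of_ne_of_ne hcta hctb, swap_apply_of_ne_of_ne hca hcb]
    rw [Equiv.mul_swap_eq_swap_mul, h1, h2, mul_inv_cancel_right]
  rw [swap_comm, ← e]
  exact mul_mem (mul_mem (Subgroup.mem_sup_right hg) (Subgroup.mem_sup_left (swap_mem_H (iff_of_true ha hc))))
    (inv_mem (Subgroup.mem_sup_right hg))

omit ht huniq in
theorem H_compl (A : Finset α) : H Aᶜ = H A := by
  ext g
  simp only [mem_H, Finset.mem_compl, not_not, not_iff_not]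
  refine or_congr Iff.rfl ⟨fun h x => ?_, fun h x => ?_⟩
  · have := h x; tauto
  · have := h x; tauto

theorem sup_eq_top {A : Finset α} (h5 : 5 ≤ Fintype.card α) (hA : 2 ≤ A.card) (hA' : 2 ≤ Aᶜ.card)
    (hcase : (∀ x, t x ∈ A ↔ x ∈ A) ∨ (4 ≤ A.card ∧ 4 ≤ Aᶜ.card)) :
    H A ⊔ Subgroup.centralizer ({t} : Set (Perm α)) = ⊤ := by
  rcases Nat.lt_or_ge A.card 3 with h | h
  · rw [← H_compl]
    refine sup_eq_top_aux ht huniq ?_ (by rwa [compl_compl]) ?_
    · rw [Finset.card_compl]; omega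
    · rcases hcase with hinv | ⟨h4, -⟩
      · exact Or.inl fun x => by simp only [Finset.mem_compl]; exact not_congr (hinv x)
      · omega
  · exact sup_eq_top_aux ht huniq h hA' hcase

omit ht huniq

/-- Either two proper overgroups of a Sylow 2-subgroup generate everything, or there are `2^k + 1` points. -/
theorem two_overgroups (h5 : 5 ≤ Fintype.card α) (P : Sylow 2 (Perm α)) :
    (∃ W₁ W₂ : Subgroup (Perm α), W₁ ≠ ⊤ ∧ W₂ ≠ ⊤ ∧ (P : Subgroup (Perm α)) ≤ W₁ ∧
      (P : Subgroup (Perm α)) ≤ W₂ ∧ W₁ ⊔ W₂ = ⊤) ∨ ∃ k, 2 ≤ k ∧ Fintype.card α = 2 ^ k + 1 := by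
  have : Fact (Nat.Prime 2) := ⟨Nat.prime_two⟩
  obtain ⟨t, htmem, ht, htP, huniq⟩ := SylTwo.exists_pairing P
  have htt : ∀ x, t (t x) = x := fun x => by rw [← Perm.mul_apply, ht]; rfl
  have hPW : (P : Subgroup (Perm α)) ≤ Subgroup.centralizer ({t} : Set (Perm α)) :=
    fun p hp => Subgroup.mem_centralizer_singleton_iff.2 (htP p hp)
  obtain ⟨a, -, hta, -⟩ : ∃ a ∈ (Finset.univ : Finset α), t a ≠ a ∧ True := by
    obtain ⟨z, hz⟩ := Finset.card_pos.1 (show 0 < (Finset.univ : Finset α).card by rw [Finset.card_univ]; omega)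
    obtain ⟨a, ha, h, -⟩ := exists_moved ht huniq (A := Finset.univ) (by rw [Finset.card_univ]; omega) z
    exact ⟨a, ha, h, trivial⟩
  obtain ⟨c, -, hc'⟩ := Finset.exists_mem_notMem_of_card_lt_card
    (s := ({a, t a} : Finset α)) (t := Finset.univ)
    (lt_of_le_of_lt Finset.card_le_two (by rw [Finset.card_univ]; omega))
  simp only [Finset.mem_insert, Finset.mem_singleton, not_or] at hc'
  have hW2 := cent_ne_top ht hta hc'.1 hc'.2
  -- the orbit of `a`
  classical
  set O : Finset α := Finset.univ.filter fun x => ∃ p ∈ P, p a = x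
  have hOt : t a ∈ O := by simp only [O, Finset.mem_filter, Finset.mem_univ, true_and]; exact ⟨t, htmem, rfl⟩
  have haO : a ∈ O := by simp only [O, Finset.mem_filter, Finset.mem_univ, true_and]; exact ⟨1, one_mem _, rfl⟩
  have hO2 : 2 ≤ O.card := Finset.one_lt_card.2 ⟨t a, hOt, a, haO, hta⟩
  have hOinv : ∀ g ∈ P, ∀ x, g x ∈ O ↔ x ∈ O := by
    intro g hg x
    simp only [O, Finset.mem_filter, Finset.mem_univ, true_and]
    constructor
    · rintro ⟨p, hp, e⟩
      exact ⟨g⁻¹ * p, mul_mem (inv_mem hg) hp, by simp [e]⟩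
    · rintro ⟨p, hp, rfl⟩
      exact ⟨g * p, mul_mem hg hp, rfl⟩
  obtain ⟨m, hm⟩ : ∃ m, O.card = 2 ^ m := by
    obtain ⟨m, hm⟩ := P.2.card_orbit a
    refine ⟨m, ?_⟩
    rw [← hm, Nat.card_eq_fintype_card, ← Set.toFinset_card]
    congr 1
    ext x
    simp only [O, Finset.mem_filter, Finset.mem_univ, true_and, Set.mem_toFinset, MulAction.mem_orbit_iff]
    exact ⟨fun ⟨p, hp, e⟩ => ⟨⟨p, hp⟩, e⟩, fun ⟨p, e⟩ => ⟨p.1, p.2, e⟩⟩
  by_cases hcompl : 2 ≤ Oᶜ.card
  · exact Or.inl ⟨H O, _, H_ne_top hO2 (by omega), hW2, fun g hg => Or.inl (hOinv g hg), hPW,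
      sup_eq_top ht huniq h5 hO2 hcompl (Or.inl (hOinv t htmem))⟩
  have hsum : O.card + Oᶜ.card = Fintype.card α := Finset.card_add_card_compl O
  rcases Nat.eq_zero_or_pos Oᶜ.card with h0 | h1
  swap
  · refine Or.inr ⟨m, ?_, by omega⟩
    by_contra hm2
    have := Nat.pow_le_pow_right (show 2 > 0 by omega) (show m ≤ 1 by omega)
    omega
  -- transitive
  have hn : Fintype.card α = 2 ^ m := by omega
  have htrans : ∀ x, ∃ p ∈ P, p a = x := fun x => by
    have hx : x ∈ O := by
      by_contra hx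
      have : 0 < Oᶜ.card := Finset.card_pos.2 ⟨x, Finset.mem_compl.2 hx⟩
      omega
    exact (Finset.mem_filter.1 hx).2
  have hm3 : 3 ≤ m := by
    by_contra hm2
    have := Nat.pow_le_pow_right (show 2 > 0 by omega) (show m ≤ 2 by omega)
    omega
  set G : Subgroup (Perm α) := (P : Subgroup (Perm α))
  set S : Subgroup G := MulAction.stabilizer G a
  have hSidx : S.index = 2 ^ m := by
    rw [MulAction.index_stabilizer, ← hn, Set.ncard_eq_toFinset_card', ← Finset.card_univ]
    congr 1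
    ext x
    simp only [Set.mem_toFinset, Finset.mem_univ, iff_true]
    obtain ⟨p, hp, e⟩ := htrans x
    exact ⟨⟨p, hp⟩, e⟩
  obtain ⟨r, hr⟩ := P.2.exists_card_eq
  have hcard : Nat.card G = 2 ^ r := hr
  obtain ⟨s, hsr, hs⟩ := (Nat.dvd_prime_pow Nat.prime_two).1 (hcard ▸ S.card_subgroup_dvd_card)
  have hprod := S.index_mul_card
  rw [hSidx, hs, hcard, ← pow_add] at hprod
  have hmsr : m + s = r := Nat.pow_right_injective le_rfl hprod
  obtain ⟨K, hK, hSK⟩ := Sylow.exists_subgroup_card_pow_prime_le (G := G) (p := 2) (n := s) (m := m - 1 + s)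
    (hcard ▸ pow_dvd_pow 2 (by omega)) S hs (by omega)
  have hKidx : K.index = 2 := by
    have h2 := K.index_mul_card
    rw [hK, hcard, show r = (m - 1 + s) + 1 by omega, pow_succ'] at h2
    exact Nat.eq_of_mul_eq_mul_right (pow_pos (by omega) _) h2
  have hmemK : ∀ p q : G, (p : Perm α) a = (q : Perm α) a → (p ∈ K ↔ q ∈ K) := by
    intro p q e
    have hS : q⁻¹ * p ∈ S := by
      rw [MulAction.mem_stabilizer_iff]
      show ((q⁻¹ * p : G) : Perm α) a = a
      rw [Subgroup.coe_mul, Subgroup.coe_inv, Perm.mul_apply, e, Perm.coe_inv, Equiv.symm_apply_apply]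
    constructor
    · intro hp
      simpa using mul_mem hp (inv_mem (hSK hS))
    · intro hq
      simpa using mul_mem hq (hSK hS)
  set A : Finset α := Finset.univ.filter fun x => ∃ p : G, p ∈ K ∧ (p : Perm α) a = x
  have hA : ∀ p : G, (p : Perm α) a ∈ A ↔ p ∈ K := by
    intro p
    simp only [A, Finset.mem_filter, Finset.mem_univ, true_and]
    exact ⟨fun ⟨q, hq, e⟩ => (hmemK q p e).1 hq, fun hp => ⟨p, hp, rfl⟩⟩
  have hPH : G ≤ H A := by
    intro g hg
    by_cases hgK : (⟨g, hg⟩ : G) ∈ K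
    · refine Or.inl fun x => ?_
      obtain ⟨p, hp, rfl⟩ := htrans x
      rw [show g (p a) = ((⟨g, hg⟩ * ⟨p, hp⟩ : G) : Perm α) a from rfl, hA,
        show p a = ((⟨p, hp⟩ : G) : Perm α) a from rfl, hA, Subgroup.mul_mem_iff_of_index_two hKidx]
      tauto
    · refine Or.inr fun x => ?_
      obtain ⟨p, hp, rfl⟩ := htrans x
      rw [show g (p a) = ((⟨g, hg⟩ * ⟨p, hp⟩ : G) : Perm α) a from rfl, hA,
        show p a = ((⟨p, hp⟩ : G) : Perm α) a from rfl, hA, Subgroup.mul_mem_iff_of_index_two hKidx]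
      tauto
  obtain ⟨g₁, hg₁⟩ : ∃ g : G, g ∉ K := by
    by_contra hne
    push Not at hne
    rw [(Subgroup.eq_top_iff' K).2 hne, Subgroup.index_top] at hKidx
    omega
  have himg : A.map (g₁ : Perm α).toEmbedding = Aᶜ := by
    rcases mem_H.1 (hPH g₁.2) with h | h
    · exfalso
      have h' := h (((1 : G) : Perm α) a)
      rw [hA 1, show (g₁ : Perm α) (((1 : G) : Perm α) a) = (g₁ : Perm α) a from rfl, hA] at h'
      exact hg₁ (h'.2 (one_mem _))
    · ext x
      simp only [Finset.mem_map_equiv, Finset.mem_compl]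
      have h' := h ((g₁ : Perm α).symm x)
      rw [Equiv.apply_symm_apply] at h'
      exact ⟨fun hx hxA => h'.1 hxA hx, fun hx => by_contra fun hx' => hx (h'.2 hx')⟩
  have hAc : Aᶜ.card = A.card := by rw [← himg, Finset.card_map]
  have hcardA : A.card + Aᶜ.card = Fintype.card α := Finset.card_add_card_compl A
  have h8 : 8 ≤ 2 ^ m := (Nat.pow_le_pow_right (by omega) hm3 : 2 ^ 3 ≤ 2 ^ m)
  exact Or.inl ⟨H A, _, H_ne_top (by omega) (by omega), hW2, hPH, hPW,
    sup_eq_top ht huniq h5 (by omega) (by omega) (Or.inr ⟨by omega, by omega⟩)⟩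

/-- For `2^k + 1` points: one fixed point and transitivity on the others. -/
theorem fixed_point {k : ℕ} (hk : 2 ≤ k) (hn : Fintype.card α = 2 ^ k + 1) (P : Sylow 2 (Perm α)) :
    ∃ z : α, (∀ p ∈ P, p z = z) ∧ ∀ x y : α, x ≠ z → y ≠ z → ∃ p ∈ P, p x = y := by
  classical
  have : Fact (Nat.Prime 2) := ⟨Nat.prime_two⟩
  obtain ⟨z, hz⟩ : (MulAction.fixedPoints (P : Subgroup (Perm α)) α).Nonempty := by
    refine P.2.nonempty_fixed_point_of_prime_not_dvd_card α ?_
    rw [Nat.card_eq_fintype_card, hn]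
    obtain ⟨j, rfl⟩ : ∃ j, k = j + 1 := ⟨k - 1, by omega⟩
    rw [pow_succ]; omega
  have hfix : ∀ p ∈ P, p z = z := fun p hp => hz ⟨p, hp⟩
  refine ⟨z, hfix, ?_⟩
  -- a cyclic 2-subgroup with an orbit of size `2 ^ k`
  set c := ((Finset.univ.erase z).toList).formPerm
  have hnd := (Finset.univ.erase z).nodup_toList
  have hlen : ((Finset.univ.erase z).toList).length = 2 ^ k := by
    rw [Finset.length_toList, Finset.card_erase_of_mem (Finset.mem_univ z), Finset.card_univ, hn, Nat.add_sub_cancel]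
  have hk4 : 4 ≤ 2 ^ k := (Nat.pow_le_pow_right (show 0 < 2 by omega) hk : 2 ^ 2 ≤ 2 ^ k)
  have hcyc : c.IsCycle := List.isCycle_formPerm hnd (by omega)
  have hsupp : c.support = Finset.univ.erase z := by
    have h := List.support_formPerm_of_nodup _ hnd (fun x e => by
      have := congrArg List.length e
      rw [hlen, List.length_singleton] at this
      omega)
    rw [h, Finset.toList_toFinset]
  have hC : IsPGroup 2 (Subgroup.zpowers c) := IsPGroup.of_card (n := k) (by
    rw [Nat.card_zpowers, hcyc.orderOf, hsupp, ← Finset.length_toList, hlen])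
  obtain ⟨Q, hQ⟩ := hC.exists_le_sylow
  obtain ⟨g, hg⟩ := MulAction.exists_smul_eq (Perm α) Q P
  -- the orbit of `P` carried over
  set O : Finset α := (Finset.univ.erase z).map g.toEmbedding
  have hOorb : ∀ x ∈ O, ∀ y ∈ O, ∃ p ∈ P, p x = y := by
    intro x hx y hy
    rw [Finset.mem_map_equiv] at hx hy
    rw [← hsupp, Perm.mem_support] at hx hy
    obtain ⟨i, hi⟩ := hcyc.exists_zpow_eq hx hy
    refine ⟨g * c ^ i * g⁻¹, ?_, ?_⟩
    · rw [← hg]
      exact ⟨c ^ i, hQ (zpow_mem (Subgroup.mem_zpowers c) i), rfl⟩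
    · show g ((c ^ i) (g.symm x)) = y
      rw [hi, Equiv.apply_symm_apply]
  have hzO : z ∉ O := by
    intro hzO
    have hcard : O.card = 2 ^ k := by rw [Finset.card_map, ← Finset.length_toList, hlen]
    obtain ⟨y, hy, hyz⟩ := Finset.exists_mem_ne (show 1 < O.card by omega) z
    obtain ⟨p, hp, e⟩ := hOorb z hzO y hy
    exact hyz (e.symm.trans (hfix p hp))
  have hO : O = Finset.univ.erase z := by
    refine Finset.eq_of_subset_of_card_le (fun x hx => Finset.mem_erase.2 ⟨fun e => hzO (e ▸ hx), Finset.mem_univ x⟩) ?_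
    rw [Finset.card_map]
  intro x y hx hy
  exact hOorb x (hO ▸ Finset.mem_erase.2 ⟨hx, Finset.mem_univ x⟩) y (hO ▸ Finset.mem_erase.2 ⟨hy, Finset.mem_univ y⟩)

end Cfsg.Agent.SylMax
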