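import Cfsg.Agent.Lib.Perm.SylowTwoMaximal

/-! Sylow 2-subgroups lying in a unique maximal subgroup. -/

set_option autoImplicit false
set_option linter.unusedSectionVars false

namespace Cfsg.Agent.SylMax

open Equiv Equiv.Perm

variable {α : Type*} [Fintype α] [DecidableEq α]

/-- Two proper subgroups generating everything lie in different maximal subgroups. -/
theorem not_unique {G : Type*} [Group G] [Finite G] {R W₁ W₂ : Subgroup G} (h1 : W₁ ≠ ⊤) (h2 : W₂ ≠ ⊤)
    (hR1 : R ≤ W₁) (hR2 : R ≤ W₂) (hj : ∀ M : Subgroup G, W₁ ≤ M → W₂ ≤ M → M = ⊤) :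
    ¬ ∃! M : Subgroup G, IsCoatom M ∧ R ≤ M := by
  rintro ⟨M, -, huniq⟩
  obtain ⟨M₁, hM₁, hle₁⟩ := (eq_top_or_exists_le_coatom W₁).resolve_left h1
  obtain ⟨M₂, hM₂, hle₂⟩ := (eq_top_or_exists_le_coatom W₂).resolve_left h2
  have e₁ := huniq M₁ ⟨hM₁, hR1.trans hle₁⟩
  have e₂ := huniq M₂ ⟨hM₂, hR2.trans hle₂⟩
  exact hM₁.1 (hj M₁ hle₁ (e₁.trans e₂.symm ▸ hle₂))

/-- A subgroup above which only one maximal subgroup lies. -/
theorem unique_of {G : Type*} [Group G] [Finite G] {R S : Subgroup G} (hS : S ≠ ⊤) (hRS : R ≤ S)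
    (h : ∀ M : Subgroup G, M ≠ ⊤ → R ≤ M → M ≤ S) :
    ∃! M : Subgroup G, IsCoatom M ∧ R ≤ M := by
  obtain ⟨M₀, hM₀, hle⟩ := (eq_top_or_exists_le_coatom S).resolve_left hS
  refine ⟨M₀, ⟨hM₀, hRS.trans hle⟩, ?_⟩
  rintro M ⟨hM, hRM⟩
  have hMS := (h M hM.1 hRM).trans hle
  exact ((hM.le_iff.1 hMS).resolve_left hM₀.1).symm

/-- Lift to a Sylow subgroup of the symmetric group. -/
theorem exists_lift (R : Sylow 2 (alternatingGroup α)) :
    ∃ P : Sylow 2 (Perm α), ∀ x : alternatingGroup α, x ∈ R ↔ (x : Perm α) ∈ P := by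
  obtain ⟨P, hP⟩ := (R.2.map (alternatingGroup α).subtype).exists_le_sylow
  have hle : (R : Subgroup (alternatingGroup α)) ≤ (P : Subgroup (Perm α)).subgroupOf (alternatingGroup α) :=
    fun x hx => hP ⟨x, hx, rfl⟩
  have e := R.3 (P.2.comap_of_injective (alternatingGroup α).subtype Subtype.val_injective) hle
  exact ⟨P, fun x => ⟨fun hx => hle hx, fun hx => (SetLike.ext_iff.1 e x).1 hx⟩⟩

/-- A Sylow 2-subgroup contains a transposition. -/
theorem exists_swap_mem (h5 : 5 ≤ Fintype.card α) (P : Sylow 2 (Perm α)) :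
    ∃ r ∈ P, r * r = 1 ∧ r ∉ alternatingGroup α := by
  obtain ⟨t, -, ht, htP, huniq⟩ := SylTwo.exists_pairing P
  obtain ⟨z, hz⟩ := Finset.card_pos.1 (show 0 < (Finset.univ : Finset α).card by rw [Finset.card_univ]; omega)
  obtain ⟨a, -, hta, -⟩ := exists_moved ht huniq (A := Finset.univ) (by rw [Finset.card_univ]; omega) z
  refine ⟨swap a (t a), SylTwo.swap_mem P ht huniq htP a, swap_mul_self _ _, fun h => ?_⟩
  rw [Perm.mem_alternatingGroup, sign_swap (Ne.symm hta)] at h
  exact absurd h (by decide)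

theorem mul_mem_alt {r g : Perm α} (hr : r ∉ alternatingGroup α) (hg : g ∉ alternatingGroup α) :
    g * r ∈ alternatingGroup α := by
  rw [Perm.mem_alternatingGroup] at hr hg ⊢
  rcases Int.units_eq_one_or (sign g) with e | e <;> rcases Int.units_eq_one_or (sign r) with e' | e' <;>
    simp_all

/-- Not unique outside `2^k + 1`. -/
theorem not_unique_both (h5 : 5 ≤ Fintype.card α) (hk : ¬ ∃ k, 2 ≤ k ∧ Fintype.card α = 2 ^ k + 1) :
    (∀ R : Sylow 2 (alternatingGroup α),
      ¬ ∃! M : Subgroup (alternatingGroup α), IsCoatom M ∧ (R : Subgroup (alternatingGroup α)) ≤ M) ∧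
    (∀ P : Sylow 2 (Perm α), ¬ ∃! M : Subgroup (Perm α), IsCoatom M ∧ (P : Subgroup (Perm α)) ≤ M) := by
  refine ⟨fun R => ?_, fun P => ?_⟩
  swap
  · obtain ⟨W₁, W₂, h1, h2, hP1, hP2, hj⟩ := (two_overgroups h5 P).resolve_right hk
    exact not_unique h1 h2 hP1 hP2 fun M hM1 hM2 => top_le_iff.1 (hj ▸ sup_le hM1 hM2)
  obtain ⟨P, hP⟩ := exists_lift R
  obtain ⟨r, hrP, hr2, hr⟩ := exists_swap_mem h5 P
  obtain ⟨W₁, W₂, h1, h2, hP1, hP2, hj⟩ := (two_overgroups h5 P).resolve_right hk
  have hrinv : r⁻¹ = r := inv_eq_of_mul_eq_one_right hr2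
  have hproper : ∀ W : Subgroup (Perm α), W ≠ ⊤ → r ∈ W → W.subgroupOf (alternatingGroup α) ≠ ⊤ := by
    intro W hW hrW e
    refine hW ((Subgroup.eq_top_iff' W).2 fun g => ?_)
    have hA : ∀ x ∈ alternatingGroup α, x ∈ W := fun x hx =>
      (e ▸ Subgroup.mem_top (⟨x, hx⟩ : alternatingGroup α) : (⟨x, hx⟩ : alternatingGroup α) ∈ W.subgroupOf _)
    by_cases hg : g ∈ alternatingGroup α
    · exact hA g hg
    · have := mul_mem (hA _ (mul_mem_alt hr hg)) hrW
      rwa [mul_assoc, hr2, mul_one] at this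
  refine not_unique (hproper W₁ h1 (hP1 hrP)) (hproper W₂ h2 (hP2 hrP))
    (fun x hx => hP1 ((hP x).1 hx)) (fun x hx => hP2 ((hP x).1 hx)) fun M hM1 hM2 => ?_
  set J := M.map (alternatingGroup α).subtype
  set J₀ := (W₁ ⊓ alternatingGroup α) ⊔ (W₂ ⊓ alternatingGroup α)
  have hJ : J₀ ≤ J := sup_le (fun x hx => ⟨⟨x, hx.2⟩, hM1 hx.1, rfl⟩) (fun x hx => ⟨⟨x, hx.2⟩, hM2 hx.1, rfl⟩)
  have hJA : J₀ ≤ alternatingGroup α := sup_le inf_le_right inf_le_right
  have hconj : ∀ x ∈ J₀, r * x * r ∈ J₀ := by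
    have key : ∀ W : Subgroup (Perm α), r ∈ W → ∀ x ∈ W ⊓ alternatingGroup α, r * x * r ∈ W ⊓ alternatingGroup α := by
      intro W hrW x hx
      refine ⟨mul_mem (mul_mem hrW hx.1) hrW, ?_⟩
      have := Subgroup.Normal.conj_mem (inferInstance : (alternatingGroup α).Normal) x hx.2 r
      rwa [hrinv] at this
    intro x hx
    have hle : J₀ ≤ J₀.comap (MulAut.conj r).toMonoidHom := sup_le
      (fun y hy => Subgroup.mem_sup_left (by
        show r * y * r⁻¹ ∈ _
        rw [hrinv]; exact key W₁ (hP1 hrP) y hy))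
      (fun y hy => Subgroup.mem_sup_right (by
        show r * y * r⁻¹ ∈ _
        rw [hrinv]; exact key W₂ (hP2 hrP) y hy))
    have := hle hx
    rw [Subgroup.mem_comap] at this
    rw [← hrinv]
    nth_rewrite 1 [hrinv]
    exact this
  let N : Subgroup (Perm α) :=
    { carrier := {g | g ∈ J₀ ∨ g * r ∈ J₀}
      one_mem' := Or.inl (one_mem _)
      mul_mem' := by
        rintro g g' (hg | hg) (hg' | hg')
        · exact Or.inl (mul_mem hg hg')
        · exact Or.inr (by rw [mul_assoc]; exact mul_mem hg hg')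
        · right
          have := mul_mem hg (hconj _ hg')
          rwa [show g * r * (r * g' * r) = g * (r * r) * g' * r by group, hr2, mul_one] at this
        · left
          have := mul_mem hg (hconj _ hg')
          rwa [show g * r * (r * (g' * r) * r) = g * (r * r) * g' * (r * r) by group, hr2, mul_one, mul_one] at this
      inv_mem' := by
        rintro g (hg | hg)
        · exact Or.inl (inv_mem hg)
        · right
          have := hconj _ (inv_mem hg)
          rwa [_root_.mul_inv_rev, hrinv, show r * (r * g⁻¹) * r = r * r * g⁻¹ * r by group, hr2, one_mul] at this }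
  have hW : ∀ W : Subgroup (Perm α), r ∈ W → W ⊓ alternatingGroup α ≤ J₀ → W ≤ N := by
    intro W hrW hle g hg
    by_cases hgA : g ∈ alternatingGroup α
    · exact Or.inl (hle ⟨hg, hgA⟩)
    · exact Or.inr (hle ⟨mul_mem hg hrW, mul_mem_alt hr hgA⟩)
  have hN : (⊤ : Subgroup (Perm α)) ≤ N :=
    hj ▸ sup_le (hW W₁ (hP1 hrP) le_sup_left) (hW W₂ (hP2 hrP) le_sup_right)
  refine (Subgroup.eq_top_iff' M).2 fun x => ?_
  rcases hN (Subgroup.mem_top (x : Perm α)) with hx | hx
  · obtain ⟨y, hy, e⟩ := hJ hx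
    exact Subtype.ext e ▸ hy
  · refine absurd ?_ hr
    have := mul_mem (inv_mem x.2) (hJA hx)
    rwa [inv_mul_cancel_left] at this

/-- The commutator of two permutations whose supports share one point. -/
theorem commutator_threeCycle {x y : Perm α} {s : α} (hxs : x s ≠ s) (hys : y s ≠ s)
    (h : ∀ p, x p ≠ p → y p ≠ p → p = s) : IsThreeCycle (x * y * x⁻¹ * y⁻¹) := by
  set a := x s
  set b := y s
  have hya : y a = a := by
    by_contra hne
    exact hxs (h a (fun e => hxs (x.injective e)) hne)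
  have hxb : x b = b := by
    by_contra hne
    exact hys (h b hne (fun e => hys (y.injective e)))
  have hab : a ≠ b := fun e => hys (y.injective (show y b = y s by rw [← e]; exact hya.trans e))
  have e : x * y * x⁻¹ * y⁻¹ = swap s b * swap s a := by
    ext p
    simp only [Perm.mul_apply, Perm.coe_inv]
    rcases eq_or_ne p s with rfl | hps
    · have hr : x (y.symm p) = y.symm p := by
        by_contra hne
        have := h _ hne (by rw [Equiv.apply_symm_apply]; exact fun e' => hys ((congrArg y e').trans (y.apply_symm_apply p)))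
        exact hys (y.symm_apply_eq.1 this).symm
      rw [swap_apply_left, swap_apply_of_ne_of_ne hxs hab, show x.symm (y.symm p) = y.symm p from x.symm_apply_eq.2 hr.symm,
        Equiv.apply_symm_apply]
    rcases eq_or_ne p a with rfl | hpa
    · rw [show y.symm a = a from y.symm_apply_eq.2 hya.symm, swap_apply_right, swap_apply_left,
        show x.symm a = s from x.symm_apply_eq.2 rfl, hxb]
    rcases eq_or_ne p b with rfl | hpb
    · rw [swap_apply_of_ne_of_ne hys hab.symm, swap_apply_right,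
        show y.symm b = s from y.symm_apply_eq.2 rfl]
      by_cases hq : y (x.symm s) = x.symm s
      · rw [hq, Equiv.apply_symm_apply]
      · have := h _ (by rw [Equiv.apply_symm_apply]; exact fun e' => hxs (x.symm_apply_eq.1 e'.symm).symm) hq
        exact absurd (x.symm_apply_eq.1 this).symm hxs
    rw [swap_apply_of_ne_of_ne hps hpa, swap_apply_of_ne_of_ne hps hpb]
    by_cases hyp : y p = p
    · rw [show y.symm p = p from y.symm_apply_eq.2 hyp.symm]
      by_cases hq : y (x.symm p) = x.symm p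
      · rw [hq, Equiv.apply_symm_apply]
      · have := h _ (by
          rw [Equiv.apply_symm_apply]
          intro e'
          exact hq (by rw [← e']; exact hyp)) hq
        exact absurd (x.symm_apply_eq.1 this) hpa
    · have hxp : x p = p := by
        by_contra hne
        exact hps (h p hne hyp)
      set q := y.symm p
      have hyq : y q ≠ q := by
        rw [Equiv.apply_symm_apply]
        intro e'
        exact hyp (by conv_lhs => rw [e', Equiv.apply_symm_apply])
      have hxq : x q = q := by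
        by_contra hne
        exact hpb ((y.symm_apply_eq.1 (h q hne hyq)))
      rw [show x.symm q = q from x.symm_apply_eq.2 hxq.symm, Equiv.apply_symm_apply, hxp]
  rw [e]
  exact isThreeCycle_swap_mul_swap_same (Ne.symm hys) (Ne.symm hxs) hab.symm

/-- Two-transitivity from a point stabiliser transitive on the rest. -/
theorem preprimitive_of {M : Subgroup (Perm α)} {z : α}
    (hM : ¬ ∀ g ∈ M, g z = z) (htr : ∀ x y : α, x ≠ z → y ≠ z → ∃ p ∈ M, p z = z ∧ p x = y) :
    MulAction.IsPreprimitive M α := by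
  push Not at hM
  obtain ⟨g, hg, hgz⟩ := hM
  have hto : ∀ a : α, ∃ m ∈ M, m a = z := by
    intro a
    rcases eq_or_ne a z with rfl | ha
    · exact ⟨1, one_mem _, rfl⟩
    obtain ⟨p, hp, -, hpa⟩ := htr a (g z) ha hgz
    exact ⟨g⁻¹ * p, mul_mem (inv_mem hg) hp, by simp [hpa]⟩
  have h2 : MulAction.IsMultiplyPretransitive M α 2 := by
    rw [MulAction.is_two_pretransitive_iff]
    intro a b c d hab hcd
    obtain ⟨m, hm, hma⟩ := hto a
    obtain ⟨m', hm', hmc⟩ := hto c
    obtain ⟨p, hp, hpz, hpb⟩ := htr (m b) (m' d) (fun e => hab (m.injective (hma.trans e.symm)))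
      (fun e => hcd (m'.injective (hmc.trans e.symm)))
    refine ⟨⟨m'⁻¹ * p * m, mul_mem (mul_mem (inv_mem hm') hp) hm⟩, ?_, ?_⟩
    · show m'⁻¹ (p (m a)) = c
      rw [hma, hpz, ← hmc]; simp
    · show m'⁻¹ (p (m b)) = d
      rw [hpb]; simp
  exact MulAction.isPreprimitive_of_is_two_pretransitive h2

/-- Unique for `2^k + 1`. -/
theorem unique_both {k : ℕ} (hk : 2 ≤ k) (hn : Fintype.card α = 2 ^ k + 1) :
    (∀ R : Sylow 2 (alternatingGroup α),
      ∃! M : Subgroup (alternatingGroup α), IsCoatom M ∧ (R : Subgroup (alternatingGroup α)) ≤ M) ∧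
    (∀ P : Sylow 2 (Perm α), ∃! M : Subgroup (Perm α), IsCoatom M ∧ (P : Subgroup (Perm α)) ≤ M) := by
  have hk4 : 4 ≤ 2 ^ k := (Nat.pow_le_pow_right (show 0 < 2 by omega) hk : 2 ^ 2 ≤ 2 ^ k)
  have h5 : 5 ≤ Fintype.card α := by omega
  have hS : ∀ z : α, MulAction.stabilizer (Perm α) z ≠ ⊤ := by
    intro z e
    obtain ⟨x, -, hx⟩ := Finset.exists_mem_notMem_of_card_lt_card (s := ({z} : Finset α)) (t := Finset.univ)
      (by rw [Finset.card_singleton, Finset.card_univ]; omega)
    have := MulAction.mem_stabilizer_iff.1 (e ▸ Subgroup.mem_top (swap z x))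
    rw [Perm.smul_def, swap_apply_left] at this
    exact hx (Finset.mem_singleton.2 this)
  refine ⟨fun R => ?_, fun P => ?_⟩
  swap
  · obtain ⟨z, hz, htr⟩ := fixed_point hk hn P
    refine unique_of (hS z) (fun p hp => hz p hp) fun M hM hPM g hg => ?_
    by_contra hgz
    have hprim := preprimitive_of (M := M) (z := z) (fun h => hgz (h g hg)) fun x y hx hy => by
      obtain ⟨p, hp, e⟩ := htr x y hx hy
      exact ⟨p, hPM hp, hz p hp, e⟩
    obtain ⟨t, -, ht, htP, huniq⟩ := SylTwo.exists_pairing P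
    obtain ⟨a, -, hta, -⟩ := exists_moved ht huniq (A := Finset.univ) (by rw [Finset.card_univ]; omega) z
    exact hM (subgroup_eq_top_of_isPreprimitive_of_isSwap_mem hprim (swap a (t a))
      ⟨a, t a, Ne.symm hta, rfl⟩ (hPM (SylTwo.swap_mem P ht huniq htP a)))
  obtain ⟨P, hP⟩ := exists_lift R
  obtain ⟨z, hz, htr⟩ := fixed_point hk hn P
  obtain ⟨t, htmem, ht, htP, huniq⟩ := SylTwo.exists_pairing P
  have htt : ∀ x, t (t x) = x := fun x => by rw [← Perm.mul_apply, ht]; rfl
  have htz : t z = z := hz t htmem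
  have htne : ∀ x, x ≠ z → t x ≠ x := fun x hx e => hx (huniq x z e htz)
  have hne3 : ∀ s : Finset α, s.card ≤ 3 → ∃ x, x ∉ s := fun s hs => by
    obtain ⟨x, -, hx⟩ := Finset.exists_mem_notMem_of_card_lt_card (s := s) (t := Finset.univ)
      (by rw [Finset.card_univ]; omega)
    exact ⟨x, hx⟩
  -- transitivity of the even part
  have htrA : ∀ x y : α, x ≠ z → y ≠ z → ∃ p ∈ P, p ∈ alternatingGroup α ∧ p x = y := by
    intro x y hx hy
    obtain ⟨p, hp, e⟩ := htr x y hx hy
    by_cases hpA : p ∈ alternatingGroup α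
    · exact ⟨p, hp, hpA, e⟩
    obtain ⟨c, hc⟩ := hne3 {z, x, t x} Finset.card_le_three
    simp only [Finset.mem_insert, Finset.mem_singleton, not_or] at hc
    refine ⟨p * swap c (t c), mul_mem hp (SylTwo.swap_mem P ht huniq htP c), ?_, ?_⟩
    · rw [Perm.mem_alternatingGroup] at hpA ⊢
      rw [map_mul, sign_swap (Ne.symm (htne c hc.1)), (Int.units_eq_one_or _).resolve_left hpA]
      rfl
    · rw [Perm.mul_apply, swap_apply_of_ne_of_ne (Ne.symm hc.2.1) (fun e' => hc.2.2 (by rw [e', htt])), e]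
  have hpairs : ∀ u v : α, u ≠ z → v ≠ z → swap u (t u) * swap v (t v) ∈ P ∧
      swap u (t u) * swap v (t v) ∈ alternatingGroup α := by
    intro u v hu hv
    refine ⟨mul_mem (SylTwo.swap_mem P ht huniq htP u) (SylTwo.swap_mem P ht huniq htP v), ?_⟩
    rw [Perm.mem_alternatingGroup, map_mul, sign_swap (Ne.symm (htne u hu)), sign_swap (Ne.symm (htne v hv))]
    rfl
  have hne : (MulAction.stabilizer (Perm α) z).subgroupOf (alternatingGroup α) ≠ ⊤ := by
    intro e
    obtain ⟨x, hx⟩ := hne3 {z} (by simp)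
    obtain ⟨c, hc⟩ := hne3 {z, x} (Finset.card_le_two.trans (by omega))
    simp only [Finset.mem_insert, Finset.mem_singleton, not_or] at hx hc
    have hmem : swap z x * swap z c ∈ alternatingGroup α := by
      rw [Perm.mem_alternatingGroup, map_mul, sign_swap (Ne.symm hx), sign_swap (Ne.symm hc.1)]; rfl
    have := (e ▸ Subgroup.mem_top (⟨_, hmem⟩ : alternatingGroup α) :
      (⟨_, hmem⟩ : alternatingGroup α) ∈ (MulAction.stabilizer (Perm α) z).subgroupOf _)
    rw [Subgroup.mem_subgroupOf, MulAction.mem_stabilizer_iff, Perm.smul_def, Perm.mul_apply,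
      swap_apply_left, swap_apply_of_ne_of_ne hc.1 hc.2] at this
    exact hc.1 this
  refine unique_of hne (fun p hp => hz p ((hP p).1 hp)) fun M hM hRM g hg => ?_
  by_contra hgz
  set J := M.map (alternatingGroup α).subtype
  have hmemJ : ∀ {p : Perm α}, p ∈ P → p ∈ alternatingGroup α → p ∈ J := fun {p} hp hpA =>
    ⟨⟨p, hpA⟩, hRM ((hP ⟨p, hpA⟩).2 hp), rfl⟩
  have hprim := preprimitive_of (M := J) (z := z) (fun h => hgz (h g ⟨g, hg, rfl⟩)) fun x y hx hy => by
    obtain ⟨p, hp, hpA, e⟩ := htrA x y hx hy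
    exact ⟨p, hmemJ hp hpA, hz p hp, e⟩
  rcases Nat.lt_or_ge k 3 with hk2 | hk3
  · -- five points
    have hk' : k = 2 := by omega
    subst hk'
    have hcard5 : Fintype.card α = 5 := by omega
    have hJcard : Nat.card J = Nat.card M := Subgroup.card_map_of_injective Subtype.val_injective
    have h5M : 5 ∣ Nat.card M := by
      rw [← hJcard]
      have := MulAction.index_stabilizer_of_transitive J z
      rw [Nat.card_eq_fintype_card, hcard5] at this
      exact this ▸ Subgroup.index_dvd_card _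
    have hA : Nat.card (alternatingGroup α) = 60 := by
      have : Nontrivial α := Fintype.one_lt_card_iff_nontrivial.1 (by omega)
      have := two_mul_nat_card_alternatingGroup (α := α)
      rw [Nat.card_perm, Nat.card_eq_fintype_card (α := α), hcard5] at this
      rw [show Nat.factorial 5 = 120 from rfl] at this
      omega
    have h4M : 4 ∣ Nat.card M := by
      obtain ⟨j, hj⟩ := R.2.exists_card_eq
      have hidx := R.not_dvd_index
      have hmul := (R : Subgroup (alternatingGroup α)).index_mul_card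
      rw [hj, hA] at hmul
      have hj2 : 2 ≤ j := by
        by_contra hj2
        rcases (show j = 0 ∨ j = 1 by omega) with rfl | rfl
        · exact hidx ⟨30, by omega⟩
        · exact hidx ⟨15, by omega⟩
      exact (pow_dvd_pow 2 hj2).trans (hj ▸ Subgroup.card_dvd_of_le hRM)
    have h20 : 20 ∣ Nat.card M := (show Nat.Coprime 4 5 by norm_num).mul_dvd_of_dvd_of_dvd h4M h5M
    have hidx3 : M.index ≤ 3 := by
      obtain ⟨c, hc⟩ := h20
      have := M.index_mul_card
      rw [hA, hc] at this
      have : M.index * c = 3 := by linarith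
      exact Nat.le_of_dvd (by omega) ⟨c, this.symm⟩
    have : IsSimpleGroup (alternatingGroup α) := alternatingGroup.isSimpleGroup (by rw [Nat.card_eq_fintype_card]; exact h5)
    rcases (inferInstance : M.normalCore.Normal).eq_bot_or_eq_top with hc | hc
    · have hinj : Function.Injective (MulAction.toPermHom (alternatingGroup α) (alternatingGroup α ⧸ M)) := by
        rw [← MonoidHom.ker_eq_bot_iff, ← Subgroup.normalCore_eq_ker, hc]
      have h1 := Nat.card_le_card_of_injective _ hinj
      rw [hA, Nat.card_perm, ← Subgroup.index_eq_card] at h1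
      have h2 := Nat.factorial_le hidx3
      simp [Nat.factorial] at h2
      omega
    · exact hM (top_le_iff.1 (hc ▸ Subgroup.normalCore_le M))
  · have h9 : 9 ≤ Fintype.card α := by
      have : 2 ^ 3 ≤ 2 ^ k := Nat.pow_le_pow_right (show 0 < 2 by omega) hk3
      omega
    obtain ⟨a, -, hta, haz⟩ := exists_moved ht huniq (A := Finset.univ) (by rw [Finset.card_univ]; omega) z
    obtain ⟨c, hc⟩ := hne3 {z, a, t a} Finset.card_le_three
    simp only [Finset.mem_insert, Finset.mem_singleton, not_or] at hc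
    obtain ⟨hx1, hx2⟩ := hpairs a c haz hc.1
    obtain ⟨h₀, hh₀⟩ := MulAction.exists_smul_eq J a z
    set h : Perm α := (h₀ : Perm α)
    have hha : h a = z := hh₀
    set u := h (t a)
    set v := h c
    set w := h (t c)
    have hac : t c ≠ t a := fun e => hc.2.1 (t.injective e)
    have hatc : t c ≠ a := fun e => hc.2.2 (by rw [← e, htt])
    have huz : u ≠ z := fun e => hta (h.injective (e.trans hha.symm))
    have hvz : v ≠ z := fun e => hc.2.1 (h.injective (e.trans hha.symm))
    have hwz : w ≠ z := fun e => hatc (h.injective (e.trans hha.symm))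
    have huv : u ≠ v := fun e => hc.2.2 (h.injective e).symm
    have huw : u ≠ w := fun e => hac (h.injective e).symm
    have hvw : v ≠ w := fun e => htne c hc.1 (h.injective e).symm
    set y := h * (swap a (t a) * swap c (t c)) * h⁻¹
    have hyJ : y ∈ J := mul_mem (mul_mem h₀.2 (hmemJ hx1 hx2)) (inv_mem h₀.2)
    have hy : y = swap z u * swap v w := by
      have key : ∀ p q : α, h * swap p q * h⁻¹ = swap (h p) (h q) := fun p q => by
        rw [Equiv.mul_swap_eq_swap_mul, mul_inv_cancel_right]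
      simp only [y, u, v, w]
      rw [show h * (swap a (t a) * swap c (t c)) * h⁻¹ = (h * swap a (t a) * h⁻¹) * (h * swap c (t c) * h⁻¹) by
        group, key, key, hha]
    obtain ⟨s, hs, hts⟩ : ∃ s, (s = u ∨ s = v ∨ s = w) ∧ t s ≠ u ∧ t s ≠ v ∧ t s ≠ w := by
      have hu' := htne u huz
      have hv' := htne v hvz
      have hw' := htne w hwz
      by_cases e1 : t u = v
      · exact ⟨w, Or.inr (Or.inr rfl), fun e => hvw (by rw [← e1, ← e, htt]), fun e =>
          huw (by rw [← htt w, e, ← e1, htt]), hw'⟩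
      by_cases e2 : t u = w
      · exact ⟨v, Or.inr (Or.inl rfl), fun e => hvw (by rw [← e2, ← e, htt]), hv', fun e =>
          huv (by rw [← htt v, e, ← e2, htt])⟩
      exact ⟨u, Or.inl rfl, hu', e1, e2⟩
    have hsz : s ≠ z := by rcases hs with rfl | rfl | rfl <;> assumption
    obtain ⟨q, -, hq⟩ := Finset.exists_mem_notMem_of_card_lt_card
      (s := ({z, u, v, w, t u, t v, t w} : Finset α)) (t := Finset.univ)
      (lt_of_le_of_lt ((Finset.card_insert_le _ _).trans (Nat.add_le_add_right
        ((Finset.card_insert_le _ _).trans (Nat.add_le_add_right ((Finset.card_insert_le _ _).trans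
        (Nat.add_le_add_right ((Finset.card_insert_le _ _).trans (Nat.add_le_add_right
        Finset.card_le_three 1)) 1)) 1)) 1)) (by rw [Finset.card_univ]; omega))
    simp only [Finset.mem_insert, Finset.mem_singleton, not_or] at hq
    obtain ⟨hqz, hqu, hqv, hqw, hqtu, hqtv, hqtw⟩ := hq
    obtain ⟨hx'1, hx'2⟩ := hpairs s q hsz hqz
    have hsuppy : ∀ p, y p ≠ p → p = z ∨ p = u ∨ p = v ∨ p = w := by
      intro p hp
      by_contra hne
      push Not at hne
      apply hp
      rw [hy, Perm.mul_apply, swap_apply_of_ne_of_ne hne.2.2.1 hne.2.2.2, swap_apply_of_ne_of_ne hne.1 hne.2.1]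
    have hsq : s ≠ q := by rcases hs with rfl | rfl | rfl <;> exact Ne.symm (by assumption)
    have hstq : s ≠ t q := fun e => by
      rcases hs with rfl | rfl | rfl
      exacts [hqtu (by rw [e, htt]), hqtv (by rw [e, htt]), hqtw (by rw [e, htt])]
    have hysne : y s ≠ s := by
      rw [hy, Perm.mul_apply]
      rcases hs with rfl | rfl | rfl
      · rw [swap_apply_of_ne_of_ne huv huw, swap_apply_right]; exact Ne.symm huz
      · rw [swap_apply_left, swap_apply_of_ne_of_ne hwz (Ne.symm huw)]; exact Ne.symm hvw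
      · rw [swap_apply_right, swap_apply_of_ne_of_ne hvz (Ne.symm huv)]; exact hvw
    have hcyc := commutator_threeCycle (x := swap s (t s) * swap q (t q)) (y := y) (s := s) ?_ hysne ?_
    · refine hM ((Subgroup.eq_top_iff' M).2 fun x => ?_)
      obtain ⟨x', hx', e⟩ := alternatingGroup_le_of_isPreprimitive_of_isThreeCycle_mem hprim hcyc
        (mul_mem (mul_mem (mul_mem (hmemJ hx'1 hx'2) hyJ) (inv_mem (hmemJ hx'1 hx'2))) (inv_mem hyJ)) x.2
      exact Subtype.ext e ▸ hx'
    · rw [Perm.mul_apply, swap_apply_of_ne_of_ne hsq hstq, swap_apply_left]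
      exact htne s hsz
    · intro p hxp hyp
      by_contra hps
      apply hxp
      have hp := hsuppy p hyp
      have h1 : p ≠ t s := by
        rcases hp with rfl | rfl | rfl | rfl
        exacts [fun e => hsz (by rw [← htt s, ← e, htz]), Ne.symm hts.1, Ne.symm hts.2.1, Ne.symm hts.2.2]
      have h2 : p ≠ q ∧ p ≠ t q := by
        rcases hp with rfl | rfl | rfl | rfl
        · exact ⟨Ne.symm hqz, fun e => hqz (by rw [← htt q, ← e, htz])⟩
        · exact ⟨Ne.symm hqu, fun e => hqtu (by rw [e, htt])⟩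
        · exact ⟨Ne.symm hqv, fun e => hqtv (by rw [e, htt])⟩
        · exact ⟨Ne.symm hqw, fun e => hqtw (by rw [e, htt])⟩
      rw [Perm.mul_apply, swap_apply_of_ne_of_ne h2.1 h2.2, swap_apply_of_ne_of_ne hps h1]

end Cfsg.Agent.SylMax
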