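import Mathlib
import Cfsg.Agent.Lib.Grp.Frattini

/-!
A 2-closed transitive group whose Sylow `p`-subgroup has at most two orbits, both of size `p²`,
has a derangement of order `p`.
-/

namespace Cfsg.Agent.Perm.TwoClosedSq

open MulAction

variable {G Ω : Type*} [Group G] [Finite G] [MulAction G Ω] [FaithfulSMul G Ω] [Finite Ω]

/-- A central element of a group fixing a point fixes its orbit. -/
theorem fix_orbit {P : Subgroup G} {z : G} (hz : ∀ h ∈ P, h * z = z * h) {a : Ω} (ha : z • a = a)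
    {x : Ω} (hx : x ∈ orbit P a) : z • x = x := by
  obtain ⟨h, rfl⟩ := hx
  show z • (h : G) • a = (h : G) • a
  rw [← mul_smul, ← hz h h.2, mul_smul, ha]

/-- An element of order `p` in the centre of a nontrivial normal subgroup. -/
theorem exists_central {p : ℕ} [Fact p.Prime] {P : Subgroup G} (hP : IsPGroup p P)
    (N : Subgroup P) [N.Normal] (hN : N ≠ ⊥) :
    ∃ z : P, z ∈ N ∧ z ∈ Subgroup.center P ∧ orderOf z = p := by
  haveI : Nontrivial N := (Subgroup.nontrivial_iff_ne_bot N).2 hN
  obtain ⟨g, hg⟩ := exists_prime_orderOf_dvd_card' (G := (N ⊓ Subgroup.center P : Subgroup P)) p (by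
    have hne : N ⊓ Subgroup.center P ≠ ⊥ := by
      haveI := hP.isNilpotent
      exact Cfsg.Agent.Grp.inf_center_ne_bot N hN
    obtain ⟨n, hn⟩ := IsPGroup.iff_card.1 (hP.to_subgroup (N ⊓ Subgroup.center P))
    rw [hn]
    refine dvd_pow_self p ?_
    intro h0
    rw [h0, pow_zero] at hn
    exact hne (Subgroup.card_eq_one.1 hn))
  exact ⟨g, g.2.1, g.2.2, by rw [Subgroup.orderOf_coe]; exact hg⟩

theorem exists_derangement (p : ℕ) [Fact p.Prime] (P : Subgroup G) (hP : IsPGroup p P)
    (hcl : ∀ σ : Equiv.Perm Ω, (∀ a b : Ω, ∃ g : G, σ a = g • a ∧ σ b = g • b) →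
      ∃ g : G, ∀ a : Ω, σ a = g • a)
    (a b : Ω) (hcov : ∀ x : Ω, x ∈ orbit P a ∨ x ∈ orbit P b)
    (hsa : Nat.card (orbit P a) = p ^ 2) (hsb : Nat.card (orbit P b) = p ^ 2)
    (hdis : ∀ x : Ω, x ∈ orbit P a → x ∉ orbit P b)
    (z : P) (hzc : z ∈ Subgroup.center P) (hzp : orderOf z = p) (hzb : (z : G) • b = b) :
    ∃ g : G, (orderOf g).Prime ∧ ∀ ω : Ω, g • ω ≠ ω := by
  classical
  by_contra hno
  push Not at hno
  have hcomm : ∀ w : P, w ∈ Subgroup.center P → ∀ h ∈ P, h * (w : G) = w * h := fun w hw h hh =>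
    congrArg Subtype.val (Subgroup.mem_center_iff.1 hw ⟨h, hh⟩)
  have hzne : (z : G) ≠ 1 := fun h => by
    rw [← Subgroup.orderOf_coe, h, orderOf_one] at hzp
    exact (Fact.out : p.Prime).one_lt.ne hzp
  have hzb' : ∀ x ∈ orbit P b, (z : G) • x = x := fun x hx => fix_orbit (hcomm z hzc) hzb hx
  have hza : ∀ x ∈ orbit P a, (z : G) • x ≠ x := by
    intro x hx h
    refine hzne (FaithfulSMul.eq_of_smul_eq_smul (α := Ω) fun y => ?_)
    rw [one_smul]
    rcases hcov y with hy | hy
    · exact fix_orbit (hcomm z hzc) h (orbit_eq_iff.2 hx ▸ hy)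
    · exact hzb' y hy
  -- every central element of order `p` fixes the second orbit
  have hallb : ∀ w : P, w ∈ Subgroup.center P → orderOf w = p → (w : G) • b = b := by
    intro w hw hwp
    by_contra hwb
    have hwb' : ∀ x ∈ orbit P b, (w : G) • x ≠ x := fun x hx h =>
      hwb (fix_orbit (hcomm w hw) h (mem_orbit_symm.1 hx))
    have hw' : (orderOf (w : G)).Prime := by rw [Subgroup.orderOf_coe, hwp]; exact Fact.out
    obtain ⟨x, hx⟩ := hno _ hw'
    have hwa : ∀ y ∈ orbit P a, (w : G) • y = y := by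
      rcases hcov x with hxa | hxb
      · exact fun y hy => fix_orbit (hcomm w hw) hx (orbit_eq_iff.2 hxa ▸ hy)
      · exact absurd hx (hwb' x hxb)
    have hzw : orderOf ((z : G) * w) = p := by
      refine orderOf_eq_prime ?_ fun h => ?_
      · have hc : Commute (z : G) w := (hcomm z hzc w w.2).symm
        rw [hc.mul_pow, ← Subgroup.coe_pow, ← Subgroup.coe_pow]
        nth_rewrite 1 [← hzp]
        nth_rewrite 1 [← hwp]
        rw [pow_orderOf_eq_one, pow_orderOf_eq_one]; simp
      · exact hwb (by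
          have h3 : (w : G) • ((z : G) • b) = b := by rw [← mul_smul, hcomm z hzc w w.2, h, one_smul]
          rwa [hzb] at h3)
    obtain ⟨y, hy⟩ := hno ((z : G) * w) (by rw [hzw]; exact Fact.out)
    rcases hcov y with hya | hyb
    · rw [mul_smul, hwa y hya] at hy
      exact hza y hya hy
    · have h3 : (w : G) • ((z : G) • y) = y := by rw [← mul_smul, hcomm z hzc w w.2, hy]
      rw [hzb' y hyb] at h3
      exact hwb' y hyb h3
  -- the group is faithful on the first orbit
  let K1 : Subgroup P :=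
    { carrier := {h | ∀ x ∈ orbit P a, h • x = x}
      one_mem' := fun x _ => one_smul _ x
      mul_mem' := fun {h k} hh hk x hx => by rw [mul_smul, hk x hx, hh x hx]
      inv_mem' := fun {h} hh x hx => by rw [inv_smul_eq_iff, hh x hx] }
  haveI : K1.Normal := ⟨fun h hh k x hx => by
    have hkx : k⁻¹ • x ∈ orbit P a := by
      rw [← orbit_eq_iff.2 hx]; exact mem_orbit x k⁻¹
    rw [mul_smul, mul_smul, hh _ hkx, smul_inv_smul]⟩
  have hK1 : K1 = ⊥ := by
    by_contra hne
    obtain ⟨w, hw1, hwc, hwp⟩ := exists_central hP K1 hne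
    have hwb := hallb w hwc hwp
    refine (Fact.out : p.Prime).one_lt.ne ?_
    rw [← hwp, ← Subgroup.orderOf_coe, eq_comm, orderOf_eq_one_iff]
    refine FaithfulSMul.eq_of_smul_eq_smul (α := Ω) fun y => ?_
    rw [one_smul]
    rcases hcov y with hy | hy
    · exact hw1 y hy
    · exact fix_orbit (hcomm w hwc) hwb hy
  -- the block stabiliser
  let Z : Subgroup P := Subgroup.zpowers z
  have hZc : Z ≤ Subgroup.center P := Subgroup.zpowers_le.2 hzc
  haveI : Z.Normal := ⟨fun n hn g => by
    rw [Subgroup.mem_center_iff.1 (hZc hn) g, mul_inv_cancel_right]; exact hn⟩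
  have hZa : ∀ x ∈ orbit P a, Disjoint (stabilizer P x) Z := by
    intro x hx
    rw [disjoint_iff, eq_bot_iff]
    rintro w ⟨hw, hwZ⟩
    rw [Subgroup.mem_bot, ← Subgroup.mem_bot, ← hK1]
    intro y hy
    exact fix_orbit (hcomm w (hZc hwZ)) hw (orbit_eq_iff.2 hx ▸ hy)
  have hidx : ∀ x ∈ orbit P a, (stabilizer P x ⊔ Z).index = p := by
    intro x hx
    have h1 : (stabilizer P x).index = p ^ 2 := by
      rw [index_stabilizer, orbit_eq_iff.2 hx, ← Nat.card_coe_set_eq, hsa]
    have h2 : Z.relIndex (stabilizer P x ⊔ Z) = Nat.card (stabilizer P x) := by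
      rw [Subgroup.relIndex_sup_right, ← Subgroup.inf_relIndex_right, (hZa x hx).symm.eq_bot,
        Subgroup.relIndex_bot_left]
    have h4 : Nat.card (stabilizer P x ⊔ Z : Subgroup P) = p * Nat.card (stabilizer P x) := by
      rw [← h2, ← hzp, ← Nat.card_zpowers, ← Subgroup.relIndex_bot_left Z,
        Subgroup.relIndex_mul_relIndex _ _ _ bot_le le_sup_right, Subgroup.relIndex_bot_left]
    have e1 := (stabilizer P x ⊔ Z).index_mul_card
    rw [h4, ← (stabilizer P x).index_mul_card, h1, pow_two, ← mul_assoc] at e1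
    exact Nat.eq_of_mul_eq_mul_right (Fact.out : p.Prime).pos
      (Nat.eq_of_mul_eq_mul_right Nat.card_pos e1)
  set B := stabilizer P a ⊔ Z with hB
  haveI hBn : B.Normal := by
    refine Subgroup.normal_of_index_eq_minFac_card ?_
    rw [hidx a (mem_orbit_self a)]
    obtain ⟨n, hn⟩ := IsPGroup.iff_card.1 hP
    have hn0 : n ≠ 0 := fun h => by
      have := orderOf_dvd_natCard z
      rw [hzp, hn, h, pow_zero, Nat.dvd_one] at this
      exact (Fact.out : p.Prime).one_lt.ne this.symm
    rw [hn, Nat.pow_minFac hn0, (Fact.out : p.Prime).minFac_eq]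
  have hBx : ∀ x ∈ orbit P a, B = stabilizer P x ⊔ Z := by
    rintro _ ⟨h, rfl⟩
    symm
    refine Subgroup.eq_of_le_of_card_ge (sup_le ?_ le_sup_right) ?_
    · intro w hw
      have hw' : h⁻¹ * w * h ∈ stabilizer P a := by
        rw [mem_stabilizer_iff, mul_smul, mul_smul]
        rw [mem_stabilizer_iff] at hw
        rw [hw, inv_smul_smul]
      have := hBn.conj_mem _ (le_sup_left (b := Z) hw') h
      simpa [mul_assoc] using this
    · have e1 := B.index_mul_card
      have e2 := (stabilizer P (h • a) ⊔ Z).index_mul_card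
      rw [hidx a (mem_orbit_self a), ← e2, hidx _ (mem_orbit a h)] at e1
      exact (Nat.eq_of_mul_eq_mul_left (Fact.out : p.Prime).pos e1).le
  -- the kernel on the second orbit
  let K2 : Subgroup P :=
    { carrier := {h | ∀ x ∈ orbit P b, h • x = x}
      one_mem' := fun x _ => one_smul _ x
      mul_mem' := fun {h k} hh hk x hx => by rw [mul_smul, hk x hx, hh x hx]
      inv_mem' := fun {h} hh x hx => by rw [inv_smul_eq_iff, hh x hx] }
  haveI : K2.Normal := ⟨fun h hh k x hx => by
    have hkx : k⁻¹ • x ∈ orbit P b := by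
      rw [← orbit_eq_iff.2 hx]; exact mem_orbit x k⁻¹
    rw [mul_smul, mul_smul, hh _ hkx, smul_inv_smul]⟩
  have hBK : B.map (QuotientGroup.mk' K2) ≠ ⊥ := by
    intro h
    rw [Subgroup.map_eq_bot_iff, QuotientGroup.ker_mk'] at h
    have hle : B ≤ stabilizer P b := fun w hw => mem_stabilizer_iff.2 (h hw b (mem_orbit_self b))
    have h1 := Subgroup.index_dvd_of_le hle
    rw [hidx a (mem_orbit_self a), index_stabilizer, ← Nat.card_coe_set_eq, hsb] at h1
    have h2 := Nat.le_of_dvd (Fact.out : p.Prime).pos h1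
    have h3 := (Fact.out : p.Prime).one_lt
    nlinarith
  haveI : (B.map (QuotientGroup.mk' K2)).Normal := hBn.map _ (QuotientGroup.mk'_surjective K2)
  have hQp : IsPGroup p (⊤ : Subgroup (P ⧸ K2)) := (hP.to_quotient K2).to_subgroup ⊤
  obtain ⟨q, hq, hqc, hqp⟩ : ∃ q : P ⧸ K2, q ∈ B.map (QuotientGroup.mk' K2) ∧
      q ∈ Subgroup.center (P ⧸ K2) ∧ orderOf q = p := by
    haveI := (hP.to_quotient K2).isNilpotent
    have hne := Cfsg.Agent.Grp.inf_center_ne_bot _ hBK
    obtain ⟨n, hn⟩ := IsPGroup.iff_card.1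
      ((hP.to_quotient K2).to_subgroup (B.map (QuotientGroup.mk' K2) ⊓ Subgroup.center (P ⧸ K2)))
    obtain ⟨g, hg⟩ := exists_prime_orderOf_dvd_card'
      (G := (B.map (QuotientGroup.mk' K2) ⊓ Subgroup.center (P ⧸ K2) : Subgroup _)) p (by
        rw [hn]
        refine dvd_pow_self p fun h0 => ?_
        rw [h0, pow_zero] at hn
        exact hne (Subgroup.card_eq_one.1 hn))
    exact ⟨g, g.2.1, g.2.2, by rw [Subgroup.orderOf_coe]; exact hg⟩
  obtain ⟨y, hy, rfl⟩ := hq
  have hykey : ∀ (k : P), ∀ x ∈ orbit P b, y • k • x = k • y • x := by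
    intro k x hx
    have h : (k * y)⁻¹ * (y * k) ∈ K2 := by
      rw [← QuotientGroup.eq]
      exact Subgroup.mem_center_iff.1 hqc (QuotientGroup.mk' K2 k)
    have := h x hx
    rw [mul_smul, inv_smul_eq_iff, mul_smul, mul_smul] at this
    exact this
  have hymove : ∀ x ∈ orbit P b, y • x ≠ x := by
    intro x hx h
    have hin : y ∈ K2 := by
      intro w hw
      obtain ⟨k, rfl⟩ : w ∈ orbit P x := by rw [orbit_eq_iff.2 hx]; exact hw
      show y • k • x = k • x
      rw [hykey k x hx, h]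
    rw [QuotientGroup.mk'_apply, (QuotientGroup.eq_one_iff y).2 hin, orderOf_one] at hqp
    exact (Fact.out : p.Prime).one_lt.ne hqp
  have hyp : ∀ x ∈ orbit P b, y ^ p • x = x := by
    have h : QuotientGroup.mk' K2 (y ^ p) = 1 := by rw [map_pow, ← hqp, pow_orderOf_eq_one]
    exact (QuotientGroup.eq_one_iff (y ^ p)).1 h
  -- the new permutation
  have hsm : ∀ (k : P) (x : Ω), x ∈ orbit P b → k • x ∈ orbit P b := fun k x hx => by
    rw [← orbit_eq_iff.2 hx]; exact mem_orbit x k
  let f : Ω → Ω := fun x => if x ∈ orbit P b then y • x else x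
  have hf : Function.Bijective f := by
    refine Finite.injective_iff_bijective.1 fun u v h => ?_
    simp only [f] at h
    split_ifs at h with h1 h2 h2
    · exact MulAction.injective y h
    · exact absurd (h ▸ hsm y u h1) h2
    · exact absurd (h ▸ hsm y v h2) h1
    · exact h
  obtain ⟨c, hc⟩ := hcl (Equiv.ofBijective f hf) (by
    intro u v
    simp only [Equiv.ofBijective_apply, f]
    have hmix : ∀ u v : Ω, u ∈ orbit P a → v ∈ orbit P b →
        ∃ g : G, g • u = u ∧ g • v = y • v := by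
      intro u v hu hv
      have hyB : y ∈ stabilizer P u ⊔ Z := hBx u hu ▸ hy
      rw [Subgroup.mem_sup_of_normal_right] at hyB
      obtain ⟨r, hr, s, hs, rfl⟩ := hyB
      refine ⟨r, mem_stabilizer_iff.1 hr, ?_⟩
      obtain ⟨i, rfl⟩ := hs
      show (r : G) • v = (((r * z ^ i : P)) : G) • v
      have hfix : ((z : G) ^ i) • v = v :=
        zpow_mem (show (z : G) ∈ stabilizer G v from hzb' v hv) i
      rw [Subgroup.coe_mul, Subgroup.coe_zpow, mul_smul, hfix]
    by_cases hu : u ∈ orbit P b <;> by_cases hv : v ∈ orbit P b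
    · exact ⟨y, by simp [hu, hv, Subgroup.smul_def]⟩
    · obtain ⟨g, h1, h2⟩ := hmix v u ((hcov v).resolve_right hv) hu
      exact ⟨g, by rw [if_pos hu, h2], by rw [if_neg hv, h1]⟩
    · obtain ⟨g, h1, h2⟩ := hmix u v ((hcov u).resolve_right hu) hv
      exact ⟨g, by rw [if_neg hu, h1], by rw [if_pos hv, h2]⟩
    · exact ⟨1, by simp [hu, hv]⟩)
  have hcb : ∀ x ∈ orbit P b, c • x = y • x := fun x hx => by
    rw [← hc, Equiv.ofBijective_apply]; simp [f, hx]
  have hca : ∀ x ∈ orbit P a, c • x = x := fun x hx => by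
    rw [← hc, Equiv.ofBijective_apply]; simp [f, hdis x hx]
  have hpowb : ∀ (n : ℕ), ∀ x ∈ orbit P b, ((z : G) * c) ^ n • x = y ^ n • x := by
    intro n
    induction n with
    | zero => intro x _; simp
    | succ n ih =>
      intro x hx
      rw [pow_succ', mul_smul, ih x hx, mul_smul, hcb _ (hsm _ x hx), hzb' _ (hsm y _ (hsm _ x hx)),
        pow_succ', mul_smul]
  have hpowa : ∀ (n : ℕ), ∀ x ∈ orbit P a, ((z : G) * c) ^ n • x = z ^ n • x := by
    intro n
    induction n with
    | zero => intro x _; simp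
    | succ n ih =>
      intro x hx
      have hm : (z ^ n : P) • x ∈ orbit P a := by
        rw [← orbit_eq_iff.2 hx]; exact mem_orbit x _
      rw [pow_succ', mul_smul, ih x hx, mul_smul, hca _ hm, pow_succ', mul_smul]
      rfl
  have hord : orderOf ((z : G) * c) = p := by
    refine orderOf_eq_prime (FaithfulSMul.eq_of_smul_eq_smul (α := Ω) fun x => ?_) fun h => ?_
    · rw [one_smul]
      rcases hcov x with hx | hx
      · rw [hpowa p x hx, ← hzp, pow_orderOf_eq_one, one_smul]
      · rw [hpowb p x hx, hyp x hx]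
    · have := hpowa 1 a (mem_orbit_self a)
      rw [pow_one, h, one_smul, pow_one] at this
      exact hza a (mem_orbit_self a) this.symm
  obtain ⟨x, hx⟩ := hno ((z : G) * c) (by rw [hord]; exact Fact.out)
  rcases hcov x with hxa | hxb
  · rw [mul_smul, hca x hxa] at hx
    exact hza x hxa hx
  · rw [mul_smul, hcb x hxb, hzb' _ (hsm y x hxb)] at hx
    exact hymove x hxb hx

end Cfsg.Agent.Perm.TwoClosedSq
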